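import Cfsg.Agent.MQ.A.Glob.Main
import Cfsg.Agent.H676.RM.Adj
import Cfsg.Agent.MK.A.Six_m3
import Cfsg.Agent.MK.T.D_m3
import Cfsg.Agent.CharactersDeep.Extraspecial
import Cfsg.Agent.Blocks.LocalRing
import Cfsg.Agent.Blocks.ExistsModular
import Cfsg.Agent.Blocks.CentralizerSum
import Cfsg.Agent.H700.PrinCrit
import Cfsg.Agent.S0920
import Cfsg.Agent.S0953
import Cfsg.Agent.S0887
import Cfsg.Agent.S0055
import Cfsg.Agent.Lib.ProductSet
import Cfsg.Agent.S0012
import Cfsg.Agent.S0029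
import Cfsg.Agent.S0173
import Cfsg.Agent.Characters.Clifford
import Mathlib
import Cfsg.Agent.MQ.S.Pc2
import Cfsg.Agent.S0188
import Cfsg.Agent.TAB.Sm2.M11_m3
import Cfsg.Agent.OddOrderCharacters.PF13.SumBound
import Cfsg.Agent.S4558
import Cfsg.Agent.S0145
import Cfsg.Agent.MK.S7.Cov
import Cfsg.Agent.FastGrp
import Cfsg.Agent.Prune
set_option linter.all false
prune_inst 0x7ff0acf98da88ddfdfff7e3ffed8dffdf0a86fffe6dff9cbffe0699f0b9f03210bc56b8f0de810fc8e56e01410b87b13f97ece7fe86bdc7ffffd5ff41ffbee1fa5e7b108519498340f380ffe03f0678e7f3fffffffffffffffffffffffffffffffbdffffffff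
open scoped Cfsg.Agent.FastGrp

-- part: MO/T/C
section
/-!
# MO, tools for the small rows: cyclic quotients (helper78)

* `fx p K Z l g` : the characters of `K` over `l` which are fixed by the conjugation with `g`;
* `kk_cyc` : `n * kk U = ∑ ∑ fx K (g ^ gcd a b)` if `U / K` is cyclic of order `n` prime to `p`;
* `kk_two`, `k0_two` : `2 * kk U = kk K + 3 * fx K g` for index two and odd `p`; `kk_sign` : `2 * kk K = kk U + 3 * b`;
* `fx_eq` : equal counts for the extensions give equal numbers of fixed characters;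
* `fB_eq_fx`, `kk_eq_map`, `exists_sd`, `exists_over`, `fix_of_fixed` : the link with `fA`, `fB`;
* `kk_sub`, `fB_sub`, `fN_sub` : overgroups of the normaliser of a Sylow subgroup.
-/

set_option autoImplicit false

namespace Cfsg.Agent.MO.T

open Cfsg Subgroup Cfsg.Agent.ODD.Red Cfsg.Agent.Characters Cfsg.Agent.Characters.Core Cfsg.Agent.MO.S
open Cfsg.Agent.MK (Ov Fa)
open Cfsg.Agent.MK.T (Con)
open Cfsg.Agent.H261.TI (stab le_stab)

variable {p : ℕ} {G : Type} [Group G]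

/-- the characters of `K` over `l` which are fixed by the conjugation with `g` -/
noncomputable def fx (p : ℕ) (K Z : Subgroup G) (l : G → ℂ) (g : G) : ℕ :=
  Nat.card {ψ : K → ℂ // PI p K ψ ∧ Ov K Z l ψ ∧ ∀ y y' : K, (y' : G) = g * y * g⁻¹ → ψ y' = ψ y}

theorem fx_mul {K : Subgroup G} {k : G} (hk : k ∈ K) (Z : Subgroup G) (l : G → ℂ) (g : G) :
    fx p K Z l (k * g) = fx p K Z l g :=
  card_iff fun _ h => and_congr_right fun _ => by
    have h1 := fix_conj_mul hk (MulAut.conj g) (isIrr_isClassFunction h.1)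
    rw [← map_mul] at h1
    exact h1

theorem fx_one (K Z : Subgroup G) (l : G → ℂ) : fx p K Z l 1 = kk p K Z l :=
  card_iff fun ψ _ => and_iff_left fun y y' h => by rw [show y' = y from Subtype.ext (by simpa using h)]

theorem fx_mem {K : Subgroup G} {k : G} (hk : k ∈ K) (Z : Subgroup G) (l : G → ℂ) : fx p K Z l k = kk p K Z l := by
  rw [← mul_one k, fx_mul hk, fx_one]

theorem fx_subgroupOf {K U : Subgroup G} (h : K ≤ U) (Z : Subgroup G) (l : G → ℂ) (g : U) :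
    fx p (K.subgroupOf U) (Z.subgroupOf U) (fun u => l u) g = fx p K Z l g :=
  card_congr (subgroupOfEquivOfLe h) fun _ _ => and_congr
    ⟨fun h1 z hz => h1 ((subgroupOfEquivOfLe h).symm z) hz, fun h1 z hz => h1 (subgroupOfEquivOfLe h z) hz⟩
    ⟨fun h1 y y' e => h1 ((subgroupOfEquivOfLe h).symm y) ((subgroupOfEquivOfLe h).symm y') (Subtype.ext e),
      fun h1 _ _ e => h1 _ _ (congrArg Subtype.val e)⟩

section top

variable [Finite G] {L : Subgroup G}

/-- **double counting with weights** -/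
theorem dcw [Fintype (IrrCharacter L)] {A' : (G → ℂ) → Prop} {A : (L → ℂ) → Prop} [DecidablePred A] (c : (L → ℂ) → ℕ)
    (hc : ∀ θ, c θ ≠ 0)
    (h : ∀ χ θ, IsIrrCharacter G χ → IsIrrCharacter L θ → _root_.Cfsg.Agent.MK.T.Con L χ θ → (A' χ ↔ A θ) ∧ (A θ → χ 1 = c θ * θ 1)) :
    (Nat.card {χ // IsIrrCharacter G χ ∧ A' χ} : ℂ) =
      ∑ θ : IrrCharacter L with A θ.1, (L.index : ℂ) / (c θ.1 : ℂ) ^ 2 := by
  classical
  have := Fintype.ofFinite G
  have := Fintype.ofFinite L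
  have := finite_irr (G := G)
  have := Fintype.ofFinite (IrrCharacter G)
  let m : IrrCharacter G → IrrCharacter L → ℂ := fun χ θ => classInner (fun n : L => (χ : G → ℂ) n) (θ : L → ℂ)
  have hm : ∀ χ θ, m χ θ ≠ 0 → (A' χ ↔ A θ) ∧ (A θ → (χ : G → ℂ) 1 = c θ * (θ : L → ℂ) 1) := fun χ θ h0 =>
    h _ _ χ.2 θ.2 (by intro i; convert h0)
  have hc' : ∀ θ, (c θ : ℂ) ≠ 0 := fun θ => Nat.cast_ne_zero.2 (hc θ)
  have F1 : ∀ χ : IrrCharacter G, A' χ → ∑ θ : IrrCharacter L with A θ.1, m χ θ / c θ.1 = 1 := by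
    intro χ hχ
    have h1 := congrFun (classFunction_eq_sum (isCharacter_isClassFunction
      (Clifford.isCharacter_restrict L (isIrr_isCharacter χ.2)))) 1
    rw [Finset.sum_apply, OneMemClass.coe_one] at h1
    refine mul_right_cancel₀ (isIrr_apply_one_ne_zero χ.2) ?_
    conv_rhs => rw [one_mul, h1]
    rw [Finset.sum_mul, Finset.sum_filter]
    refine Finset.sum_congr rfl fun θ _ => ?_
    change _ = m χ θ * _
    rcases eq_or_ne (m χ θ) 0 with h0 | h0
    · simp [h0]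
    · rw [if_pos ((hm _ _ h0).1.1 hχ), (hm _ _ h0).2 ((hm _ _ h0).1.1 hχ), ← mul_assoc, div_mul_cancel₀ _ (hc' _)]
  have F2 : ∀ θ : IrrCharacter L, A θ → ∑ χ : IrrCharacter G with A' χ.1, c θ.1 * m χ θ = L.index := by
    intro θ hθ
    have h1 := congrFun (classFunction_eq_sum (Brauer.indFun_isClassFunction L (θ : L → ℂ))) 1
    rw [H649.MN.indFun_one, Finset.sum_apply] at h1
    refine mul_right_cancel₀ (isIrr_apply_one_ne_zero θ.2) ?_
    rw [h1, Finset.sum_mul, Finset.sum_filter]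
    refine Finset.sum_congr rfl fun χ _ => ?_
    obtain ⟨k, hk⟩ := classInner_isNat (Clifford.isCharacter_restrict L (isIrr_isCharacter χ.2))
      (isIrr_isCharacter θ.2)
    rw [Pi.smul_apply, smul_eq_mul, Brauer.classInner_indFun _ _ _ _ (isIrr_isClassFunction χ.2),
      ← classInner_conj_symm, hk, Complex.conj_natCast, ← hk]
    change _ = m χ θ * _
    rcases eq_or_ne (m χ θ) 0 with h0 | h0
    · simp [h0]
    · rw [if_pos ((hm _ _ h0).1.2 hθ), (hm _ _ h0).2 hθ]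
      ring
  have e1 : Nat.card {χ // IsIrrCharacter G χ ∧ A' χ} = (Finset.univ.filter fun χ : IrrCharacter G => A' χ).card := by
    rw [← Fintype.card_subtype, ← Nat.card_eq_fintype_card]
    exact Nat.card_congr ⟨fun χ => ⟨⟨χ.1, χ.2.1⟩, χ.2.2⟩, fun χ => ⟨χ.1.1, χ.1.2, χ.2⟩, fun _ => rfl, fun _ => rfl⟩
  rw [e1, Finset.card_eq_sum_ones, Nat.cast_sum, Nat.cast_one,
    ← Finset.sum_congr rfl fun χ hχ => F1 χ (Finset.mem_filter.1 hχ).2, Finset.sum_comm]
  refine Finset.sum_congr rfl fun θ hθ => ?_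
  rw [← F2 θ (Finset.mem_filter.1 hθ).2, ← Finset.mul_sum, ← Finset.sum_div, pow_two,
    mul_div_mul_left _ _ (hc' _)]

/-- the degrees over a cyclic quotient -/
theorem deg_cyc [L.Normal] (hc : IsCyclic (G ⧸ L)) {χ : G → ℂ} {θ : L → ℂ} (hχ : IsIrrCharacter G χ)
    (hθ : IsIrrCharacter L θ) (h : _root_.Cfsg.Agent.MK.T.Con L χ θ) : χ 1 = (stab L θ).index * θ 1 := by
  classical
  have := Fintype.ofFinite G
  have := Fintype.ofFinite L
  have := Fintype.ofFinite (stab L θ)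
  obtain ⟨ψ, hψ, h1, rfl⟩ := OddOrderCharacters.PF9.CliffGen.exists_ind (T := stab L θ) hθ
    (fun g => ⟨fun e => funext e, fun e => congrFun e⟩) (le_stab hθ) hχ h
  have h2 : (inclusion (le_stab hθ)).range = L.subgroupOf (stab L θ) := inclusion_range _
  have hn : (inclusion (le_stab hθ)).range.Normal := h2 ▸ inferInstance
  have h3 : IsCyclic (stab L θ ⧸ (inclusion (le_stab hθ)).range) := by
    refine isCyclic_of_injective (QuotientGroup.map _ L (stab L θ).subtype h2.le) ?_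
    rw [injective_iff_map_eq_one]
    intro x hx
    obtain ⟨x, rfl⟩ := QuotientGroup.mk_surjective x
    exact (QuotientGroup.eq_one_iff _).2 (h2.ge ((QuotientGroup.eq_one_iff (x : G)).1 hx))
  have h4 := H676.RM.Adj.comp_eq_of_cyclic (inclusion (le_stab hθ)) (inclusion_injective _) hn h3 hθ
    (fun g a a' e => (congrArg θ (Subtype.ext (congrArg (fun u : stab L θ => (u : G)) e))).trans (g.2 a)) hψ
    ((H672.RM.over_resTo _ _ _).2 h1)
  rw [H649.MN.indFun_one, ← congrFun h4 1]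
  rfl

omit [Finite G] in
theorem pow_mem_iff [L.Normal] {g : G} (hg : ∀ x : G, ∃ k : ℕ, x * (g ^ k)⁻¹ ∈ L) {T : Subgroup G} (hT : L ≤ T) (d : ℕ) :
    g ^ d ∈ T ↔ T.index ∣ d := by
  have h1 : T.Normal := ⟨fun t ht x => by
    obtain ⟨i, hi⟩ := hg t
    obtain ⟨j, hj⟩ := hg x
    have h2 : g ^ i ∈ T := by simpa using mul_mem (inv_mem (hT hi)) ht
    have h3 : g ^ j * t * (g ^ j)⁻¹ ∈ T := by
      have h4 := mul_mem (hT (‹L.Normal›.conj_mem _ hi (g ^ j))) h2
      convert h4 using 1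
      group
    have h4 := mul_mem (mul_mem (hT hj) h3) (inv_mem (hT hj))
    convert h4 using 1
    group⟩
  rw [← QuotientGroup.eq_one_iff, QuotientGroup.mk_pow, ← orderOf_dvd_iff_pow_eq_one, index_eq_card,
    orderOf_eq_card_of_forall_mem_zpowers fun x => ?_]
  obtain ⟨x, rfl⟩ := QuotientGroup.mk_surjective x
  obtain ⟨k, hk⟩ := hg x
  refine ⟨k, ?_⟩
  change (g : G ⧸ T) ^ (k : ℤ) = x
  rw [zpow_natCast, ← QuotientGroup.mk_pow, eq_comm, QuotientGroup.eq_iff_div_mem, div_eq_mul_inv]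
  exact hT hk

omit [Finite G] in
theorem cyc_of_gen [L.Normal] {g : G} (hg : ∀ x : G, ∃ k : ℕ, x * (g ^ k)⁻¹ ∈ L) : IsCyclic (G ⧸ L) :=
  ⟨⟨g, fun x => by
    obtain ⟨x, rfl⟩ := QuotientGroup.mk_surjective x
    obtain ⟨k, hk⟩ := hg x
    refine ⟨k, ?_⟩
    change (g : G ⧸ L) ^ (k : ℤ) = x
    rw [zpow_natCast, ← QuotientGroup.mk_pow, eq_comm, QuotientGroup.eq_iff_div_mem, div_eq_mul_inv]
    exact hk⟩⟩

/-- **cyclic quotients**, with side conditions -/
theorem card_cyc [Fact p.Prime] [L.Normal] {g : G} (hg : ∀ x : G, ∃ k : ℕ, x * (g ^ k)⁻¹ ∈ L) (hp : ¬ p ∣ L.index)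
    {r : (G → ℂ) → Prop} {q : (L → ℂ) → Prop}
    (h : ∀ χ θ, IsIrrCharacter G χ → IsIrrCharacter L θ → _root_.Cfsg.Agent.MK.T.Con L χ θ → (r χ ↔ q θ)) :
    L.index * Nat.card {χ // PI p G χ ∧ r χ} = ∑ a ∈ Finset.range L.index, ∑ b ∈ Finset.range L.index,
      Nat.card {θ // PI p L θ ∧ q θ ∧ g ^ Nat.gcd (a + 1) (b + 1) ∈ stab L θ} := by
  classical
  have := finite_irr (G := L)
  have := Fintype.ofFinite (IrrCharacter L)
  have h0 : ∀ θ : L → ℂ, (stab L θ).index ≠ 0 := fun θ => index_ne_zero_of_finite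
  have h1 := dcw (L := L) (A' := fun χ => ¬ p ∣ charDegree χ ∧ r χ) (A := fun θ => ¬ p ∣ charDegree θ ∧ q θ)
    (fun θ => (stab L θ).index) h0 fun χ θ hχ hθ hc => by
      have h2 := deg_cyc (cyc_of_gen hg) hχ hθ hc
      refine ⟨and_congr ?_ (h χ θ hχ hθ hc), fun _ => h2⟩
      rw [apply_one (isIrr_isCharacter hθ), ← Nat.cast_mul] at h2
      rw [charDegree_of h2, nd_mul, and_iff_right (nd_of_dvd hp (index_dvd_of_le (le_stab hθ)))]
  have h2 : ∀ d, Nat.card {θ // PI p L θ ∧ q θ ∧ g ^ d ∈ stab L θ} =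
      ∑ θ : IrrCharacter L with ¬ p ∣ charDegree θ.1 ∧ q θ.1, if (stab L θ.1).index ∣ d then 1 else 0 := fun d => by
    rw [← Finset.card_filter, Finset.filter_filter, ← Fintype.card_subtype, ← Nat.card_eq_fintype_card]
    exact Nat.card_congr ⟨fun θ => ⟨⟨θ.1, θ.2.1.1⟩, ⟨θ.2.1.2, θ.2.2.1⟩, (pow_mem_iff hg (le_stab θ.2.1.1) d).1 θ.2.2.2⟩,
      fun θ => ⟨θ.1.1, ⟨θ.1.2, θ.2.1.1⟩, θ.2.1.2, (pow_mem_iff hg (le_stab θ.1.2) d).2 θ.2.2⟩, fun _ => rfl, fun _ => rfl⟩
  simp only [h2]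
  rw [Finset.sum_congr rfl fun a _ => Finset.sum_comm, Finset.sum_comm]
  apply Nat.cast_injective (R := ℂ)
  rw [Nat.cast_mul, show Nat.card {χ // PI p G χ ∧ r χ} =
    Nat.card {χ // IsIrrCharacter G χ ∧ ¬ p ∣ charDegree χ ∧ r χ} by simp only [PI, and_assoc], h1, Finset.mul_sum,
    Nat.cast_sum]
  refine Finset.sum_congr rfl fun θ _ => ?_
  obtain ⟨m, hm⟩ := index_dvd_of_le (le_stab θ.2)
  have h3 : ∀ a b, (if (stab L θ.1).index ∣ Nat.gcd a b then 1 else 0) =
      (if (stab L θ.1).index ∣ a then 1 else 0) * (if (stab L θ.1).index ∣ b then 1 else 0 : ℕ) := fun a b => by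
    simp only [Nat.dvd_gcd_iff, ite_and]
    split_ifs <;> rfl
  simp only [h3]
  rw [← Finset.sum_mul_sum, ← Finset.card_filter, Nat.card_multiples, hm,
    Nat.mul_div_cancel_left _ (Nat.pos_of_ne_zero (h0 _))]
  have h4 : ((stab L θ.1).index : ℂ) ≠ 0 := Nat.cast_ne_zero.2 (h0 _)
  push_cast
  field_simp

/-- a constituent has the same central character -/
theorem ov_iff_of_con {Z : Subgroup G} (hZ : Z ≤ center G) (hZL : Z ≤ L) (l : G → ℂ) {χ : G → ℂ} {θ : L → ℂ}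
    (hχ : IsIrrCharacter G χ) (hθ : IsIrrCharacter L θ) (h : _root_.Cfsg.Agent.MK.T.Con L χ θ) :
    (∀ z ∈ Z, χ z = l z * χ 1) ↔ Ov L Z l θ := by
  have := Fintype.ofFinite L
  have h1 : ∀ z : L, (z : G) ∈ Z → χ z * θ 1 = θ z * χ 1 := fun z hz => by
    obtain ⟨c, hc, -, -⟩ := exists_central hχ (hZ hz)
    obtain ⟨d, hd, hd', -⟩ := exists_central hθ (z := z)
      (mem_center_iff.2 fun y => Subtype.ext (mem_center_iff.1 (hZ hz) y))
    have h2 : (starRingEnd ℂ) d * d = 1 := by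
      rw [Complex.conj_mul', Complex.norm_eq_one_of_pow_eq_one (hd' _ (pow_orderOf_eq_one z)) (orderOf_pos z).ne']
      simp
    have h3 : classInner (fun n : L => χ n) θ = c * (starRingEnd ℂ) d * classInner (fun n : L => χ n) θ := by
      rw [classInner_def, mul_left_comm, Finset.mul_sum (a := c * _)]
      refine congrArg _ ((Equiv.sum_comp (Equiv.mulLeft z) _).symm.trans (Finset.sum_congr rfl fun y _ => ?_))
      rw [Equiv.coe_mulLeft, coe_mul, hc, hd, map_mul]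
      ring
    have h4 : c * (starRingEnd ℂ) d = 1 := mul_right_cancel₀ h (h3.symm.trans (one_mul _).symm)
    have h5 : c = d := by linear_combination d * h4 - c * h2
    rw [← mul_one (z : G), hc, ← mul_one z, hd, h5]
    ring
  refine ⟨fun h2 z hz => mul_right_cancel₀ (isIrr_apply_one_ne_zero hχ) ?_,
    fun h2 z hz => mul_right_cancel₀ (isIrr_apply_one_ne_zero hθ) ?_⟩
  · rw [← h1 z hz, h2 z hz]; ring
  · rw [h1 ⟨z, hZL hz⟩ hz, h2 ⟨z, hZL hz⟩ hz]; ring

/-- **cyclic quotients** -/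
theorem kk_cyc_top [Fact p.Prime] [L.Normal] {g : G} (hg : ∀ x : G, ∃ k : ℕ, x * (g ^ k)⁻¹ ∈ L) (hp : ¬ p ∣ L.index)
    {Z : Subgroup G} (hZ : Z ≤ center G) (hZL : Z ≤ L) (l : G → ℂ) :
    L.index * kk p ⊤ Z l = ∑ a ∈ Finset.range L.index, ∑ b ∈ Finset.range L.index,
      fx p L Z l (g ^ Nat.gcd (a + 1) (b + 1)) := by
  rw [kk_top, card_cyc hg hp fun χ θ hχ hθ hc => ov_iff_of_con hZ hZL l hχ hθ hc]
  refine Finset.sum_congr rfl fun a _ => Finset.sum_congr rfl fun b _ => card_iff fun θ _ => and_congr_right fun _ =>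
    ⟨fun h y y' e => ?_, fun h y => h _ _ rfl⟩
  rw [← h y]
  exact congrArg θ (Subtype.ext e)

end top

section sub

variable [Finite G] [Fact p.Prime] {K U Z : Subgroup G}

/-- **cyclic quotients**, for subgroups -/
theorem kk_cyc (hKU : K ≤ U) (hU : U ≤ normalizer (K : Set G)) {g : G} (hg : g ∈ U)
    (hgen : ∀ x ∈ U, ∃ k : ℕ, x * (g ^ k)⁻¹ ∈ K) (hp : ¬ p ∣ K.relIndex U) (hZ : ∀ z ∈ Z, ∀ u ∈ U, u * z = z * u)
    (hZK : Z ≤ K) (l : G → ℂ) :
    K.relIndex U * kk p U Z l = ∑ a ∈ Finset.range (K.relIndex U), ∑ b ∈ Finset.range (K.relIndex U),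
      fx p K Z l (g ^ Nat.gcd (a + 1) (b + 1)) := by
  have := (normal_subgroupOf_iff_le_normalizer hKU).2 hU
  rw [← kk_top_sub, relIndex, kk_cyc_top (L := K.subgroupOf U) (Z := Z.subgroupOf U) (g := ⟨g, hg⟩) (fun x => hgen x x.2) hp
    (fun z hz => mem_center_iff.2 fun u => Subtype.ext (hZ z hz u u.2)) (comap_mono hZK)]
  exact Finset.sum_congr rfl fun a _ => Finset.sum_congr rfl fun b _ => fx_subgroupOf hKU Z l _

/-- **index two** -/
theorem kk_two (hp : p ≠ 2) (hKU : K ≤ U) (hi : K.relIndex U = 2) {g : G} (hg : g ∈ U) (hn : g ∉ K)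
    (hZ : ∀ z ∈ Z, ∀ u ∈ U, u * z = z * u) (hZK : Z ≤ K) (l : G → ℂ) :
    2 * kk p U Z l = kk p K Z l + 3 * fx p K Z l g := by
  have h1 := normal_of_index_eq_two hi
  have h2 := kk_cyc (p := p) hKU ((normal_subgroupOf_iff_le_normalizer hKU).1 h1) hg (fun x hx => by
    by_cases h : x ∈ K
    · exact ⟨0, by simpa using h⟩
    · refine ⟨1, ?_⟩
      rw [pow_one]
      exact (mul_mem_iff_of_index_two hi (a := ⟨x, hx⟩) (b := ⟨g, hg⟩⁻¹)).2
        (iff_of_false h fun e => hn (inv_mem_iff.1 e)))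
    (hi ▸ fun h => hp ((Nat.prime_dvd_prime_iff_eq Fact.out Nat.prime_two).1 h)) hZ hZK l
  have h3 : g ^ 2 ∈ K := sq_mem_of_index_two hi ⟨g, hg⟩
  simp only [hi, Finset.sum_range_succ, Finset.sum_range_zero] at h2
  norm_num at h2
  rw [h2, fx_mem h3]
  ring

theorem k0_two (hp : p ≠ 2) (hKU : K ≤ U) (hi : K.relIndex U = 2) {g : G} (hg : g ∈ U) (hn : g ∉ K) :
    2 * k0 p U = k0 p K + 3 * fN p K (MulAut.conj g) := by
  have h := kk_two hp hKU hi hg hn (Z := ⊥) (fun z hz u _ => by rw [mem_bot.1 hz, mul_one, one_mul]) bot_le fun _ => 1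
  rw [kk_bot _ rfl, kk_bot _ rfl] at h
  rw [h]
  congr 2
  exact card_iff fun ψ _ => and_iff_right fun z hz => by
    rw [show z = 1 from Subtype.ext (mem_bot.1 hz), one_mul]

/-- **index two**, the characters which vanish outside of the subgroup -/
theorem kk_sign (hp : p ≠ 2) (hKU : K ≤ U) (hi : K.relIndex U = 2) (hZ : ∀ z ∈ Z, ∀ u ∈ U, u * z = z * u) (hZK : Z ≤ K)
    (l : G → ℂ) : 2 * kk p K Z l =
      kk p U Z l + 3 * Nat.card {χ : U → ℂ // PI p U χ ∧ Ov U Z l χ ∧ ∀ u : U, (u : G) ∉ K → χ u = 0} := by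
  classical
  have h1 := normal_of_index_eq_two hi
  obtain ⟨g, hn⟩ : ∃ g : U, g ∉ K.subgroupOf U := by
    by_contra h
    rw [relIndex, index_eq_one.2 (eq_top_iff.2 fun β _ => by_contra fun e => h ⟨β, e⟩)] at hi
    omega
  have h2 := kk_two hp hKU hi g.2 hn hZ hZK l
  have hZ' : Z.subgroupOf U ≤ center U := fun z hz => mem_center_iff.2 fun u => Subtype.ext (hZ z hz u u.2)
  have h3 := card_cyc (p := p) (L := K.subgroupOf U) (g := g) (fun x => by
    by_cases h : x ∈ K.subgroupOf U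
    · exact ⟨0, by simpa using h⟩
    · refine ⟨1, ?_⟩
      rw [pow_one]
      exact (mul_mem_iff_of_index_two hi).2 (iff_of_false h fun e => hn (inv_mem_iff.1 e)))
    ((show (K.subgroupOf U).index = 2 from hi) ▸ fun h => hp ((Nat.prime_dvd_prime_iff_eq Fact.out Nat.prime_two).1 h))
    (r := fun χ => Ov U Z l χ ∧ ∀ u : U, (u : G) ∉ K → χ u = 0)
    (q := fun θ => Ov (K.subgroupOf U) (Z.subgroupOf U) (fun u => l u) θ ∧ g ∉ stab (K.subgroupOf U) θ)
    fun χ θ hχ hθ (hc : Con _ χ θ) => and_congr ((⟨fun h z hz => h z hz, fun h z hz => h z hz⟩ : _ ↔ _).trans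
      (ov_iff_of_con hZ' (comap_mono hZK) (fun u => l u) hχ hθ @hc)) (by
      have := Fintype.ofFinite U
      have := Fintype.ofFinite (K.subgroupOf U)
      have h4 := MK.T.con_cases Nat.prime_two hi hn hχ hθ @hc
      rcases H614.restrict_two _ hi hχ hθ hc with h5 | h5
      · refine iff_of_false (fun h6 => ?_) (not_not.2 fun x => by
          rw [← h5, ← h5]; exact isIrr_isClassFunction hχ x g)
        obtain ⟨a, ha⟩ := H676.RM.Adj.exists_ne_zero (K.subgroupOf U).subtype (subtype_injective _)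
          (by rwa [range_subtype]) hχ (by rwa [show χ ∘ (K.subgroupOf U).subtype = θ from funext h5]) g
        exact ha (h6 _ fun e => hn ((mul_mem_cancel_left a.2).1 e))
      · exact iff_of_true h5.2 (h4.elim (fun h6 => absurd (by linear_combination h6.2 - h5.1)
          (isIrr_apply_one_ne_zero hθ)) And.left))
  have h4 : ∀ d, d = 1 → Nat.card {θ // PI p (K.subgroupOf U) θ ∧ (Ov (K.subgroupOf U) (Z.subgroupOf U) (fun u => l u) θ ∧
      g ∉ stab (K.subgroupOf U) θ) ∧ g ^ d ∈ stab (K.subgroupOf U) θ} = 0 := fun d hd =>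
    have : IsEmpty {θ // PI p (K.subgroupOf U) θ ∧ (Ov (K.subgroupOf U) (Z.subgroupOf U) (fun u => l u) θ ∧
      g ∉ stab (K.subgroupOf U) θ) ∧ g ^ d ∈ stab (K.subgroupOf U) θ} := ⟨fun θ => θ.2.2.1.2 (by simpa [hd] using θ.2.2.2)⟩
    Nat.card_of_isEmpty
  rw [show (K.subgroupOf U).index = 2 from hi, Finset.sum_range_succ, Finset.sum_range_one, Finset.sum_range_succ,
    Finset.sum_range_one, Finset.sum_range_succ, Finset.sum_range_one, h4 (Nat.gcd (0 + 1) (0 + 1)) rfl,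
    h4 (Nat.gcd (0 + 1) (1 + 1)) rfl, h4 (Nat.gcd (1 + 1) (0 + 1)) rfl] at h3
  have h5 : kk p K Z l = fx p K Z l g + Nat.card {θ // PI p (K.subgroupOf U) θ ∧
      (Ov (K.subgroupOf U) (Z.subgroupOf U) (fun u => l u) θ ∧ g ∉ stab (K.subgroupOf U) θ) ∧
        g ^ Nat.gcd (1 + 1) (1 + 1) ∈ stab (K.subgroupOf U) θ} := by
    rw [← fx_subgroupOf hKU, ← kk_subgroupOf hKU, fx, ← @MK.T.card_or _ _ _ (finite_pi _) (finite_pi _)
      fun θ h6 h7 => h7.2.1.2 fun y => h6.2.2 _ _ rfl]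
    refine Nat.card_congr (Equiv.subtypeEquivRight fun θ => ⟨fun h => ?_, fun h => h.elim
      (fun h => ⟨h.1, h.2.1⟩) fun h => ⟨h.1, h.2.1.1⟩⟩)
    by_cases h6 : g ∈ stab (K.subgroupOf U) θ
    · exact Or.inl ⟨h.1, h.2, fun y y' e => (congrArg θ (Subtype.ext e)).trans (h6 y)⟩
    · exact Or.inr ⟨h.1, ⟨h.2, h6⟩, le_stab h.1.1 (sq_mem_of_index_two hi g)⟩
  omega

omit [Finite G] [Fact p.Prime] in
theorem pow_mem_rel (hKU : K ≤ U) (hU : U ≤ normalizer (K : Set G)) {g : G} (hg : g ∈ U)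
    (hgen : ∀ x ∈ U, ∃ k : ℕ, x * (g ^ k)⁻¹ ∈ K) (d : ℕ) : g ^ d ∈ K ↔ K.relIndex U ∣ d :=
  have := (normal_subgroupOf_iff_le_normalizer hKU).2 hU
  pow_mem_iff (L := K.subgroupOf U) (g := ⟨g, hg⟩) (fun x => hgen x x.2) le_rfl d

omit [Finite G] [Fact p.Prime] in
theorem fix_pow {g : G} (hg : g ∈ normalizer (K : Set G)) {ψ : K → ℂ}
    (h : ∀ y y' : K, (y' : G) = g * y * g⁻¹ → ψ y' = ψ y) (k : ℕ) :
    ∀ y y' : K, (y' : G) = g ^ k * y * (g ^ k)⁻¹ → ψ y' = ψ y := by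
  induction k with
  | zero => exact fun y y' e => congrArg ψ (Subtype.ext (by simpa using e))
  | succ k ih =>
    intro y y' e
    rw [← h y ⟨_, (mem_normalizer_iff.1 hg y).1 y.2⟩ rfl]
    refine ih _ _ ?_
    rw [e, pow_succ]
    group

omit [Finite G] [Fact p.Prime] in
theorem fx_pow {g : G} (hg : g ∈ normalizer (K : Set G)) {n d : ℕ} (hn : g ^ n ∈ K) (hd : d.Coprime n) (h0 : n ≠ 0)
    (l : G → ℂ) : fx p K Z l (g ^ d) = fx p K Z l g := by
  obtain ⟨u, -, hu⟩ := Nat.exists_mul_mod_eq_of_coprime 1 hd h0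
  refine card_iff fun ψ hψ => and_congr_right fun _ => ⟨fun h => ?_, fun h => fix_pow hg h d⟩
  have h1 := (fix_conj_mul (mul_mem (pow_mem hn (1 / n)) (inv_mem (pow_mem hn (d * u / n))))
    (MulAut.conj ((g ^ d) ^ u)) (isIrr_isClassFunction hψ.1)).2 (fix_pow (pow_mem hg d) h u)
  have h2 : (g ^ n) ^ (1 / n) * ((g ^ n) ^ (d * u / n))⁻¹ * (g ^ d) ^ u = g := by
    have h3 : (g ^ d) ^ u = (g ^ n) ^ (d * u / n) * g ^ (1 % n) := by
      rw [← pow_mul, ← pow_mul, ← pow_add, ← hu, Nat.div_add_mod]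
    rw [h3, ← mul_assoc, inv_mul_cancel_right, ← pow_mul, ← pow_add, Nat.div_add_mod, pow_one]
  rw [← map_mul, h2] at h1
  exact h1

omit [Fact p.Prime] in
theorem gen_sup {L : Subgroup G} [L.Normal] (g : G) : ∀ x ∈ L ⊔ zpowers g, ∃ k : ℕ, x * (g ^ k)⁻¹ ∈ L := fun x hx => by
  rw [← SetLike.mem_coe, normal_mul] at hx
  obtain ⟨y, hy, u, hu, rfl⟩ := hx
  obtain ⟨k, rfl⟩ := mem_powers_iff_mem_zpowers.2 hu
  exact ⟨k, by simpa using hy⟩

/-- **equal counts for the extensions give equal numbers of fixed characters** -/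
theorem fx_eq {L H : Subgroup G} [L.Normal] (hZ : Z ≤ center G) (hZL : Z ≤ H ⊓ L) (l : G → ℂ)
    (h : ∀ g ∈ H, ¬ p ∣ L.relIndex (L ⊔ zpowers g) →
      kk p (L ⊔ zpowers g : Subgroup G) Z l = kk p (H ⊓ (L ⊔ zpowers g) : Subgroup G) Z l)
    {g : G} (hg : g ∈ H) (hp : ¬ p ∣ L.relIndex (L ⊔ zpowers g)) :
    fx p L Z l g = fx p (H ⊓ L : Subgroup G) Z l g := by
  have pw : ∀ (g : G) (d : ℕ), g ^ d ∈ L ↔ L.relIndex (L ⊔ zpowers g) ∣ d := fun g d =>
    pow_mem_rel le_sup_left le_normalizer_of_normal (mem_sup_right (mem_zpowers g)) (gen_sup g) d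
  generalize hn : L.relIndex (L ⊔ zpowers g) = n at hp
  induction n using Nat.strong_induction_on generalizing g with
  | _ n ih =>
  have h0 : n ≠ 0 := hn ▸ H672.RM.rne _ _
  have a1 : H ⊓ L ≤ H ⊓ (L ⊔ zpowers g) := inf_le_inf_left _ le_sup_left
  have a0 : ∀ x ∈ H, x ∈ normalizer ((H ⊓ L : Subgroup G) : Set G) := fun x hx => mem_normalizer_fintype fun y hy =>
    (mem_inf.2 ⟨mul_mem (mul_mem hx (mem_inf.1 hy).1) (inv_mem hx), ‹L.Normal›.conj_mem _ (mem_inf.1 hy).2 x⟩ :)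
  have a2 : H ⊓ (L ⊔ zpowers g) ≤ normalizer ((H ⊓ L : Subgroup G) : Set G) := fun x hx => a0 x (mem_inf.1 hx).1
  have a3 : g ∈ H ⊓ (L ⊔ zpowers g) := mem_inf.2 ⟨hg, mem_sup_right (mem_zpowers g)⟩
  have a4 : ∀ x ∈ H ⊓ (L ⊔ zpowers g), ∃ k : ℕ, x * (g ^ k)⁻¹ ∈ H ⊓ L := fun x hx =>
    (gen_sup g x (mem_inf.1 hx).2).imp fun k hk => mem_inf.2 ⟨mul_mem (mem_inf.1 hx).1 (inv_mem (pow_mem hg k)), hk⟩
  have a5 : g ^ n ∈ L := (pw g n).2 hn.dvd
  have h1 : (H ⊓ L).relIndex (H ⊓ (L ⊔ zpowers g)) = n :=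
    Nat.dvd_antisymm ((pow_mem_rel a1 a2 a3 a4 n).1 (mem_inf.2 ⟨pow_mem hg n, a5⟩))
      (hn ▸ (pw g _).1 (mem_inf.1 ((pow_mem_rel a1 a2 a3 a4 _).2 dvd_rfl)).2)
  have h2 := kk_cyc (p := p) (K := L) (U := L ⊔ zpowers g) le_sup_left le_normalizer_of_normal
    (mem_sup_right (mem_zpowers g)) (gen_sup g) (hn ▸ hp) (fun z hz u _ => mem_center_iff.1 (hZ hz) u)
    (hZL.trans inf_le_right) l
  have h3 := kk_cyc (p := p) a1 a2 a3 a4 (h1 ▸ hp) (fun z hz u _ => mem_center_iff.1 (hZ hz) u) hZL l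
  rw [h1, ← h g hg (hn ▸ hp)] at h3
  rw [hn, h3] at h2
  have h4 : ∀ d, fx p L Z l (g ^ d) = fx p (H ⊓ L : Subgroup G) Z l (g ^ d) ∨
      fx p L Z l (g ^ d) = fx p L Z l g ∧
        fx p (H ⊓ L : Subgroup G) Z l (g ^ d) = fx p (H ⊓ L : Subgroup G) Z l g := fun d => by
    by_cases hd : d.Coprime n
    · exact Or.inr ⟨fx_pow (le_normalizer_of_normal (mem_top g)) a5 hd h0 l,
        fx_pow (a0 g hg) (mem_inf.2 ⟨pow_mem hg n, a5⟩) hd h0 l⟩
    · obtain ⟨m, hm⟩ := Nat.gcd_dvd_right d n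
      obtain ⟨c, hc⟩ := Nat.gcd_dvd_left d n
      have h5 : L.relIndex (L ⊔ zpowers (g ^ d)) ∣ m := by
        rw [← pw, ← pow_mul, hc, mul_right_comm, ← hm, pow_mul]
        exact pow_mem a5 c
      have h6 : m ≠ 0 := fun e => h0 (by rw [hm, e, mul_zero])
      have h7 : 1 < d.gcd n := lt_of_le_of_ne (Nat.gcd_pos_of_pos_right d (Nat.pos_of_ne_zero h0)) (Ne.symm hd)
      exact Or.inl (ih _ ((Nat.le_of_dvd (Nat.pos_of_ne_zero h6) h5).trans_lt (by
        rw [hm]; exact lt_mul_of_one_lt_left (Nat.pos_of_ne_zero h6) h7)) (pow_mem hg d) rfl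
        (nd_of_dvd hp (h5.trans ⟨_, hm.trans (mul_comm _ _)⟩)))
  have h5 : 0 ∈ Finset.range n := Finset.mem_range.2 (Nat.pos_of_ne_zero h0)
  by_contra h6
  rcases lt_or_gt_of_ne h6 with h7 | h7
  · refine (Finset.sum_lt_sum (fun a _ => Finset.sum_le_sum fun b _ => ?_) ⟨0, h5, Finset.sum_lt_sum
      (fun b _ => ?_) ⟨0, h5, by simpa only [_root_.zero_add, _root_.Nat.gcd_self, _root_.pow_one] using h7⟩⟩).ne' h2 <;>
    exact (h4 _).elim le_of_eq fun e => by rw [e.1, e.2]; exact h7.le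
  · refine (Finset.sum_lt_sum (fun a _ => Finset.sum_le_sum fun b _ => ?_) ⟨0, h5, Finset.sum_lt_sum
      (fun b _ => ?_) ⟨0, h5, by simpa only [_root_.zero_add, _root_.Nat.gcd_self, _root_.pow_one] using h7⟩⟩).ne h2 <;>
    exact (h4 _).elim ge_of_eq fun e => by rw [e.1, e.2]; exact h7.le

end sub

/-! ### automorphisms -/

section aut

variable {X A : Type} [Group X] [Group A]

/-- `fB` in an overgroup which induces the automorphism -/
theorem fB_eq_fx (j : X →* A) (hj : Function.Injective j) (K : Subgroup X) {l : X → ℂ} {l' : A → ℂ}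
    (hl : ∀ z ∈ center X, l' (j z) = l z) {α : MulAut X} {a : A} (h : ∀ x, j (α x) = a * j x * a⁻¹) :
    fB p K l α = fx p (K.map j) ((center X).map j) l' a := by
  refine card_congr (equivMapOfInjective K j hj) fun ψ _ => and_congr ⟨fun h1 z hz => ?_, fun h1 z hz => ?_⟩
    ⟨fun h1 y y' e => ?_, fun h1 y y' e => h1 _ _ ?_⟩
  · obtain ⟨y, rfl⟩ := (equivMapOfInjective K j hj).surjective z
    have h2 : (y : X) ∈ center X := (mem_map_iff_mem hj).1 hz
    have h3 := h1 y h2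
    beta_reduce at h3
    rwa [map_one, ← hl _ h2] at h3
  · have h3 := h1 (equivMapOfInjective K j hj z) (mem_map_of_mem j hz)
    beta_reduce
    rw [map_one, ← hl _ hz]
    exact h3
  · obtain ⟨z, rfl⟩ := (equivMapOfInjective K j hj).surjective y
    obtain ⟨z', rfl⟩ := (equivMapOfInjective K j hj).surjective y'
    exact h1 _ _ (hj (e.trans (h z).symm))
  · exact (congrArg j e).trans (h y)

theorem kk_eq_map (j : X →* A) (hj : Function.Injective j) (K : Subgroup X) {l : X → ℂ} {l' : A → ℂ}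
    (hl : ∀ z ∈ center X, l' (j z) = l z) : kk p K (center X) l = kk p (K.map j) ((center X).map j) l' := by
  rw [← fB_one, fB_eq_fx j hj K hl (a := 1) fun x => by simp, fx_one]

theorem exists_lift (j : X →* A) (hj : Function.Injective j) (l : X → ℂ) : ∃ l' : A → ℂ, ∀ z, l' (j z) = l z :=
  ⟨Function.extend j l 0, hj.extend_apply _ _⟩

theorem conj_pow_of {j : X →* A} {α : MulAut X} {u : A} (hu : ∀ x, j (α x) = u * j x * u⁻¹) (k : ℕ) (x : X) :
    j ((α ^ k) x) = u ^ k * j x * (u ^ k)⁻¹ := by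
  induction k with
  | zero => simp
  | succ k ih =>
    rw [pow_succ', MulAut.mul_apply, hu, ih, pow_succ']
    group

theorem cen_of_gen {j : X →* A} {α : MulAut X} {u : A} (hu : ∀ x, j (α x) = u * j x * u⁻¹)
    (hg : ∀ w : A, ∃ k : ℕ, w * (u ^ k)⁻¹ ∈ j.range) {z : X} (hz : z ∈ center X) (h : α z = z) : j z ∈ center A := by
  refine mem_center_iff.2 fun w => ?_
  obtain ⟨k, y, hy⟩ := hg w
  have h1 : Commute u (j z) := mul_inv_eq_iff_eq_mul.1 ((hu z).symm.trans (congrArg j h))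
  rw [← inv_mul_cancel_right w (u ^ k), ← hy, mul_assoc, (h1.pow_left k).eq, ← mul_assoc, ← map_mul,
    mem_center_iff.1 hz, map_mul, mul_assoc]

theorem exists_over {K : Subgroup A} {a : A} (ha : a ∈ normalizer (K : Set A)) (h2 : a * a ∈ K) (hn : a ∉ K) :
    ∃ U : Subgroup A, (∀ w, w ∈ U ↔ w ∈ K ∨ w * a ∈ K) ∧ K.relIndex U = 2 := by
  have k1 : ∀ g ∈ K, a * g * a⁻¹ ∈ K := fun g => (mem_normalizer_iff.1 ha g).1
  have k2 : ∀ g ∈ K, a⁻¹ * g * a ∈ K := fun g => (mem_normalizer_iff''.1 ha g).1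
  let U : Subgroup A :=
    { carrier := {g | g ∈ K ∨ g * a ∈ K}
      one_mem' := Or.inl (one_mem _)
      mul_mem' := by
        rintro x y (hx | hx) (hy | hy)
        · exact Or.inl (mul_mem hx hy)
        · exact Or.inr (by rw [mul_assoc]; exact mul_mem hx hy)
        · exact Or.inr (by convert mul_mem hx (k2 _ hy) using 1; group)
        · exact Or.inl (by convert mul_mem (mul_mem hx (k2 _ hy)) (inv_mem h2) using 1; group)
      inv_mem' := by
        rintro x (hx | hx)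
        · exact Or.inl (inv_mem hx)
        · exact Or.inr (by convert mul_mem (k1 _ (inv_mem hx)) h2 using 1; group) }
  refine ⟨U, fun _ => Iff.rfl, index_eq_two_iff.2 ⟨⟨a, Or.inr h2⟩, fun b => ?_⟩⟩
  have h5 : ¬ ((b : A) * a ∈ K ∧ (b : A) ∈ K) := fun h => hn ((mul_mem_cancel_left h.2).1 h.1)
  have h6 : (b : A) ∈ K ∨ (b : A) * a ∈ K := b.2
  show Xor ((b : A) * a ∈ K) ((b : A) ∈ K)
  unfold Xor
  itauto

variable [Finite X]

/-- the semidirect product with the group generated by an automorphism -/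
theorem exists_sd (α : MulAut X) : ∃ (W : Type) (_ : Group W) (_ : Finite W) (j : X →* W) (u : W),
    Function.Injective j ∧ j.range.Normal ∧ (∀ x, j (α x) = u * j x * u⁻¹) ∧
      (∀ w : W, ∃ k : ℕ, w * (u ^ k)⁻¹ ∈ j.range) ∧ u ^ orderOf α = 1 := by
  refine ⟨X ⋊[(zpowers α).subtype] zpowers α, inferInstance,
    Finite.of_equiv _ (SemidirectProduct.equivProd (φ := (zpowers α).subtype)).symm, SemidirectProduct.inl,
    SemidirectProduct.inr ⟨α, mem_zpowers α⟩, SemidirectProduct.inl_injective, ?_, fun x => ?_, fun w => ?_, ?_⟩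
  · rw [SemidirectProduct.range_inl_eq_ker_rightHom]
    infer_instance
  · rw [← map_inv]
    exact SemidirectProduct.inl_aut (φ := (zpowers α).subtype) ⟨α, mem_zpowers α⟩ x
  · obtain ⟨k, hk⟩ := mem_powers_iff_mem_zpowers.2 w.right.2
    refine ⟨k, w.left, ?_⟩
    rw [eq_mul_inv_iff_mul_eq, ← map_pow, show (⟨α, mem_zpowers α⟩ : zpowers α) ^ k = w.right from Subtype.ext hk]
    exact SemidirectProduct.inl_left_mul_inr_right w
  · rw [← map_pow, show (⟨α, mem_zpowers α⟩ : zpowers α) ^ orderOf α = 1 from Subtype.ext (pow_orderOf_eq_one α),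
      map_one]

/-- the obstruction for the extension of degree two vanishes if a faithful character is fixed -/
theorem fix_of_fixed {K : Subgroup X} (hK : center X ≤ K) {α : MulAut X} (hα : ∀ x, α x ∈ K ↔ x ∈ K)
    (hf : ∀ z ∈ center X, α z = z) {t : X} (ht : t ∈ K) (h1 : ∀ x, α (α x) = t * x * t⁻¹) {l : X → ℂ}
    (hl : Fa (center X) l) (h : fB p K l α ≠ 0) : α t = t := by
  obtain ⟨ψ, h2, h3, h4⟩ := (Nat.card_ne_zero.1 h).1
  obtain ⟨W, _, _, j, u, hj, hn, hu, hg, -⟩ := exists_sd (MK.T.res K α hα)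
  have h5 : ∀ (k : ℕ) (x : K), ψ ((MK.T.res K α hα ^ k) x) = ψ x := fun k => by
    induction k with
    | zero => exact fun _ => rfl
    | succ k ih => exact fun x => by rw [pow_succ']; exact (h4 _ _ rfl).trans (ih x)
  obtain ⟨η, hη, he⟩ := H676.RM.Adj.exists_ext j hj hn (cyc_of_gen hg) h2.1 fun g a a' e => by
    obtain ⟨k, y, hy⟩ := hg g
    have h6 : a' = y * (MK.T.res K α hα ^ k) a * y⁻¹ := hj (by
      rw [e, map_mul, map_mul, map_inv, conj_pow_of hu, hy]
      group)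
    rw [h6, isIrr_isClassFunction h2.1, h5]
  obtain ⟨a, ha⟩ := H676.RM.Adj.exists_ne_zero j hj hn hη (he ▸ h2.1) u
  have hz : t⁻¹ * α t ∈ center X := mem_center_iff.2 fun x => by
    obtain ⟨x, rfl⟩ := α.surjective x
    have h6 := congrArg α (h1 x)
    rw [h1, map_mul, map_mul, map_inv] at h6
    calc α x * (t⁻¹ * α t) = t⁻¹ * (t * α x * t⁻¹) * α t := by group
      _ = t⁻¹ * α t * α x := by rw [h6]; group
  have h6 : ∀ x : K, u * (u * j x * u⁻¹) * u⁻¹ = j ⟨t, ht⟩ * j x * (j ⟨t, ht⟩)⁻¹ := fun x => by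
    rw [← hu, ← hu, ← map_inv, ← map_mul, ← map_mul]
    exact congrArg j (Subtype.ext (h1 x))
  have h7 : j ⟨_, hK hz⟩ = (j ⟨t, ht⟩)⁻¹ * (u * j ⟨t, ht⟩ * u⁻¹) := by
    rw [← hu, ← map_inv, ← map_mul]
    rfl
  have h8 : j ⟨_, hK hz⟩ ∈ center W :=
    cen_of_gen hu hg (mem_center_iff.2 fun y => Subtype.ext (mem_center_iff.1 hz y)) (Subtype.ext (hf _ hz))
  obtain ⟨c, hc, -⟩ := exists_central hη h8
  have h9 : c = 1 := by
    refine mul_right_cancel₀ ha ?_
    rw [← hc, one_mul, ← mul_assoc, ← mem_center_iff.1 h8, ← isIrr_isClassFunction hη (j a * u) ((j ⟨t, ht⟩)⁻¹ * u * u)]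
    refine congrArg η ?_
    calc _ = (j ⟨t, ht⟩)⁻¹ * (j ⟨t, ht⟩ * j a * (j ⟨t, ht⟩)⁻¹) * u * j ⟨t, ht⟩ := by rw [h7]; group
      _ = _ := by rw [← h6]; group
  have h10 := hc 1
  rw [mul_one, h9, one_mul, ← map_one j] at h10
  have h11 := h3 ⟨_, hK hz⟩ hz
  rw [← he, Function.comp_apply, Function.comp_apply, h10] at h11
  exact (inv_mul_eq_one.1 (hl _ hz (mul_right_cancel₀ (by rw [map_one]; exact isIrr_apply_one_ne_zero hη)
    (h11.symm.trans (one_mul _).symm)))).symm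

/-- **an overgroup of the normaliser of a Sylow subgroup**, the fixed characters -/
theorem fB_sub [Fact p.Prime] (hp : p ≠ 2) {n : ℕ} (ih : IH p n) (Q : Sylow p X) {K : Subgroup X}
    (hK : normalizer ((Q : Subgroup X) : Set X) ≤ K) (hn : 2 * (center X).relIndex K < n) {α : MulAut X}
    (hf : ∀ z ∈ center X, α z = z) (hαQ : ∀ x, α x ∈ (Q : Subgroup X) ↔ x ∈ (Q : Subgroup X))
    (hα : ∀ x, α x ∈ K ↔ x ∈ K) {t : X} (h1 : ∀ x, α (α x) = t * x * t⁻¹) {l : X → ℂ} (hl : Fa (center X) l) :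
    fB p K l α = fB p (normalizer ((Q : Subgroup X) : Set X)) l α := by
  have hN := center_le_normalizer ((Q : Subgroup X) : Set X)
  have ht : t ∈ normalizer ((Q : Subgroup X) : Set X) := mem_normalizer_iff.2 fun y => by rw [← h1, hαQ, hαQ]
  by_cases h2 : α t = t
  swap
  · rw [by_contra fun e => h2 (fix_of_fixed (hN.trans hK) hα hf (hK ht) h1 hl e),
      by_contra fun e => h2 (fix_of_fixed hN (MK.T.stab_norm hαQ) hf ht h1 hl e)]
  obtain ⟨W, _, _, j, a, hj, hi, ha, hu, h3⟩ := MK.A.exists_two h1 h2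
  obtain ⟨l', hl'⟩ := exists_lift j hj l
  have hg : ∀ w : W, ∃ k : ℕ, w * (a ^ k)⁻¹ ∈ j.range := fun w => by
    by_cases h : w ∈ j.range
    · exact ⟨0, by simpa only [_root_.pow_zero, _root_.inv_one, _root_.mul_one, _root_.MonoidHom.mem_range] using h⟩
    · exact ⟨1, by
        rw [pow_one]
        exact (mul_mem_iff_of_index_two hi).2 (iff_of_false h fun e => ha (inv_mem_iff.1 e))⟩
  have hc : ∀ z ∈ (center X).map j, ∀ w : W, w * z = z * w := by
    rintro _ ⟨z, hz, rfl⟩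
    exact mem_center_iff.1 (cen_of_gen hu hg hz (hf z hz))
  have nm : ∀ L : Subgroup X, (∀ x, α x ∈ L ↔ x ∈ L) → a ∈ normalizer ((L.map j : Subgroup W) : Set W) := fun L hL =>
    mem_normalizer_fintype (by
      rintro _ ⟨x, hx, rfl⟩
      exact ⟨α x, (hL x).2 hx, hu x⟩)
  have hn' : ∀ L : Subgroup X, a ∉ L.map j := fun L e => ha (map_le_range j L e)
  obtain ⟨U, hU, iU⟩ := exists_over (nm K hα) ⟨t, hK ht, h3.symm⟩ (hn' K)
  obtain ⟨V, hV, iV⟩ := exists_over (nm _ (MK.T.stab_norm hαQ)) ⟨t, ht, h3.symm⟩ (hn' _)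
  have lU : K.map j ≤ U := fun w hw => (hU w).2 (Or.inl hw)
  have lV : (normalizer ((Q : Subgroup X) : Set X)).map j ≤ V := fun w hw => (hV w).2 (Or.inl hw)
  have e1 := kk_two hp lU iU ((hU a).2 (Or.inr ⟨t, hK ht, h3.symm⟩)) (hn' K) (fun z hz u _ => hc z hz u)
    (map_mono (hN.trans hK)) l'
  have e2 := kk_two hp lV iV ((hV a).2 (Or.inr ⟨t, ht, h3.symm⟩)) (hn' _) (fun z hz u _ => hc z hz u) (map_mono hN) l'
  have hQ : (Q : Subgroup X) ≤ K := le_normalizer.trans hK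
  have h4 : ¬ p ∣ (Q : Subgroup X).relIndex K := nd_of_dvd Q.not_dvd_index (relIndex_dvd_index_of_le hQ)
  have key : ∀ w ∈ K.map j, w ∈ normalizer (((Q : Subgroup X).map j : Subgroup W) : Set W) →
      w ∈ (normalizer ((Q : Subgroup X) : Set X)).map j := by
    rintro _ ⟨x, -, rfl⟩ hx
    exact ⟨x, mem_normalizer_iff.2 fun y => by
      rw [← mem_map_iff_mem hj, mem_normalizer_iff.1 hx, ← map_inv, ← map_mul, ← map_mul, mem_map_iff_mem hj], rfl⟩
  have e3 := ih.sub (K := U) (H := V) (P := (Q : Subgroup X).map j) ((map_mono hN).trans lV)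
    (fun w hw => (hU w).2 (((hV w).1 hw).imp (fun h => map_mono hK h) fun h => map_mono hK h))
    (fun z hz u _ => hc z hz u) (by
      rwa [← relIndex_mul_relIndex _ _ _ (map_mono (hN.trans hK)) lU, iU, relIndex_map_map_of_injective _ _ hj,
        mul_comm])
    ((map_mono hQ).trans lU) (Q.isPGroup'.map j) (by
      rw [← relIndex_mul_relIndex _ _ _ (map_mono hQ) lU, iU, relIndex_map_map_of_injective _ _ hj]
      exact nd_mul' h4 fun h => hp ((Nat.prime_dvd_prime_iff_eq Fact.out Nat.prime_two).1 h))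
    (fun w hw => (hV w).2 (((hU w).1 (mem_inf.1 hw).1).imp (fun h => key w h (mem_inf.1 hw).2)
      fun h => key _ h (mul_mem (mem_inf.1 hw).2 (nm _ hαQ)))) l'
  have e4 := ih.sub (K := K) (P := Q) hN hK (fun z hz u _ => mem_center_iff.1 hz u) (by omega) hQ Q.isPGroup' h4
    inf_le_right l
  rw [← kk_eq_map j hj _ fun z _ => hl' z, ← fB_eq_fx j hj _ (fun z _ => hl' z) hu] at e1 e2
  omega

/-- the same for all characters -/
theorem kk_sub [Fact p.Prime] {n : ℕ} (ih : IH p n) (Q : Sylow p X) {K : Subgroup X}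
    (hK : normalizer ((Q : Subgroup X) : Set X) ≤ K) (hn : (center X).relIndex K < n) (l : X → ℂ) :
    kk p K (center X) l = kk p (normalizer ((Q : Subgroup X) : Set X)) (center X) l :=
  have hQ : (Q : Subgroup X) ≤ K := le_normalizer.trans hK
  ih.sub (K := K) (P := Q) (center_le_normalizer _) hK (fun _ hz u _ => mem_center_iff.1 hz u) hn hQ
    Q.isPGroup' (nd_of_dvd Q.not_dvd_index (relIndex_dvd_index_of_le hQ)) inf_le_right l

/-- the same for a group with trivial centre -/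
theorem fN_sub [Fact p.Prime] (hp : p ≠ 2) (hZ : center X = ⊥) {n : ℕ} (ih : IH p n) (Q : Sylow p X) {K : Subgroup X}
    (hK : normalizer ((Q : Subgroup X) : Set X) ≤ K) (hn : 2 * Nat.card K < n) {α : MulAut X}
    (hαQ : ∀ x, α x ∈ (Q : Subgroup X) ↔ x ∈ (Q : Subgroup X)) (hα : ∀ x, α x ∈ K ↔ x ∈ K) {t : X}
    (h1 : ∀ x, α (α x) = t * x * t⁻¹) : fN p K α = fN p (normalizer ((Q : Subgroup X) : Set X)) α := by
  rw [← fB_eq_fN hZ _ _ (l := fun _ => 1) rfl, ← fB_eq_fN hZ _ _ (l := fun _ => 1) rfl]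
  exact fB_sub hp ih Q hK (by rwa [hZ, relIndex_bot_left]) (fun z hz => by rw [show z = 1 from mem_bot.1 (hZ ▸ hz), map_one]) hαQ hα h1
    fun z hz _ => mem_bot.1 (hZ ▸ hz)

end aut

end Cfsg.Agent.MO.T
end

-- part: MK/T/F
section
/-!
# MK, tools for the small rows: blocks (helper11)

If all `2`-blocks with defect group isomorphic to `P` have the same number of characters of height zero (`Ht`), then
the relative McKay equality holds for odd central subgroups: `kk_of_ht`.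
-/

set_option autoImplicit false

namespace Cfsg.Agent.MK.T

open Cfsg Subgroup Cfsg.Agent.Characters Cfsg.Agent.Characters.Core Cfsg.Agent.Blocks.Basic

/-- every `2`-block with a defect group isomorphic to `Q` has `c` characters of height zero -/
def Ht (Q : Type) [Group Q] (c : ℕ) : Prop :=
  ∀ (G : Type) [Group G] [Finite G] (M : Ideal AlgInt), IsPModular 2 M → ∀ B : Set (IrrCharacter G), IsPBlock M B →
    ∀ D : Subgroup G, IsDefectGroup 2 M B D → Nonempty (D ≃* Q) →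
      Nat.card {χ : IrrCharacter G // χ ∈ B ∧ blockHeight 2 B (χ : G → ℂ) = 0} = c

theorem Ht.congr {Q Q' : Type} [Group Q] [Group Q'] {c : ℕ} (h : Ht Q c) (e : Q' ≃* Q) : Ht Q' c :=
  fun G _ _ M hM B hB D hD he => h G M hM B hB D hD (he.map (·.trans e))

variable {G : Type} [Group G]

/-- the blocks with defect group `P` over `l` -/
def Bl (M : Ideal AlgInt) (P Z : Subgroup G) (l : G → ℂ) (B : Set (IrrCharacter G)) : Prop :=
  IsPBlock M B ∧ IsDefectGroup 2 M B P ∧ ∀ χ ∈ B, ∀ z ∈ Z, χ.1 z = l z * χ.1 1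

variable [Finite G] {M : Ideal AlgInt}

omit [Finite G] in
theorem root_eq (hM : IsPModular 2 M) {m : ℕ} (hm : Odd m) {a b : ℂ} (ha : a ^ m = 1) (hb : b ^ m = 1)
    (h : MemLocalIdeal M (a - b)) : a = b := by
  have := two_prime
  obtain ⟨k, rfl⟩ := hm
  have h0 : b ^ (2 * k) * b = 1 := by rw [← pow_succ, hb]
  have h1 := H700.PrinCrit.eq_one_of_sub_mem hM (z := b ^ (2 * k) * a) (m := 2 * k + 1) (by omega)
    (by rw [mul_pow, ha, mul_one, ← pow_mul, mul_comm, pow_mul, hb, one_pow]) (by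
      rw [← h0, ← mul_sub]
      exact Blocks.LocalRing.memLocalIdeal_mul_left hM (Blocks.LocalRing.memLocalRing_of_isIntegral hM
        ((IsIntegral.of_pow (Nat.succ_pos _) (hb ▸ isIntegral_one)).pow _)) h)
  exact mul_left_cancel₀ (left_ne_zero_of_mul_eq_one h0) (h1.trans h0.symm)

omit [Finite G] in
theorem cen_pow {χ : G → ℂ} (hχ : IsIrrCharacter G χ) {z : G} (hz : z ∈ center G) {m : ℕ} (hm : z ^ m = 1) :
    (χ z / χ 1) ^ m = 1 := by
  obtain ⟨c, hc, -⟩ := CharactersDeep.Extraspecial.exists_central_hom hχ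
  have h1 := hc 1 ⟨z, hz⟩
  rw [one_mul] at h1
  rw [h1, mul_div_cancel_left₀ _ (isIrr_apply_one_ne_zero hχ), ← Units.val_pow_eq_pow_val, ← map_pow,
    show (⟨z, hz⟩ : center G) ^ m = 1 from Subtype.ext hm, map_one, Units.val_one]

omit [Finite G] in
theorem centralChar_cen (χ : G → ℂ) {z : G} (hz : z ∈ center G) : centralChar χ z = χ z / χ 1 := by
  rw [centralChar_def, centralizer_eq_top_iff_subset.2 (Set.singleton_subset_iff.2 hz), index_top, Nat.cast_one, one_mul]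

omit [Finite G] in
theorem pow_card_mem {Z : Subgroup G} {z : G} (hz : z ∈ Z) : z ^ Nat.card Z = 1 :=
  congrArg Subtype.val (pow_card_eq_one' (x := (⟨z, hz⟩ : Z)))

theorem cen_ind (hM : IsPModular 2 M) {H : Subgroup G} {b : Set (IrrCharacter H)} {B : Set (IrrCharacter G)}
    (h : IsInducedBlock M H b B) {ξ : IrrCharacter H} (hξ : ξ ∈ b) {χ : IrrCharacter G} (hχ : χ ∈ B) {z : H}
    (hz : (z : G) ∈ center G) {m : ℕ} (hm : Odd m) (h1 : (z : G) ^ m = 1) : ξ.1 z / ξ.1 1 = χ.1 z / χ.1 1 := by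
  have h2 := h.2.2 ξ hξ χ hχ z
  have h3 : {y : H | IsConj (z : G) (y : G)} = {z} := Set.ext fun y => ⟨fun e => by
    obtain ⟨c, hc⟩ := isConj_iff.1 e
    rw [mem_center_iff.1 hz, mul_inv_cancel_right] at hc
    exact (Subtype.ext hc).symm, fun e => by
    rw [Set.mem_singleton_iff.1 e]
    exact IsConj.refl _⟩
  rw [inducedCentralChar_def, h3, finsum_mem_singleton, centralChar_cen _ hz] at h2
  exact root_eq hM hm (cen_pow ξ.2 (mem_center_iff.2 fun y => Subtype.ext (mem_center_iff.1 hz y)) (Subtype.ext h1))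
    (cen_pow χ.2 hz h1) h2

theorem height_iff {B : Set (IrrCharacter G)} (h : ∃ χ ∈ B, ¬ 2 ∣ charDegree (χ : G → ℂ)) (ψ : IrrCharacter G) :
    blockHeight 2 B (ψ : G → ℂ) = 0 ↔ Odd (charDegree (ψ : G → ℂ)) := by
  obtain ⟨χ, h1, h2⟩ := h
  have h3 : 0 ∈ (fun ψ : IrrCharacter G => (charDegree (ψ : G → ℂ)).factorization 2) '' B :=
    ⟨χ, h1, Nat.factorization_eq_zero_of_not_dvd h2⟩
  rw [blockHeight_def, Nat.sInf_eq_zero.2 (Or.inl h3), Nat.sub_zero,
    Nat.factorization_eq_zero_iff, ← Nat.not_even_iff_odd, even_iff_two_dvd]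
  exact ⟨fun e => e.elim (absurd Nat.prime_two) (·.elim id (absurd · (charDegree_pos ψ.2).ne')), fun e => Or.inr (Or.inl e)⟩

theorem kk_eq_mul (hM : IsPModular 2 M) {Z : Subgroup G} (hZ : Z ≤ center G) (ho : Odd (Nat.card Z)) (P : Sylow 2 G)
    {c : ℕ} (h : Ht (P : Subgroup G) c) (l : G → ℂ) : kk ⊤ Z l = Nat.card {B // Bl M P Z l B} * c := by
  have := two_prime
  have := Blocks.LocalRing.isPrime hM
  have := finite_irr (G := G)
  have := Fintype.ofFinite {B // Bl M P Z l B}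
  let f : {χ : G → ℂ // OI G χ ∧ ∀ z ∈ Z, χ z = l z * χ 1} → {B // Bl M P Z l B} := fun χ =>
    ⟨blockOf M χ.1, isPBlock_blockOf ⟨χ.1, χ.2.1.1⟩, S0953.isDefectGroup_of_degree hM P (isPBlock_blockOf ⟨χ.1, χ.2.1.1⟩)
      (mem_blockOf_self ⟨χ.1, χ.2.1.1⟩) χ.2.1.2.not_two_dvd_nat, fun ψ hψ z hz => by
      have h1 : MemLocalIdeal M _ := hψ z
      rw [centralChar_cen _ (hZ hz), centralChar_cen _ (hZ hz)] at h1
      have h2 := root_eq hM ho (cen_pow χ.2.1.1 (hZ hz) (pow_card_mem hz)) (cen_pow ψ.2 (hZ hz) (pow_card_mem hz)) h1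
      rw [χ.2.2 z hz, mul_div_cancel_right₀ _ χ.2.1.one_ne] at h2
      rw [h2, div_mul_cancel₀ _ (isIrr_apply_one_ne_zero ψ.2)]⟩
  have := finite_oi (G := G) fun χ => ∀ z ∈ Z, χ z = l z * χ 1
  rw [kk_top, ← Nat.card_congr (Equiv.sigmaFiberEquiv f), Nat.card_sigma, Finset.sum_const_nat (m := c), Finset.card_univ,
    Nat.card_eq_fintype_card]
  rintro ⟨B, h1, h2, h3⟩ -
  have h4 := height_iff (S0953.exists_degree_of_isDefectGroup hM P h1 h2)
  rw [← h G M hM B h1 P h2 ⟨MulEquiv.refl _⟩]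
  exact Nat.card_congr
    { toFun := fun χ => ⟨⟨χ.1.1, χ.1.2.1.1⟩, (show blockOf M χ.1.1 = B from congrArg Subtype.val χ.2).subset
        (mem_blockOf_self ⟨χ.1.1, χ.1.2.1.1⟩), (h4 _).2 χ.1.2.1.2⟩
      invFun := fun χ => ⟨⟨χ.1.1, ⟨χ.1.2, (h4 _).1 χ.2.2⟩, h3 _ χ.2.1⟩, Subtype.ext (isPBlock_eq_blockOf h1 χ.2.1).symm⟩
      left_inv := fun _ => rfl
      right_inv := fun _ => rfl }

/-- Brauer's first main theorem over a central character -/
theorem card_bl (hM : IsPModular 2 M) {Z : Subgroup G} (hZ : Z ≤ center G) (ho : Odd (Nat.card Z)) {D : Subgroup G}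
    (hD : IsPGroup 2 D) (l : G → ℂ) :
    Nat.card {b // Bl M (D.subgroupOf (normalizer (D : Set G))) (Z.subgroupOf (normalizer (D : Set G))) (fun k => l k) b} =
      Nat.card {B // Bl M D Z l B} := by
  have := two_prime
  have := Blocks.LocalRing.isPrime hM
  obtain ⟨h1, h2⟩ := S0920.result 2 M hM D hD
  choose f f1 f2 f3 using h1
  refine Nat.card_eq_of_bijective (fun b => ⟨f b.1 b.2.1 b.2.2.1, f1 _ _ _, f2 _ _ _, fun χ hχ z hz => ?_⟩)
    ⟨fun a b e => ?_, fun B => ?_⟩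
  · obtain ⟨ξ, hξ⟩ := isPBlock_nonempty b.2.1
    have h3 := cen_ind hM (f3 _ _ _) hξ hχ (z := ⟨z, center_le_normalizer _ (hZ hz)⟩) (hZ hz) ho (pow_card_mem hz)
    rw [b.2.2.2 ξ hξ _ hz, mul_div_cancel_right₀ _ (isIrr_apply_one_ne_zero ξ.2)] at h3
    rw [show l z = χ.1 z / χ.1 1 from h3, div_mul_cancel₀ _ (isIrr_apply_one_ne_zero χ.2)]
  · refine Subtype.ext ((h2 _ (f1 _ a.2.1 a.2.2.1) (f2 _ _ _)).unique ⟨a.2.1, a.2.2.1, f3 _ _ _⟩ ⟨b.2.1, b.2.2.1, ?_⟩)
    exact (show f b.1 b.2.1 b.2.2.1 = f a.1 a.2.1 a.2.2.1 from congrArg Subtype.val e.symm) ▸ f3 _ _ _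
  · obtain ⟨b, ⟨h3, h4, h5⟩, -⟩ := h2 B.1 B.2.1 B.2.2.1
    refine ⟨⟨b, h3, h4, fun ξ hξ z hz => ?_⟩, Subtype.ext (Blocks.CentralizerSum.inducedBlock_unique (f3 _ _ _) h5)⟩
    obtain ⟨χ, hχ⟩ := isPBlock_nonempty B.2.1
    have h6 := cen_ind hM h5 hξ hχ (hZ hz) ho (pow_card_mem hz)
    rw [B.2.2.2 χ hχ z hz, mul_div_cancel_right₀ _ (isIrr_apply_one_ne_zero χ.2)] at h6
    beta_reduce
    rw [← h6, div_mul_cancel₀ _ (isIrr_apply_one_ne_zero ξ.2)]

/-- **the relative McKay equality from the heights** -/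
theorem kk_of_ht {Z : Subgroup G} (hZ : Z ≤ center G) (ho : Odd (Nat.card Z)) (P : Sylow 2 G) {c : ℕ}
    (h : Ht (P : Subgroup G) c) (l : G → ℂ) : kk ⊤ Z l = kk (normalizer ((P : Subgroup G) : Set G)) Z l := by
  have := two_prime
  obtain ⟨M, hM⟩ := Blocks.ExistsModular.exists_isPModular Nat.prime_two
  rw [kk_eq_mul hM hZ ho P h, ← kk_top_sub, kk_eq_mul hM (fun z hz => mem_center_iff.2 fun y =>
    Subtype.ext (mem_center_iff.1 (hZ hz) y)) (by
      rwa [Nat.card_congr (subgroupOfEquivOfLe (hZ.trans (center_le_normalizer _))).toEquiv])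
    (P.subtype le_normalizer) (h.congr (subgroupOfEquivOfLe le_normalizer)), ← card_bl hM hZ ho P.isPGroup']
  rfl

theorem mck_of_ht {Z : Subgroup G} (hZ : Z ≤ center G) (ho : Odd (Nat.card Z)) (P : Sylow 2 G) {c : ℕ}
    (h : Ht (P : Subgroup G) c) : McK G Z := fun l Q =>
  have := two_prime
  kk_of_ht hZ ho Q (h.congr (Q.equiv P)) l

theorem m0_of_ht (P : Sylow 2 G) {c : ℕ} (h : Ht (P : Subgroup G) c) : M0 G := fun Q => by
  have h1 := mck_of_ht (Z := ⊥) bot_le (by rw [card_bot]; exact odd_one) P h (fun _ => 1) Q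
  rwa [kk_bot _ rfl, kk_bot _ rfl, k0_congr topEquiv] at h1

theorem sm_of_ht (ho : Odd (Nat.card (center G)))
    (hi : ∀ α : MulAut G, (∀ z ∈ center G, α z = z) → ∃ x, α = MulAut.conj x) (P : Sylow 2 G) {c : ℕ}
    (h : Ht (P : Subgroup G) c) : Sm G :=
  sm_of_inn hi P fun l _ => kk_of_ht le_rfl ho P h l

end Cfsg.Agent.MK.T
end

-- part: MO/TI/Mck
section
/-!
# MO, Sylow subgroups with trivial intersections (helper78)

* `mck_ti` : the relative McKay equality for central `p'`-subgroups from the theorem of An and Eaton;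
* `ti_iff`, `ti_of_prime`, `ti_of_not_sq`, `ti_sylow`, `ti_of_normal`, `ti_of_cover`, `mck_over` : criteria;
* `fA_eq_fB_ti`, `sm_of_ti`, `smC_of_ti`, `smC_of_not_sq` : the small rows.
-/

set_option autoImplicit false

namespace Cfsg.Agent.MO.TI

open Cfsg Subgroup Cfsg.Agent.Characters Cfsg.Agent.Characters.Core Cfsg.Agent.Blocks.Basic Cfsg.Agent.MO.S
  Cfsg.Agent.MO.T
open Cfsg.Agent.MK (Ov Fa)
open Cfsg.Agent.MK.T (cen_pow centralChar_cen pow_card_mem)
open scoped Pointwise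

variable {p : ℕ} [Fact p.Prime] {G : Type} [Group G] [Finite G] {M : Ideal AlgInt}

omit [Finite G] [Fact p.Prime] in
theorem root_eq (hM : IsPModular p M) {m : ℕ} (hm : ¬ p ∣ m) {a b : ℂ} (ha : a ^ m = 1) (hb : b ^ m = 1)
    (h : MemLocalIdeal M (a - b)) : a = b := by
  obtain ⟨k, rfl⟩ := Nat.exists_eq_succ_of_ne_zero (n := m) fun e => hm (e ▸ dvd_zero p)
  have h0 : b ^ k * b = 1 := by rw [← pow_succ, hb]
  have h1 := H700.PrinCrit.eq_one_of_sub_mem hM (z := b ^ k * a) hm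
    (by rw [mul_pow, ha, mul_one, ← pow_mul, mul_comm, pow_mul, hb, one_pow]) (by
      rw [← h0, ← mul_sub]
      exact Blocks.LocalRing.memLocalIdeal_mul_left hM (Blocks.LocalRing.memLocalRing_of_isIntegral hM
        ((IsIntegral.of_pow (Nat.succ_pos _) (hb ▸ isIntegral_one)).pow _)) h)
  exact mul_left_cancel₀ (left_ne_zero_of_mul_eq_one h0) (h1.trans h0.symm)

omit [Finite G] [Fact p.Prime] in
theorem cen_ind (hM : IsPModular p M) {H : Subgroup G} {b : Set (IrrCharacter H)} {B : Set (IrrCharacter G)}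
    (h : IsInducedBlock M H b B) {ξ : IrrCharacter H} (hξ : ξ ∈ b) {χ : IrrCharacter G} (hχ : χ ∈ B) {z : H}
    (hz : (z : G) ∈ center G) {m : ℕ} (hm : ¬ p ∣ m) (h1 : (z : G) ^ m = 1) : ξ.1 z / ξ.1 1 = χ.1 z / χ.1 1 := by
  have h2 := h.2.2 ξ hξ χ hχ z
  have h3 : {y : H | IsConj (z : G) (y : G)} = {z} := Set.ext fun y => ⟨fun e => by
    obtain ⟨c, hc⟩ := isConj_iff.1 e
    rw [mem_center_iff.1 hz, mul_inv_cancel_right] at hc
    exact (Subtype.ext hc).symm, fun e => by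
    rw [Set.mem_singleton_iff.1 e]
    exact IsConj.refl _⟩
  rw [inducedCentralChar_def, h3, finsum_mem_singleton, centralChar_cen _ hz] at h2
  exact root_eq hM hm (cen_pow ξ.2 (mem_center_iff.2 fun y => Subtype.ext (mem_center_iff.1 hz y)) (Subtype.ext h1))
    (cen_pow χ.2 hz h1) h2

omit [Finite G] [Fact p.Prime] in
/-- the members of a block have the same central character on central `p'`-subgroups -/
theorem cen_block (hM : IsPModular p M) {Z : Subgroup G} (hZ : Z ≤ center G) (ho : ¬ p ∣ Nat.card Z) {l χ : G → ℂ}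
    (hχ : IsIrrCharacter G χ) (h : ∀ z ∈ Z, χ z = l z * χ 1) {ψ : IrrCharacter G} (hψ : ψ ∈ blockOf M χ) :
    ∀ z ∈ Z, ψ.1 z = l z * ψ.1 1 := fun z hz => by
  have h1 : MemLocalIdeal M _ := hψ z
  rw [centralChar_cen _ (hZ hz), centralChar_cen _ (hZ hz)] at h1
  have h2 := root_eq hM ho (cen_pow hχ (hZ hz) (pow_card_mem hz)) (cen_pow ψ.2 (hZ hz) (pow_card_mem hz)) h1
  rw [h z hz, mul_div_cancel_right₀ _ (isIrr_apply_one_ne_zero hχ)] at h2
  rw [h2, div_mul_cancel₀ _ (isIrr_apply_one_ne_zero ψ.2)]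

/-- the blocks with defect group `P` over `l` -/
def Bl (p : ℕ) (M : Ideal AlgInt) (P Z : Subgroup G) (l : G → ℂ) (B : Set (IrrCharacter G)) : Prop :=
  IsPBlock M B ∧ IsDefectGroup p M B P ∧ ∀ χ ∈ B, ∀ z ∈ Z, χ.1 z = l z * χ.1 1

omit [Finite G] in
theorem fact_iff {H : Type} [Group H] [Finite H] (χ : IrrCharacter H) {d : ℕ} (h : (Nat.card H).factorization p = d) :
    (Nat.card H).factorization p = d + (charDegree (χ : H → ℂ)).factorization p ↔ ¬ p ∣ charDegree (χ : H → ℂ) := by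
  rw [h, left_eq_add, Nat.factorization_eq_zero_iff]
  exact ⟨fun e => e.elim (absurd Fact.out) (·.elim id (absurd · (charDegree_pos χ.2).ne')), fun e => Or.inr (Or.inl e)⟩

theorem kk_ti (ae : AE p) (hO : pCore p G = ⊥) {Z : Subgroup G} (hZ : Z ≤ center G) (ho : ¬ p ∣ Nat.card Z)
    (P : Sylow p G) (h1 : (P : Subgroup G) ≠ ⊥) (hP : S.TI (P : Subgroup G)) (l : G → ℂ) :
    kk p ⊤ Z l = kk p (normalizer ((P : Subgroup G) : Set G)) Z l := by
  obtain ⟨M, hM⟩ := Blocks.ExistsModular.exists_isPModular (Fact.out : p.Prime)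
  have := Blocks.LocalRing.isPrime hM
  have := finite_irr (G := G)
  have := Fintype.ofFinite {B // Bl p M P Z l B}
  have hZN : Z ≤ normalizer ((P : Subgroup G) : Set G) := hZ.trans (center_le_normalizer _)
  let f : {χ : G → ℂ // PI p G χ ∧ ∀ z ∈ Z, χ z = l z * χ 1} → {B // Bl p M P Z l B} := fun χ =>
    ⟨blockOf M χ.1, isPBlock_blockOf ⟨χ.1, χ.2.1.1⟩, S0953.isDefectGroup_of_degree hM P (isPBlock_blockOf ⟨χ.1, χ.2.1.1⟩)
      (mem_blockOf_self ⟨χ.1, χ.2.1.1⟩) χ.2.1.2, fun ψ hψ => cen_block hM hZ ho χ.2.1.1 χ.2.2 hψ⟩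
  have h2 : ∀ ψ : {ψ : normalizer ((P : Subgroup G) : Set G) → ℂ //
      PI p _ ψ ∧ Ov (normalizer ((P : Subgroup G) : Set G)) Z l ψ}, ∃ B : {B // Bl p M P Z l B},
      IsInducedBlock M _ (blockOf M ψ.1) B.1 := fun ψ => by
    obtain ⟨B, h3, h4, h5⟩ := (S0920.result p M hM (P : Subgroup G) P.isPGroup').1 _ (isPBlock_blockOf ⟨ψ.1, ψ.2.1.1⟩)
      (S0953.isDefectGroup_of_degree hM (P.subtype le_normalizer) (isPBlock_blockOf ⟨ψ.1, ψ.2.1.1⟩)
        (mem_blockOf_self ⟨ψ.1, ψ.2.1.1⟩) ψ.2.1.2)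
    refine ⟨⟨B, h3, h4, fun χ hχ z hz => ?_⟩, h5⟩
    have h6 := cen_ind hM h5 (mem_blockOf_self ⟨ψ.1, ψ.2.1.1⟩) hχ (z := ⟨z, hZN hz⟩) (hZ hz) ho (pow_card_mem hz)
    rw [show ψ.1 ⟨z, hZN hz⟩ = _ from ψ.2.2 _ hz, mul_div_cancel_right₀ _ ψ.2.1.one_ne] at h6
    rw [show l z = χ.1 z / χ.1 1 from h6, div_mul_cancel₀ _ (isIrr_apply_one_ne_zero χ.2)]
  choose g hg using h2
  have := finite_pi (p := p) (G := G) fun χ => ∀ z ∈ Z, χ z = l z * χ 1
  have := finite_pi (p := p) (Ov (normalizer ((P : Subgroup G) : Set G)) Z l)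
  have h3 : (Nat.card (normalizer ((P : Subgroup G) : Set G))).factorization p = (Nat.card G).factorization p := by
    rw [← (normalizer ((P : Subgroup G) : Set G)).card_mul_index,
      Nat.factorization_mul Nat.card_pos.ne' index_ne_zero_of_finite, Finsupp.add_apply,
      Nat.factorization_eq_zero_of_not_dvd (nd_of_dvd P.not_dvd_index (index_dvd_of_le le_normalizer)), add_zero]
  rw [kk_top, kk, ← Nat.card_congr (Equiv.sigmaFiberEquiv f), ← Nat.card_congr (Equiv.sigmaFiberEquiv g),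
    Nat.card_sigma, Nat.card_sigma]
  refine Finset.sum_congr rfl ?_
  rintro ⟨B, h4, h5, h6⟩ -
  refine (Eq.trans ?_ (ae G hO M hM B h4 P h5 h1 hP ((Nat.card G).factorization p))).trans ?_
  · exact Nat.card_congr
      { toFun := fun χ => ⟨⟨χ.1.1, χ.1.2.1.1⟩, (show blockOf M χ.1.1 = B from congrArg Subtype.val χ.2).subset
          (mem_blockOf_self ⟨χ.1.1, χ.1.2.1.1⟩), (fact_iff _ rfl).2 χ.1.2.1.2⟩
        invFun := fun χ => ⟨⟨χ.1.1, ⟨χ.1.2, (fact_iff _ rfl).1 χ.2.2⟩, h6 _ χ.2.1⟩,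
          Subtype.ext (isPBlock_eq_blockOf h4 χ.2.1).symm⟩
        left_inv := fun _ => rfl
        right_inv := fun _ => rfl }
  · have h7 : ∀ ψ : IrrCharacter (normalizer ((P : Subgroup G) : Set G)), (∃ b, ψ ∈ b ∧ IsInducedBlock M _ b B) →
        IsInducedBlock M _ (blockOf M ψ.1) B ∧ Ov (normalizer ((P : Subgroup G) : Set G)) Z l ψ.1 := by
      rintro ψ ⟨b, h7, h8⟩
      refine ⟨isPBlock_eq_blockOf h8.1 h7 ▸ h8, fun z hz => ?_⟩
      obtain ⟨χ, hχ⟩ := isPBlock_nonempty h4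
      have h9 := cen_ind hM h8 h7 hχ (hZ hz) ho (pow_card_mem hz)
      rw [h6 χ hχ z hz, mul_div_cancel_right₀ _ (isIrr_apply_one_ne_zero χ.2)] at h9
      rw [← h9, div_mul_cancel₀ _ (isIrr_apply_one_ne_zero ψ.2)]
    exact Nat.card_congr
      { toFun := fun ψ => ⟨⟨ψ.1.1, ⟨ψ.1.2, (fact_iff _ h3).1 ψ.2.2⟩, (h7 _ ψ.2.1).2⟩,
          Subtype.ext (Blocks.CentralizerSum.inducedBlock_unique (hg _) (h7 _ ψ.2.1).1)⟩
        invFun := fun ψ => ⟨⟨ψ.1.1, ψ.1.2.1.1⟩, ⟨_, mem_blockOf_self ⟨ψ.1.1, ψ.1.2.1.1⟩,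
          (show (g ψ.1).1 = B from congrArg Subtype.val ψ.2) ▸ hg ψ.1⟩, (fact_iff _ h3).2 ψ.1.2.1.2⟩
        left_inv := fun _ => rfl
        right_inv := fun _ => rfl }

omit [Finite G] [Fact p.Prime] in
theorem ti_iff {D : Subgroup G} : S.TI D ↔ ∀ g : G, ∀ x ∈ D, x ≠ 1 → g * x * g⁻¹ ∈ D → g ∈ normalizer (D : Set G) := by
  refine ⟨fun h g x hx h1 h2 => by_contra fun e => h1 ?_, fun h g hg => eq_bot_iff.2 fun x hx => by_contra fun e => hg ?_⟩
  · have h3 := (h g e).le (mem_inf.2 ⟨h2, smul_mem_pointwise_smul x (MulAut.conj g) D hx⟩)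
    simpa only [_root_.Subgroup.mem_bot, _root_.conj_eq_one_iff] using h3
  · refine h g _ (mem_pointwise_smul_iff_inv_smul_mem.1 (mem_inf.1 hx).2) (fun e' => e ?_) ?_
    · simpa only [mul_assoc, inv_mul_eq_one, _root_.Subgroup.mem_bot, _root_.MulAut.smul_def, _root_.MulAut.inv_apply, _root_.MulAut.conj_symm_apply, _root_.right_eq_mul] using e'
    · simpa only [mul_assoc, _root_.MulAut.smul_def, _root_.MulAut.inv_apply, _root_.MulAut.conj_symm_apply, _root_.mul_inv_cancel_left, _root_.mul_inv_cancel, _root_.mul_one] using (mem_inf.1 hx).1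

/-- **the relative McKay equality for groups with a TI Sylow subgroup** -/
theorem mck_ti (ae : AE p) {Z : Subgroup G} (hZ : Z ≤ center G) (ho : ¬ p ∣ Nat.card Z) (P : Sylow p G)
    (hP : S.TI (P : Subgroup G)) : McK p G Z := by
  intro l Q
  rw [kk_sylow hZ Q P]
  by_cases h1 : normalizer ((P : Subgroup G) : Set G) = ⊤
  · rw [h1]
  refine kk_ti ae (sSup_eq_bot.2 fun N hN => eq_bot_iff.2 fun x hx => by_contra fun e => h1 (eq_top_iff.2 fun g _ => ?_))
    hZ ho P (fun e => h1 (by rw [e]; exact normalizer_eq_top _)) hP l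
  have := hN.1
  exact ti_iff.1 hP g x (hN.2.le_sylow_of_normal P hx) e (hN.2.le_sylow_of_normal P (hN.1.conj_mem x hx g))

/-! ### criteria -/

theorem ti_of_prime {D : Subgroup G} (h : Nat.card D = p) : S.TI D := ti_iff.2 fun g x hx h1 h2 => by
  refine mem_normalizer_fintype fun y hy => ?_
  obtain ⟨k, hk⟩ := mem_powers_of_prime_card h (g := ⟨x, hx⟩) (g' := ⟨y, hy⟩) fun e => h1 (congrArg Subtype.val e)
  rw [show y = x ^ k from (congrArg Subtype.val hk).symm, ← conj_pow]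
  exact pow_mem h2 k

theorem ti_of_not_sq (P : Sylow p G) (h : ¬ p ^ 2 ∣ Nat.card G) : S.TI (P : Subgroup G) := by
  obtain ⟨k, hk⟩ := P.isPGroup'.exists_card_eq
  rcases k with _ | _ | k
  · exact ti_iff.2 fun g x hx h1 => absurd (mem_bot.1 (card_eq_one.1 hk ▸ hx)) h1
  · exact ti_of_prime (hk.trans (pow_one p))
  · exact absurd ((pow_dvd_pow p (by omega)).trans (hk ▸ card_subgroup_dvd_card _)) h

/-- a Sylow subgroup inside a normal subgroup -/
theorem ti_of_normal {X : Type} [Group X] (j : X →* G) (hj : Function.Injective j) (hn : j.range.Normal) (Q : Sylow p X)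
    (h : S.TI (Q : Subgroup X)) : S.TI ((Q : Subgroup X).map j) := by
  have : Finite X := Finite.of_injective j hj
  refine ti_iff.2 ?_
  rintro g _ ⟨x, hx, rfl⟩ h1 ⟨y, hy, h2⟩
  let α : MulAut X := (MulAut.congr (MonoidHom.ofInjective hj)).symm (MulAut.conjNormal g)
  have hα : ∀ x, j (α x) = g * j x * g⁻¹ := fun x =>
    congrArg Subtype.val ((MonoidHom.ofInjective hj).apply_symm_apply (MulAut.conjNormal g (MonoidHom.ofInjective hj x)))
  obtain ⟨c, hc⟩ := MulAction.exists_smul_eq X Q (α • Q)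
  have h3 : ∀ z, α z ∈ ((α • Q : Sylow p X) : Subgroup X) ↔ z ∈ (Q : Subgroup X) := fun z => by
    rw [Sylow.pointwise_smul_def]
    exact smul_mem_pointwise_smul_iff (a := α)
  have h4 : ∀ z, c⁻¹ * α z * c⁻¹⁻¹ ∈ (Q : Subgroup X) ↔ z ∈ (Q : Subgroup X) := fun z => by
    rw [← h3 z, ← hc, Sylow.coe_subgroup_smul, mem_pointwise_smul_iff_inv_smul_mem, inv_inv]
    rfl
  have h5 : α x = y := hj ((hα x).trans h2.symm)
  have h6 := ti_iff.1 h c⁻¹ y hy (fun e => h1 (by rw [α.injective (h5.trans (e.trans (map_one α).symm)), map_one]))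
    (h5 ▸ (h4 x).2 hx)
  refine mem_normalizer_fintype ?_
  rintro _ ⟨z, hz, rfl⟩
  exact ⟨α z, (mem_normalizer_iff.1 h6 _).2 ((h4 z).2 hz), hα z⟩

/-- central extensions by `p'`-groups -/
theorem ti_of_cover {H : Type} [Group H] (φ : G →* H) (hφ : Function.Surjective φ) (hk : φ.ker ≤ center G)
    (ho : ¬ p ∣ Nat.card φ.ker) (Q : Sylow p G) (h : S.TI ((Q : Subgroup G).map φ)) : S.TI (Q : Subgroup G) := by
  refine ti_iff.2 fun g x hx h1 h2 => ?_
  obtain ⟨k, hQ⟩ := Q.isPGroup'.exists_card_eq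
  have h3 := disjoint_of_coprime_natCard (H := φ.ker) (K := Q) (hQ ▸ (cop_pow ho k).symm)
  have h4 := ti_iff.1 h (φ g) (φ x) (mem_map_of_mem φ hx) (fun e => h1 (disjoint_def.1 h3 e hx))
    (by simpa only [_root_.Subgroup.mem_map, _root_.map_mul, _root_.map_inv] using mem_map_of_mem φ h2)
  rw [← map_normalizer φ hφ] at h4
  obtain ⟨n, hn, e⟩ := h4
  rw [← inv_mul_cancel_right g n]
  exact mul_mem (center_le_normalizer _ (hk (by simp [e]))) hn

theorem ti_sylow {P : Sylow p G} (h : S.TI (P : Subgroup G)) (Q : Sylow p G) : S.TI (Q : Subgroup G) := by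
  obtain ⟨g, rfl⟩ := MulAction.exists_smul_eq G P Q
  exact ti_of_normal (MulAut.conj g).toMonoidHom (MulAut.conj g).injective
    (by rw [MonoidHom.range_eq_top.2 (MulAut.conj g).surjective]; infer_instance) P h

/-- a normal subgroup of `p'`-index with a TI Sylow subgroup -/
theorem mck_over (ae : AE p) {X : Type} [Group X] (j : X →* G) (hj : Function.Injective j) (hn : j.range.Normal)
    (hi : ¬ p ∣ j.range.index) {Z : Subgroup G} (hZ : Z ≤ center G) (ho : ¬ p ∣ Nat.card Z) (Q : Sylow p X)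
    (h : S.TI (Q : Subgroup X)) : McK p G Z := by
  have : Finite X := Finite.of_injective j hj
  obtain ⟨P, hP⟩ := exists_sylow (Q.isPGroup'.map j) (by
    rw [index_map, (MonoidHom.ker_eq_bot_iff j).2 hj, sup_bot_eq]
    exact nd_mul' Q.not_dvd_index hi)
  exact mck_ti ae hZ ho P (hP ▸ ti_of_normal j hj hn Q h)

/-! ### the small rows -/

variable {X : Type} [Group X] [Finite X]

theorem fA_eq_fB_ti (ae : AE p) (ho : ¬ p ∣ Nat.card (center X)) (Q : Sylow p X) (hQ : S.TI (Q : Subgroup X))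
    {α : MulAut X} (hf : ∀ z ∈ center X, α z = z) (hα : ∀ x, α x ∈ (Q : Subgroup X) ↔ x ∈ (Q : Subgroup X)) {m : ℕ}
    (hm : ¬ p ∣ m) {t : X} (ht : α ^ m = MulAut.conj t) (l : X → ℂ) :
    fA p l α = fB p (normalizer ((Q : Subgroup X) : Set X)) l α := by
  have pw : ∀ k : ℕ, ∀ x, (α ^ k) x ∈ (Q : Subgroup X) ↔ x ∈ (Q : Subgroup X) := fun k => by
    induction k with
    | zero => exact fun _ => Iff.rfl
    | succ k ih => exact fun x => by rw [pow_succ']; exact (hα _).trans (ih x)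
  have h1 : t ∈ normalizer ((Q : Subgroup X) : Set X) := mem_normalizer_iff.2 fun y => by
    rw [← pw m y, ht]
    rfl
  obtain ⟨a, b, hb, hab⟩ := exists_split p (orderOf_pos α).ne'
  have h0 : 0 < m := Nat.pos_of_ne_zero fun e => hm (e ▸ dvd_zero p)
  obtain ⟨w, hw⟩ := (Nat.modEq_iff_dvd' (Nat.one_le_pow _ _ (pow_pos (Fact.out : p.Prime).pos a))).1
    (Nat.ModEq.pow_totient (cop_pow hm a)).symm
  obtain ⟨c, hc⟩ := dvd_pow_self (p ^ a) (Nat.totient_pos.2 h0).ne'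
  have h2 : α ^ (p ^ a * c) = MulAut.conj (t ^ w) * α := by
    rw [map_pow, ← ht, ← pow_mul, ← hw, ← pow_succ, ← hc,
      Nat.sub_add_cancel (Nat.one_le_pow _ _ (pow_pos (Fact.out : p.Prime).pos a))]
  rw [← fA_conj_mul (t ^ w), ← fB_conj_mul (pow_mem h1 w), ← h2, ← fB_top]
  obtain ⟨W, _, _, j, u, hj, hn, hu, hg, h3⟩ := exists_sd α
  obtain ⟨l', hl'⟩ := exists_lift j hj l
  have hZ : (center X).map j ≤ center W := by
    rintro _ ⟨z, hz, rfl⟩
    exact cen_of_gen hu hg hz (hf z hz)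
  have h4 : (normalizer ((Q : Subgroup X) : Set X)).map j =
      normalizer (((Q : Subgroup X).map j : Subgroup W) : Set W) ⊓ j.range := by
    refine le_antisymm (le_inf (le_normalizer_map j) (map_le_range _ _)) fun w hw => ?_
    obtain ⟨x, rfl⟩ := (mem_inf.1 hw).2
    exact ⟨x, mem_normalizer_iff.2 fun y => by
      rw [← mem_map_iff_mem hj, mem_normalizer_iff.1 (mem_inf.1 hw).1, ← map_inv, ← map_mul, ← map_mul,
        mem_map_iff_mem hj], rfl⟩
  rw [fB_eq_fx j hj _ (fun z _ => hl' z) (conj_pow_of hu _), fB_eq_fx j hj _ (fun z _ => hl' z) (conj_pow_of hu _),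
    ← MonoidHom.range_eq_map, h4]
  refine fx_eq hZ (h4 ▸ map_mono (center_le_normalizer _)) l' (fun g _ hp => ?_)
    (pow_mem (mem_normalizer_fintype ?_) _) (nd_of_dvd hb ?_)
  · let j' : X →* (j.range ⊔ zpowers g : Subgroup W) := j.codRestrict _ fun x => mem_sup_left ⟨x, rfl⟩
    have h5 : j'.range = j.range.subgroupOf (j.range ⊔ zpowers g) :=
      Subgroup.ext fun w => ⟨fun ⟨x, e⟩ => ⟨x, congrArg Subtype.val e⟩, fun ⟨x, e⟩ => ⟨x, Subtype.ext e⟩⟩
    have hj' : Function.Injective j' := fun _ _ e => hj (congrArg Subtype.val e)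
    have h6 : (Q : Subgroup X).map j ≤ j.range ⊔ zpowers g := (map_le_range _ _).trans le_sup_left
    have h7 : (center X).map j ≤ j.range ⊔ zpowers g := (map_le_range _ _).trans le_sup_left
    obtain ⟨P, hP⟩ := exists_sylow (P := ((Q : Subgroup X).map j).subgroupOf (j.range ⊔ zpowers g))
      (Q.isPGroup'.map j).comap_subtype (by
        change ¬ p ∣ relIndex _ _
        rw [← relIndex_mul_relIndex _ _ _ (map_le_range j _) le_sup_left, MonoidHom.range_eq_map,
          relIndex_map_map_of_injective _ _ hj, relIndex_top_right, ← MonoidHom.range_eq_map]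
        exact nd_mul' Q.not_dvd_index hp)
    have h8 := mck_over ae j' hj' (h5 ▸ inferInstance) (h5 ▸ hp) (Z := ((center X).map j).subgroupOf _)
      (fun z hz => mem_center_iff.2 fun y => Subtype.ext (mem_center_iff.1 (hZ hz) y))
      (by rwa [Nat.card_congr (subgroupOfEquivOfLe h7).toEquiv, card_map_of_injective hj]) Q hQ (fun w => l' w) P
    rwa [kk_top_sub, hP, ← subgroupOf_normalizer_eq h6, ← inf_subgroupOf_right, kk_subgroupOf inf_le_right] at h8
  · rintro _ ⟨x, hx, rfl⟩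
    exact ⟨α x, (hα x).2 hx, hu x⟩
  · rw [← pow_mem_rel le_sup_left le_normalizer_of_normal (mem_sup_right (mem_zpowers _)) (gen_sup _), ← pow_mul,
      mul_right_comm, ← hab, pow_mul, h3, one_pow]
    exact one_mem _

/-- **TI Sylow subgroups** -/
theorem sm_of_ti (ae : AE p) (ho : ¬ p ∣ Nat.card (center X)) (Q : Sylow p X) (hQ : S.TI (Q : Subgroup X))
    (hc : ∃ γ : MulAut X, ∀ α : MulAut X, (∀ z ∈ center X, α z = z) → ∃ (k : ℕ) (x : X), α = MulAut.conj x * γ ^ k)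
    (h : ∀ α : MulAut X, (∀ z ∈ center X, α z = z) → ∃ (m : ℕ) (t : X), ¬ p ∣ m ∧ α ^ m = MulAut.conj t) : Sm p X :=
  ⟨hc, Q, fun l _ α h1 h2 => by
    obtain ⟨m, t, h3, h4⟩ := h α h1
    exact fA_eq_fB_ti ae ho Q hQ h1 h2 h3 h4 l⟩

omit [Finite X] in
theorem sq_inn {γ : MulAut X}
    (hγ : ∀ α : MulAut X, (∀ z ∈ center X, α z = z) → ∃ x, α = MulAut.conj x ∨ α = MulAut.conj x * γ) {α : MulAut X}
    (hα : ∀ z ∈ center X, α z = z) : ∃ t, α ^ 2 = MulAut.conj t := by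
  obtain ⟨x, h | h⟩ := hγ (α ^ 2) fun z hz => by rw [pow_two, MulAut.mul_apply, hα z hz, hα z hz]
  · exact ⟨x, h⟩
  obtain ⟨y, h1 | h1⟩ := hγ α hα
  · exact ⟨y ^ 2, by rw [h1, map_pow]⟩
  · have h2 : α = MulAut.conj (x * y⁻¹) := mul_right_cancel (b := α) (by
      rw [← pow_two, h, h1, map_mul, map_inv, mul_assoc, inv_mul_cancel_left])
    exact ⟨(x * y⁻¹) ^ 2, by rw [h2, map_pow]⟩

variable {H : Type} [Group H] {m : ℕ}

theorem smC_of_ti (ae : AE p) (hp : p ≠ 2) (hm : ¬ p ∣ m) (o : OutC m H) (T : Sylow p H) (hT : S.TI (T : Subgroup H)) :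
    SmC p m H := by
  intro X _ _ φ c _
  obtain ⟨γ, hγ⟩ := o X φ c
  obtain ⟨Q, rfl⟩ := Sylow.mapSurjective_surjective c.surj p T
  refine sm_of_ti ae (c.card ▸ hm) Q (ti_of_cover φ c.surj c.ker.le (c.ker ▸ c.card ▸ hm) Q hT) ⟨γ, fun α hα => ?_⟩
    fun α hα => (sq_inn hγ hα).elim fun t ht =>
      ⟨2, t, fun h => hp ((Nat.prime_dvd_prime_iff_eq Fact.out Nat.prime_two).1 h), ht⟩
  obtain ⟨x, h | h⟩ := hγ α hα
  · exact ⟨0, x, by rw [h, pow_zero, mul_one]⟩
  · exact ⟨1, x, by rw [h, pow_one]⟩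

/-- Sylow subgroups of prime order -/
theorem smC_of_not_sq [Finite H] (ae : AE p) (hp : p ≠ 2) (hm : ¬ p ∣ m) (o : OutC m H) (h : ¬ p ^ 2 ∣ Nat.card H) :
    SmC p m H := smC_of_ti ae hp hm o default (ti_of_not_sq _ h)

end Cfsg.Agent.MO.TI
end

-- part: MO/S/M7/Cnt
section
/-!
# MO, local counts: a normal Sylow subgroup (helper57)

* `k0_quot` : the characters of `p'`-degree are trivial on `P'` for a normal `p`-subgroup `P`;
* `card_classes` : `k(V : H) * |H|` is the number of the commuting triples in `H × H × V`.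
-/

set_option autoImplicit false

namespace Cfsg.Agent.MO.S.M7

open Cfsg Subgroup Cfsg.Agent.MO.T Cfsg.Agent.ODD.Red Cfsg.Agent.Characters Cfsg.Agent.Characters.Core
open scoped commutatorElement

variable {p : ℕ} {G H : Type} [Group G] [Group H] [Finite G]

theorem ker_of_pi [Fact p.Prime] (P : Subgroup G) [P.Normal] (hP : IsPGroup p P) {χ : G → ℂ} (h : PI p G χ) {z : G}
    (hz : z ∈ ⁅P, P⁆) : χ z = χ 1 := by
  classical
  have := Fintype.ofFinite G
  have := Fintype.ofFinite P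
  have := finite_irr (G := P)
  have := Fintype.ofFinite (IrrCharacter P)
  rw [← map_subtype_commutator] at hz
  obtain ⟨z, hz, rfl⟩ := hz
  have h1 := classFunction_eq_sum (isCharacter_isClassFunction (Clifford.isCharacter_restrict P (isIrr_isCharacter h.1)))
  have h2 := congrFun h1 z
  have h3 := congrFun h1 1
  rw [Finset.sum_apply] at h2 h3
  refine h2.trans (Eq.trans (Finset.sum_congr rfl fun θ _ => ?_) h3.symm)
  rw [Pi.smul_apply, Pi.smul_apply]
  by_cases h0 : classInner (fun n : P => χ n) (θ : P → ℂ) = 0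
  · rw [h0, zero_smul, zero_smul]
  have h4 := (S0887.result P χ h.1 θ θ.2 h0 _ _ (apply_one (isIrr_isCharacter h.1)) (apply_one (isIrr_isCharacter θ.2))).1
  obtain ⟨n, hn⟩ := hP.exists_card_eq
  obtain ⟨k, -, hk⟩ := (Nat.dvd_prime_pow Fact.out).1 (hn ▸ H142.McKayCount.charDegree_dvd_card θ)
  obtain rfl : k = 0 := by
    by_contra h5
    exact h.2 ((hk ▸ dvd_pow_self p h5).trans h4)
  obtain ⟨f, hf⟩ := Linear.exists_hom_of_isIrrCharacter θ.2 ((H142.McKayCount.charDegree_eq_one_iff θ).1 hk)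
  rw [hf]
  beta_reduce
  rw [show f z = 1 from Abelianization.commutator_subset_ker f hz, map_one]

/-- **quotients by subgroups of `P'`** -/
theorem k0_quot [Fact p.Prime] (P : Subgroup G) [P.Normal] (hP : IsPGroup p P) (π : G →* H)
    (hπ : Function.Surjective π) (hk : π.ker ≤ ⁅P, P⁆) : k0 p G = k0 p H := by
  refine (Nat.card_eq_of_bijective (fun χ => ⟨fun x => χ.1 (π x), pi_comp π hπ χ.2⟩) ⟨fun a b e => ?_, ?_⟩).symm
  · exact Subtype.ext (hπ.injective_comp_right (congrArg Subtype.val e))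
  · rintro ⟨χ, h⟩
    obtain ⟨η, hη, he⟩ := exists_quot π hπ h.1 fun z hz => ker_of_pi P hP h (hk hz)
    refine ⟨⟨η, hη, ?_⟩, Subtype.ext (funext he)⟩
    rw [charDegree_congr (ψ := χ) (by rw [← he, map_one])]
    exact h.2

omit [Finite G] in
theorem card_sup (A B : Subgroup G) (h : B ≤ normalizer (A : Set G)) :
    Nat.card (A ⊔ B : Subgroup G) * Nat.card (A ⊓ B : Subgroup G) = Nat.card A * Nat.card B := by
  have h1 := Lib.ProductSet.card_mul_card_inf A B
  rwa [← coe_mul_of_right_le_normalizer_left A B h] at h1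

theorem card_fib (V : Subgroup G) [V.Normal] (hV : ∀ a ∈ V, ∀ b ∈ V, a * b = b * a) {g h : G} (hc : Commute g h)
    (cop : (Nat.card (closure ({g, h} : Set G))).Coprime (Nat.card V)) :
    Nat.card {q : V × V // Commute (q.1 * g) (q.2 * h)} =
      Nat.card V * Nat.card {v : V // Commute g v ∧ Commute h v} := by
  have hm : IsMulCommutative V := ⟨⟨fun a b => Subtype.ext (hV a a.2 b b.2)⟩⟩
  let _ : CommGroup V := { (inferInstance : Group V) with mul_comm := hm.is_comm.comm }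
  let φ : V × V →* V := (MonoidHom.id V / (MulAut.conjNormal h : MulAut V).toMonoidHom).coprod
    ((MulAut.conjNormal g : MulAut V).toMonoidHom / MonoidHom.id V)
  have hφ : ∀ q, (φ q : G) = q.1 * (h * q.1 * h⁻¹)⁻¹ * (g * q.2 * g⁻¹ * (q.2 : G)⁻¹) := fun q => by
    simp only [φ, div_eq_mul_inv, _root_.MulEquiv.toMonoidHom_eq_coe, _root_.MonoidHom.coprod_apply, _root_.MonoidHom.mul_apply, _root_.MonoidHom.id_apply, _root_.MonoidHom.inv_apply, _root_.MonoidHom.coe_coe, _root_.Subgroup.coe_mul, _root_.InvMemClass.coe_inv, _root_.MulAut.conjNormal_apply, _root_.mul_inv_rev, _root_.inv_inv]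
  have h1 : ∀ q : V × V, Commute (q.1 * g) (q.2 * h) ↔ q ∈ φ.ker := fun q => by
    have h2 := hV _ (inv_mem (‹V.Normal›.conj_mem _ q.1.2 h)) _ (‹V.Normal›.conj_mem _ q.2.2 g)
    rw [MonoidHom.mem_ker, Subtype.ext_iff, hφ, mul_assoc, ← mul_assoc _ (g * _ * _), h2, Commute, SemiconjBy,
      ← mul_inv_eq_one, OneMemClass.coe_one]
    refine Eq.congr_left ?_
    calc _ = q.1 * (g * q.2 * (h * g⁻¹) * (q.1 : G)⁻¹ * h⁻¹ * (q.2 : G)⁻¹) := by group
      _ = _ := by rw [← hc.inv_left.eq]; group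
  let A := _root_.Subgroup.closure ({g, h} : Set G)
  have hA : ∀ a ∈ A, Commute a g ∧ Commute a h := fun a ha =>
    closure_induction (p := fun a _ => Commute a g ∧ Commute a h)
      (by rintro _ (rfl | rfl); exacts [⟨Commute.refl _, hc⟩, ⟨hc.symm, Commute.refl _⟩])
      ⟨Commute.one_left _, Commute.one_left _⟩ (fun _ _ _ _ a b => ⟨a.1.mul_left b.1, a.2.mul_left b.2⟩)
      (fun _ _ a => ⟨a.1.inv_left, a.2.inv_left⟩) ha
  have hg : g ∈ A := Subgroup.subset_closure (Or.inl rfl)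
  have hh : h ∈ A := Subgroup.subset_closure (Or.inr rfl)
  have h2 : φ.range.map V.subtype = ⁅V, A⁆ := by
    apply le_antisymm
    · rintro _ ⟨_, ⟨q, rfl⟩, rfl⟩
      have h3 := mul_mem (commutator_mem_commutator q.1.2 hh) (inv_mem (commutator_mem_commutator q.2.2 hg))
      rw [coe_subtype, hφ]
      convert h3 using 1
      simp only [commutatorElement_def]
      group
    · have h3 : ∀ a ∈ A, ∀ x ∈ φ.range.map V.subtype, a * x * a⁻¹ ∈ φ.range.map V.subtype := by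
        rintro a ha _ ⟨_, ⟨q, rfl⟩, rfl⟩
        refine ⟨_, ⟨(MulAut.conjNormal a q.1, MulAut.conjNormal a q.2), rfl⟩, ?_⟩
        rw [coe_subtype, hφ, hφ, MulAut.conjNormal_apply, MulAut.conjNormal_apply]
        have e1 : h * (a * q.1 * a⁻¹) * h⁻¹ = a * (h * q.1 * h⁻¹) * a⁻¹ := by
          calc _ = (h * a) * q.1 * (h * a)⁻¹ := by group
            _ = _ := by rw [← (hA a ha).2.eq]; group
        have e2 : g * (a * q.2 * a⁻¹) * g⁻¹ = a * (g * q.2 * g⁻¹) * a⁻¹ := by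
          calc _ = (g * a) * q.2 * (g * a)⁻¹ := by group
            _ = _ := by rw [← (hA a ha).1.eq]; group
        rw [e1, e2]
        group
      rw [commutator_comm, commutator_le]
      intro a ha
      refine closure_induction (p := fun a _ => ∀ v ∈ V, ⁅a, v⁆ ∈ φ.range.map V.subtype) ?_
        (fun v _ => by rw [commutatorElement_one_left]; exact one_mem _) (fun a b ha _ h4 h5 v hv => ?_)
        (fun a ha h4 v hv => ?_) ha
      · rintro _ (rfl | rfl) v hv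
        · exact ⟨_, ⟨(1, ⟨v, hv⟩), rfl⟩, by rw [coe_subtype, hφ]; simp only [commutatorElement_def, _root_.OneMemClass.coe_one, _root_.mul_one, _root_.mul_inv_cancel, _root_.inv_one, _root_.one_mul]⟩
        · refine inv_mem_iff.1 ⟨_, ⟨(⟨v, hv⟩, 1), rfl⟩, ?_⟩
          rw [coe_subtype, hφ]
          simp only [commutatorElement_def, mul_assoc, _root_.mul_inv_rev, _root_.inv_inv, _root_.OneMemClass.coe_one, _root_.mul_one, _root_.mul_inv_cancel, _root_.inv_one]
      · convert mul_mem (h3 a ha _ (h5 v hv)) (h4 v hv) using 1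
        simp only [commutatorElement_def]
        group
      · convert h3 _ (inv_mem ha) _ (inv_mem (h4 v hv)) using 1
        simp only [commutatorElement_def]
        group
  obtain ⟨h3, h4⟩ := S0055.result A V (by rw [normalizer_eq_top]; exact le_top) cop
  have h5 := card_sup (V ⊓ centralizer (A : Set G)) ⁅V, A⁆ (fun x hx => centralizer_le_normalizer _
    fun y hy => hV y hy.1 x (commutator_le_left V A hx))
  have h6 : Nat.card (V ⊓ centralizer (A : Set G) : Subgroup G) = Nat.card {v : V // Commute g v ∧ Commute h v} :=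
    Nat.card_congr ⟨fun v => ⟨⟨v, v.2.1⟩, v.2.2 g hg, v.2.2 h hh⟩, fun v => ⟨v.1, v.1.2, fun a ha =>
      ((closure_le (centralizer {(v.1 : G)})).2 (by
        rintro _ (rfl | rfl)
        exacts [mem_centralizer_singleton_iff.2 v.2.1, mem_centralizer_singleton_iff.2 v.2.2]) ha _ rfl).symm⟩,
      fun _ => rfl, fun _ => rfl⟩
  rw [h3, h4, card_bot, mul_one, h6, ← h2, card_map_of_injective V.subtype_injective] at h5
  have h7 := φ.ker.card_mul_index
  rw [index_ker, Nat.card_prod] at h7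
  rw [Nat.card_congr (Equiv.subtypeEquivRight h1)]
  refine Nat.eq_of_mul_eq_mul_right (Nat.card_pos (α := φ.range)) ?_
  rw [mul_assoc, ← h5]
  exact h7

/-- **the number of classes of `V : K`** -/
theorem card_classes (V K : Subgroup G) [V.Normal] (hV : ∀ a ∈ V, ∀ b ∈ V, a * b = b * a) (hK : V.IsComplement' K)
    (cop : (Nat.card K).Coprime (Nat.card V)) : Nat.card (ConjClasses G) * Nat.card K =
      Nat.card {t : V × K × K // Commute (t.2.1 : G) t.2.2 ∧ Commute (t.2.1 : G) t.1 ∧ Commute (t.2.2 : G) t.1} := by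
  classical
  have := Fintype.ofFinite {q : K × K // Commute (q.1 : G) q.2}
  have h1 : ∀ (v w : V) (g h : K), Commute (v * g : G) (w * h) → Commute (g : G) h := fun v w g h hc => by
    have h2 : ⁅(g : G), (h : G)⁆ ∈ V := by
      rw [← QuotientGroup.eq_one_iff, ← QuotientGroup.mk'_apply, map_commutatorElement,
        commutatorElement_eq_one_iff_commute]
      have h3 := hc.map (QuotientGroup.mk' V)
      have h4 : ∀ u : V, QuotientGroup.mk' V u = 1 := fun u => (QuotientGroup.eq_one_iff _).2 u.2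
      rwa [map_mul, map_mul, h4, h4, one_mul, one_mul] at h3
    exact commutatorElement_eq_one_iff_commute.1 (disjoint_def.1 hK.disjoint h2
      (mul_mem (mul_mem (mul_mem g.2 h.2) (inv_mem g.2)) (inv_mem h.2)))
  have h2 : Nat.card {q : G × G // Commute q.1 q.2} = Nat.card (Σ q : {q : K × K // Commute (q.1 : G) q.2},
      {r : V × V // Commute (r.1 * q.1.1 : G) (r.2 * q.1.2)}) := by
    refine (Nat.card_eq_of_bijective (fun t => ⟨(t.2.1.1 * t.1.1.1, t.2.1.2 * t.1.1.2), t.2.2⟩) ⟨?_, ?_⟩).symm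
    · rintro ⟨⟨⟨g, h⟩, a⟩, ⟨v, w⟩, b⟩ ⟨⟨⟨g', h'⟩, a'⟩, ⟨v', w'⟩, b'⟩ e
      have e1 := hK.1 (a₁ := (v, g)) (a₂ := (v', g')) (congrArg (fun x => x.1.1) e)
      have e2 := hK.1 (a₁ := (w, h)) (a₂ := (w', h')) (congrArg (fun x => x.1.2) e)
      cases e1
      cases e2
      rfl
    · rintro ⟨⟨x, y⟩, hc⟩
      obtain ⟨⟨v, g⟩, rfl⟩ := hK.2 x
      obtain ⟨⟨w, h⟩, rfl⟩ := hK.2 y
      exact ⟨⟨⟨(g, h), h1 v w g h hc⟩, (v, w), hc⟩, rfl⟩
  have h3 : Nat.card {t : V × K × K // Commute (t.2.1 : G) t.2.2 ∧ Commute (t.2.1 : G) t.1 ∧ Commute (t.2.2 : G) t.1} =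
      Nat.card (Σ q : {q : K × K // Commute (q.1 : G) q.2}, {v : V // Commute (q.1.1 : G) v ∧ Commute (q.1.2 : G) v}) :=
    Nat.card_congr ⟨fun t => ⟨⟨t.1.2, t.2.1⟩, t.1.1, t.2.2⟩, fun t => ⟨(t.2.1, t.1.1), t.1.2, t.2.2⟩, fun _ => rfl,
      fun _ => rfl⟩
  rw [card_comm_eq_card_conjClasses_mul_card, Nat.card_sigma, Finset.sum_congr rfl fun q _ => card_fib V hV q.2
    (cop.coprime_dvd_left (card_dvd_of_le ((closure_le K).2 (by rintro _ (rfl | rfl); exacts [q.1.1.2, q.1.2.2])))),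
    ← Finset.mul_sum, ← Nat.card_sigma, ← h3, ← hK.card_mul_card] at h2
  refine Nat.eq_of_mul_eq_mul_left (Nat.card_pos (α := V)) ?_
  rw [← h2]
  ring

end Cfsg.Agent.MO.S.M7
end

-- part: MO/S/M7/Chart
section
/-!
# MO, local counts: Sylow subgroups with `P / P'` elementary abelian of order `p ^ 2` (helper57)

* `Ch p P` : coordinates on `P / P'` and the matrices of the elements of `N(P)`; `exists_ch`, `Ch.rebase`;
* `Ch.Fa` : the action of `N(P) / P` is faithful; `Ch.fa`;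
* `Ch.count` : `k0 p N(P) * |L| = cnt p L` for the list `L` of the matrices.
-/

set_option autoImplicit false

namespace Cfsg.Agent.MO.S.M7

open Cfsg Subgroup Cfsg.Agent.MO.T Matrix
open scoped commutatorElement

abbrev V2 (p : ℕ) := Fin 2 → ZMod p

abbrev M2 (p : ℕ) := Matrix (Fin 2) (Fin 2) (ZMod p)

/-- the normaliser -/
abbrev NN {G : Type} [Group G] (P : Subgroup G) : Subgroup G := normalizer (P : Set G)

/-- coordinates on `P / P'` -/
structure Pre (p : ℕ) {G : Type} [Group G] (P : Subgroup G) (c : G → V2 p) : Prop where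
  add : ∀ u ∈ P, ∀ v ∈ P, c (u * v) = c u + c v
  surj : ∀ v, ∃ u ∈ P, c u = v
  ker : ∀ u ∈ P, c u = 0 → u ∈ ⁅P, P⁆

/-- coordinates on `P / P'` and the matrices -/
structure Ch (p : ℕ) {G : Type} [Group G] (P : Subgroup G) where
  c : G → V2 p
  ρ : NN P →* M2 p
  pre : Pre p P c
  conj : ∀ g : NN P, ∀ u ∈ P, c (g * u * (g : G)⁻¹) = ρ g *ᵥ c u

variable {p : ℕ} {G : Type} [Group G] {P : Subgroup G}

theorem comm_le : ⁅P, P⁆ ≤ P :=
  commutator_le.2 fun _ a _ b => mul_mem (mul_mem (mul_mem a b) (inv_mem a)) (inv_mem b)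

theorem conj_mem (g : NN P) {u : G} (hu : u ∈ P) : g * u * (g : G)⁻¹ ∈ P := (mem_normalizer_iff.1 g.2 u).1 hu

theorem conj_mem_comm (g : NN P) {u : G} (hu : u ∈ ⁅P, P⁆) : g * u * (g : G)⁻¹ ∈ ⁅P, P⁆ := by
  have h1 : P.map (MulAut.conj (g : G)).toMonoidHom ≤ P := by
    rintro _ ⟨v, hv, rfl⟩
    exact conj_mem g hv
  exact commutator_mono h1 h1 ((Subgroup.map_commutator P P _).le ⟨u, hu, rfl⟩)

namespace Pre

variable {c : G → V2 p} (h : Pre p P c)
include h

/-- the homomorphism -/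
def hom : P →* Multiplicative (V2 p) :=
  MonoidHom.mk' (fun u => Multiplicative.ofAdd (c u)) fun a b => congrArg _ (h.add a a.2 b b.2)

theorem zero {u : G} (hu : u ∈ ⁅P, P⁆) : c u = 0 := by
  rw [← map_subtype_commutator] at hu
  obtain ⟨u, hu, rfl⟩ := hu
  exact Abelianization.commutator_subset_ker h.hom hu

theorem one : c 1 = 0 := h.zero (one_mem _)

theorem inv {u : G} (hu : u ∈ P) : c u⁻¹ = - c u := map_inv h.hom ⟨u, hu⟩

theorem pow {u : G} (hu : u ∈ P) (k : ℕ) : c (u ^ k) = k • c u := map_pow h.hom ⟨u, hu⟩ k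

theorem eq_iff {u v : G} (hu : u ∈ P) (hv : v ∈ P) : c u = c v ↔ u⁻¹ * v ∈ ⁅P, P⁆ := by
  have h1 : c (u⁻¹ * v) = 0 ↔ c u = c v := by rw [h.add _ (inv_mem hu) _ hv, h.inv hu, neg_add_eq_zero]
  exact ⟨fun e => h.ker _ (mul_mem (inv_mem hu) hv) (h1.2 e), fun e => h1.1 (h.zero e)⟩

theorem mat_ext {A B : M2 p} (e : ∀ u ∈ P, A *ᵥ c u = B *ᵥ c u) : A = B :=
  mulVec_injective (funext fun v => by
    obtain ⟨u, hu, rfl⟩ := h.surj v
    exact e u hu)

theorem exists_ch : ∃ C : Ch p P, C.c = c := by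
  have h1 : ∀ g : NN P, ∃ A : M2 p, ∀ u ∈ P, c (g * u * (g : G)⁻¹) = A *ᵥ c u := fun g => by
    choose s hs hs' using h.surj
    have h2 : ∀ u ∈ P, c (g * s (c u) * (g : G)⁻¹) = c (g * u * (g : G)⁻¹) := fun u hu => by
      rw [h.eq_iff (conj_mem g (hs _)) (conj_mem g hu)]
      convert conj_mem_comm g ((h.eq_iff (hs _) hu).1 (hs' _)) using 1
      group
    let f : V2 p →+ V2 p := AddMonoidHom.mk' (fun v => c (g * s v * (g : G)⁻¹)) fun a b => by
      rw [← h.add _ (conj_mem g (hs _)) _ (conj_mem g (hs _)), conj_mul, ← h2 _ (mul_mem (hs a) (hs b)),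
        h.add _ (hs a) _ (hs b), hs', hs']
    exact ⟨LinearMap.toMatrix' (f.toZModLinearMap p), fun u hu => by
      rw [LinearMap.toMatrix'_mulVec, ← h2 u hu]
      rfl⟩
  choose r hr using h1
  refine ⟨⟨c, ⟨⟨r, h.mat_ext fun u hu => ?_⟩, fun a b => h.mat_ext fun u hu => ?_⟩, h, hr⟩, rfl⟩
  · rw [← hr 1 u hu, one_mulVec, OneMemClass.coe_one, one_mul, inv_one, mul_one]
  · rw [← mulVec_mulVec, ← hr _ u hu, ← hr _ u hu, ← hr _ _ (conj_mem b hu), coe_mul]
    congr 1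
    group

end Pre

theorem exists_equiv' [Fact p.Prime] {A : Type} [AddCommGroup A] [Finite A] [Module (ZMod p) A]
    (h1 : Nat.card A = p ^ 2) : Nonempty (A ≃+ V2 p) := by
  have := Fintype.ofFinite A
  have h3 := Module.card_eq_pow_finrank (K := ZMod p) (V := A)
  rw [ZMod.card, ← Nat.card_eq_fintype_card, h1] at h3
  exact ⟨(Module.finBasisOfFinrankEq (ZMod p) A
    (Nat.pow_right_injective (Fact.out : p.Prime).two_le h3).symm).equivFun.toAddEquiv⟩

theorem exists_equiv [Fact p.Prime] {A : Type} [AddCommGroup A] [Finite A] (h1 : Nat.card A = p ^ 2)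
    (h2 : ∀ x : A, p • x = 0) : Nonempty (A ≃+ V2 p) :=
  @exists_equiv' p _ A _ _ (AddCommGroup.zmodModule h2) h1

theorem exists_ch [Finite G] [Fact p.Prime] (h1 : ⁅P, P⁆.relIndex P = p ^ 2) (h2 : ∀ u ∈ P, u ^ p = 1) :
    Nonempty (Ch p P) := by
  classical
  have : Finite (Additive (Abelianization P)) := inferInstanceAs (Finite (P ⧸ _root_.commutator P))
  obtain ⟨e⟩ := exists_equiv (p := p) (A := Additive (Abelianization P))
    (by rw [← h1, relIndex, ← MK.T.commutator_eq_subgroupOf]; rfl) fun x => by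
    obtain ⟨u, rfl⟩ := QuotientGroup.mk_surjective (s := _root_.commutator P) x
    exact (map_pow Abelianization.of u p).symm.trans (by rw [show u ^ p = 1 from Subtype.ext (h2 u u.2), map_one]; rfl)
  have h4 : Pre p P fun u => if h : u ∈ P then e (Additive.ofMul (Abelianization.of ⟨u, h⟩)) else 0 := by
    refine ⟨fun u hu v hv => ?_, fun v => ?_, fun u hu h5 => ?_⟩
    · rw [dif_pos hu, dif_pos hv, dif_pos (mul_mem hu hv), ← map_add, ← ofMul_mul, ← map_mul]
      rfl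
    · obtain ⟨x, rfl⟩ := e.surjective v
      obtain ⟨u, rfl⟩ := QuotientGroup.mk_surjective (s := _root_.commutator P) x
      exact ⟨u, u.2, dif_pos u.2⟩
    · rw [dif_pos hu, map_eq_zero_iff _ e.injective] at h5
      rw [← map_subtype_commutator]
      exact ⟨⟨u, hu⟩, (QuotientGroup.eq_one_iff _).1 h5, rfl⟩
  exact ⟨h4.exists_ch.choose⟩

namespace Ch

variable (C : Ch p P)

/-- change of the basis -/
theorem rebase [Fact p.Prime] {m : M2 p} (hm : m.det ≠ 0) :
    ∃ D : Ch p P, (∀ u, m *ᵥ D.c u = C.c u) ∧ ∀ g A, m * A = C.ρ g * m → D.ρ g = A := by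
  have h0 : IsUnit m.det := hm.isUnit
  have h1 : ∀ v, m *ᵥ (m⁻¹ *ᵥ v) = v := fun v => by rw [mulVec_mulVec, mul_nonsing_inv _ h0, one_mulVec]
  have h2 : ∀ v, m⁻¹ *ᵥ (m *ᵥ v) = v := fun v => by rw [mulVec_mulVec, nonsing_inv_mul _ h0, one_mulVec]
  obtain ⟨D, hD⟩ := (⟨fun u hu v hv => by rw [C.pre.add u hu v hv, mulVec_add], fun v =>
    (C.pre.surj (m *ᵥ v)).imp fun u hu => ⟨hu.1, by rw [hu.2, h2]⟩, fun u hu e => C.pre.ker u hu (by
      rw [← h1 (C.c u), e, mulVec_zero])⟩ : Pre p P fun u => m⁻¹ *ᵥ C.c u).exists_ch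
  have h3 : ∀ u, m *ᵥ D.c u = C.c u := fun u => by rw [hD, h1]
  refine ⟨D, h3, fun g A hA => D.pre.mat_ext fun u hu => ?_⟩
  rw [← D.conj g u hu, ← h2 (D.c _), h3, C.conj g u hu, ← h3, mulVec_mulVec (D.c u), ← hA, ← mulVec_mulVec, h2]

include C in
/-- a basis with a given first vector -/
theorem exists_first [Fact p.Prime] {a : G} (ha : a ∈ P) (hn : a ∉ ⁅P, P⁆) : ∃ D : Ch p P, D.c a = ![1, 0] := by
  obtain ⟨m, h1, h2⟩ : ∃ m : M2 p, m.det ≠ 0 ∧ m *ᵥ ![1, 0] = C.c a := by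
    by_cases h : C.c a 0 = 0
    · refine ⟨!![0, 1; C.c a 1, 0], fun e => hn (C.pre.ker a ha (funext fun i => ?_)), funext fun i => ?_⟩
      · fin_cases i
        · exact h
        · simpa using e
      · (revert i; simp only [h, _root_.Fin.forall_fin_succ, Fin.isValue, _root_.Matrix.mulVec_cons, _root_.Nat.succ_eq_add_one, Nat.reduceAdd, _root_.one_smul, _root_.zero_smul, _root_.Matrix.mulVec_empty, _root_.add_zero, _root_.Pi.add_apply, _root_.Function.comp_apply, _root_.Pi.zero_apply, _root_.Matrix.cons_val_zero, _root_.Matrix.head_cons, _root_.Matrix.cons_val_succ, _root_.Matrix.cons_val_fin_one, _root_.Fin.succ_zero_eq_one, _root_.IsEmpty.forall_iff, _root_.and_self])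
    · exact ⟨!![C.c a 0, 0; C.c a 1, 1], by simpa using h, funext fun i => by fin_cases i <;> simp⟩
  obtain ⟨D, hD, -⟩ := C.rebase h1
  exact ⟨D, mulVec_injective_iff_isUnit.2 ((isUnit_iff_isUnit_det _).2 h1.isUnit) ((hD a).trans h2.symm)⟩

theorem rho_of_mem {g : NN P} (hg : (g : G) ∈ P) : C.ρ g = 1 :=
  C.pre.mat_ext fun u hu => by
    rw [← C.conj g u hu, one_mulVec, C.pre.add _ (mul_mem hg hu) _ (inv_mem hg), C.pre.add _ hg _ hu, C.pre.inv hg,
      add_neg_cancel_comm]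

/-- the action of `N(P) / P` is faithful -/
def Fa : Prop := ∀ g, C.ρ g = 1 → (g : G) ∈ P

end Ch

section sylow

variable [Finite G] [Fact p.Prime] {S : Sylow p G} (C : Ch p (S : Subgroup G))

omit C in
theorem not_dvd_rel : ¬ p ∣ (S : Subgroup G).relIndex (NN S) :=
  nd_of_dvd S.not_dvd_index (relIndex_dvd_index_of_le le_normalizer)

omit C in
theorem mem_of_pow {g : NN (S : Subgroup G)} (h : (g : G) ^ p ∈ (S : Subgroup G)) : (g : G) ∈ (S : Subgroup G) := by
  have : ((S : Subgroup G).subgroupOf (NN S)).Normal := normal_in_normalizer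
  have h1 : orderOf (g : NN (S : Subgroup G) ⧸ (S : Subgroup G).subgroupOf (NN S)) ∣ p :=
    orderOf_dvd_of_pow_eq_one ((QuotientGroup.eq_one_iff (g ^ p)).2 h)
  rcases (Nat.dvd_prime Fact.out).1 h1 with h2 | h2
  · exact (QuotientGroup.eq_one_iff g).1 (orderOf_eq_one_iff.1 h2)
  · exact absurd (h2 ▸ _root_.orderOf_dvd_natCard _) not_dvd_rel

theorem Ch.fa (h : ∀ y : G, (orderOf y).Prime → orderOf y ≠ p → ¬ (S : Subgroup G) ≤ centralizer {y}) : C.Fa := by
  have h1 : (S : Subgroup G).subgroupOf (NN S) ≤ C.ρ.toHomUnits.ker := fun g hg => Units.ext (C.rho_of_mem hg)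
  by_contra h2
  have h3 : ((S : Subgroup G).subgroupOf (NN S)).relIndex C.ρ.toHomUnits.ker ≠ 1 := fun e =>
    h2 fun g hg => relIndex_eq_one.1 e (Units.ext hg)
  obtain ⟨r, hr, h4⟩ := Nat.exists_prime_and_dvd h3
  obtain ⟨y, hy⟩ := @exists_prime_orderOf_dvd_card' _ _ _ r ⟨hr⟩ (h4.trans (relIndex_dvd_card _ _))
  rw [← orderOf_coe, ← orderOf_coe] at hy
  have h5 : r ≠ p := fun e => not_dvd_rel (S := S) ((dvd_of_eq e.symm).trans (h4.trans (relIndex_dvd_index_of_le h1)))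
  refine h y.1.1 (hy ▸ hr) (hy ▸ h5) fun u hu => mem_centralizer_singleton_iff.2 ?_
  refine S0029.result (zpowers y.1.1) S (zpowers_le.2 y.1.2) ?_ (fun a ha k hk => ?_) (mem_zpowers _) u hu
  · obtain ⟨n, hn⟩ := (S.isPGroup'.to_subgroup (frattini S)).exists_card_eq
    rw [Nat.card_zpowers, hy, hn]
    exact ((Nat.coprime_primes hr Fact.out).2 h5).pow_right n
  · obtain ⟨i, rfl⟩ := mem_zpowers_iff.1 ha
    refine map_mono (S0012.result p S.isPGroup').1 ((map_subtype_commutator _).ge ?_)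
    have h6 := conj_mem (y ^ i).1 hk
    refine C.pre.ker _ (mul_mem h6 (inv_mem hk)) ?_
    have h7 := C.conj (y ^ i).1 k hk
    rw [show C.ρ (y ^ i).1 = 1 from congrArg Units.val (y ^ i).2, one_mulVec] at h7
    exact (C.pre.add _ h6 _ (inv_mem hk)).trans (by rw [h7, C.pre.inv hk, add_neg_cancel])

/-- unipotent elements -/
theorem Ch.Fa.unip {C : Ch p (S : Subgroup G)} (hf : C.Fa) {g : NN (S : Subgroup G)} (h1 : C.ρ g 0 0 = 1)
    (h2 : C.ρ g 1 0 = 0) (h3 : C.ρ g 1 1 = 1) : (g : G) ∈ (S : Subgroup G) := by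
  refine mem_of_pow (hf (g ^ p) ?_)
  have h4 : ∀ k : ℕ, C.ρ g ^ k = !![1, k * C.ρ g 0 1; 0, 1] := fun k => by
    induction k with
    | zero => simp [one_fin_two]
    | succ k ih =>
      rw [pow_succ, ih]
      conv_lhs => rw [eta_fin_two (C.ρ g), h1, h2, h3]
      simp [add_mul, add_comm]
  rw [map_pow, h4, ZMod.natCast_self, zero_mul, one_fin_two]

/-- the order of the group -/
theorem card_mod {m : ℕ} (h : Nat.card G = Nat.card (S : Subgroup G) * m) :
    (S : Subgroup G).relIndex (NN S) % p = m % p := by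
  have h1 := card_sylow_modEq_one p G
  rw [S.card_eq_index_normalizer] at h1
  rw [← (S : Subgroup G).card_mul_index, ← relIndex_mul_index (le_normalizer : (S : Subgroup G) ≤ NN S)] at h
  rw [← Nat.eq_of_mul_eq_mul_left Nat.card_pos h]
  exact ((h1.mul_left _).trans (by rw [mul_one])).symm

end sylow

/-! ### matrices as quadruples -/

abbrev Q4 := ℕ × ℕ × ℕ × ℕ

/-- the entries -/
def toQ (A : M2 p) : Q4 := ((A 0 0).val, (A 0 1).val, (A 1 0).val, (A 1 1).val)

/-- the product -/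
def mul (p : ℕ) (a b : Q4) : Q4 :=
  ((a.1 * b.1 + a.2.1 * b.2.2.1) % p, (a.1 * b.2.1 + a.2.1 * b.2.2.2) % p,
    (a.2.2.1 * b.1 + a.2.2.2 * b.2.2.1) % p, (a.2.2.1 * b.2.1 + a.2.2.2 * b.2.2.2) % p)

/-- equality -/
def eqQ (a b : Q4) : Bool := a.1.beq b.1 && a.2.1.beq b.2.1 && a.2.2.1.beq b.2.2.1 && a.2.2.2.beq b.2.2.2

/-- `a` fixes the vector `(x, y)` -/
def fix (p x y : ℕ) (a : Q4) : Bool := ((a.1 * x + a.2.1 * y) % p).beq x && ((a.2.2.1 * x + a.2.2.2 * y) % p).beq y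

/-- the number of the commuting pairs -/
def cp (p : ℕ) (L : List Q4) : ℕ := (L.map fun a => L.countP fun b => eqQ (mul p a b) (mul p b a)).sum

/-- the number of the commuting triples -/
def cnt (p : ℕ) (L : List Q4) : ℕ :=
  ((List.range p).map fun x => ((List.range p).map fun y => cp p (L.filter (fix p x y))).sum).sum

/-- all quadruples -/
def allQ (p : ℕ) : List Q4 :=
  (List.range p).flatMap fun a => (List.range p).flatMap fun b => (List.range p).flatMap fun c =>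
    (List.range p).map fun d => (a, b, c, d)

theorem eqQ_iff {a b : Q4} : eqQ a b = true ↔ a = b := by
  simp [eqQ, Prod.ext_iff, and_assoc]

section

variable [NeZero p]

theorem toQ_inj : Function.Injective (toQ : M2 p → Q4) := fun A B h => by
  simp only [toQ, Prod.mk.injEq, (ZMod.val_injective p).eq_iff] at h
  rw [eta_fin_two A, eta_fin_two B, h.1, h.2.1, h.2.2.1, h.2.2.2]

theorem toQ_mul (A B : M2 p) : toQ (A * B) = mul p (toQ A) (toQ B) := by
  simp only [toQ, mul, mul_apply, ZMod.val_add, ZMod.val_mul, _root_.Fin.isValue, _root_.Fin.sum_univ_two, _root_.Nat.add_mod_mod, _root_.Nat.mod_add_mod]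

theorem fix_iff (A : M2 p) (v : V2 p) : fix p (v 0).val (v 1).val (toQ A) = true ↔ A *ᵥ v = v := by
  simp only [fix, toQ, funext_iff, ← (ZMod.val_injective p).eq_iff, ZMod.val_add, ZMod.val_mul, _root_.Fin.isValue, _root_.Bool.and_eq_true, _root_.Nat.beq_eq, _root_.Matrix.mulVec_fin_two, _root_.Nat.succ_eq_add_one, _root_.Nat.reduceAdd, _root_.Fin.forall_fin_two, _root_.Matrix.cons_val_zero, _root_.Nat.add_mod_mod, _root_.Nat.mod_add_mod, _root_.Matrix.cons_val_one, _root_.Matrix.cons_val_fin_one]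

theorem mem_allQ (A : M2 p) : toQ A ∈ allQ p := by
  simp only [allQ, toQ, ZMod.val_lt, _root_.Fin.isValue, _root_.List.mem_flatMap, _root_.List.mem_range, _root_.List.mem_map, _root_.Prod.mk.injEq, ↓ _root_.ExistsAndEq.existsAndEq, _root_.and_true, _root_.true_and, _root_.exists_eq_right_right, _root_.exists_eq_right]

end

theorem sum_list {K A : Type} [Fintype K] [DecidableEq A] {μ : K → A} (hμ : Function.Injective μ) {L : List A}
    (nd : L.Nodup) (hL : ∀ q, q ∈ L ↔ ∃ g, μ g = q) (F : A → ℕ) : ∑ g, F (μ g) = (L.map F).sum := by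
  rw [← List.sum_toFinset F nd, ← Finset.sum_image fun a _ b _ e => hμ e]
  exact Finset.sum_congr (Finset.ext fun q => by simp only [hL, _root_.Finset.mem_image, _root_.Finset.mem_univ, _root_.true_and, _root_.List.mem_toFinset]) fun _ _ => rfl

theorem card_pairs {K : Type} [Finite K] {μ : K → Q4} (hμ : Function.Injective μ) {L : List Q4} (nd : L.Nodup)
    (hL : ∀ q, q ∈ L ↔ ∃ g, μ g = q) (r : Q4 → Q4 → Bool) :
    Nat.card {q : K × K // r (μ q.1) (μ q.2) = true} = (L.map fun a => L.countP (r a)).sum := by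
  have := Fintype.ofFinite K
  rw [← sum_list hμ nd hL, Nat.card_eq_fintype_card, Fintype.card_subtype, Finset.card_filter, Fintype.sum_prod_type]
  refine Finset.sum_congr rfl fun g _ => ?_
  rw [sum_list hμ nd hL fun b => if r (μ g) b = true then 1 else 0]
  clear nd hL
  induction L with
  | nil => rfl
  | cons a L ih => rw [List.map_cons, List.sum_cons, ih, List.countP_cons, add_comm]

theorem sum_V2 [NeZero p] (F : ℕ → ℕ → ℕ) [Fintype (V2 p)] :
    ∑ v : V2 p, F (v 0).val (v 1).val = ((List.range p).map fun x => ((List.range p).map (F x)).sum).sum := by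
  have h1 : ∀ f : ℕ → ℕ, ∑ a : ZMod p, f a.val = ((List.range p).map f).sum :=
    sum_list (ZMod.val_injective p) List.nodup_range fun q =>
      ⟨fun h => ⟨q, ZMod.val_cast_of_lt (List.mem_range.1 h)⟩, fun ⟨a, h⟩ => h ▸ List.mem_range.2 a.val_lt⟩
  rw [← h1, Finset.sum_congr rfl fun a _ => (h1 _).symm, ← Fintype.sum_prod_type']
  exact Fintype.sum_equiv (finTwoArrowEquiv _) _ _ fun _ => rfl

section count

variable [Finite G] [Fact p.Prime] {S : Sylow p G} {C : Ch p (S : Subgroup G)} (hf : C.Fa)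
include hf

omit [Finite G] in
theorem Ch.Fa.ker : C.ρ.toHomUnits.ker = (S : Subgroup G).subgroupOf (NN S) :=
  le_antisymm (fun g hg => hf g (congrArg Units.val hg)) fun _ hg => Units.ext (C.rho_of_mem hg)

omit [Finite G] in
theorem Ch.Fa.card_range : (Set.range fun g => toQ (C.ρ g)).ncard = (S : Subgroup G).relIndex (NN S) := by
  rw [relIndex, ← hf.ker, index_ker, ← Set.ncard_image_of_injective (s := (C.ρ.toHomUnits.range : Set (M2 p)ˣ))
    (toQ_inj.comp Units.val_injective) |>.trans (Set.ncard_def _ ▸ rfl : _ = Nat.card C.ρ.toHomUnits.range)]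
  congr 1
  ext q
  exact ⟨fun ⟨g, h⟩ => ⟨_, ⟨g, rfl⟩, h⟩, fun ⟨_, ⟨g, h⟩, h'⟩ => ⟨g, by rw [← h', ← h]; rfl⟩⟩

/-- **the count** -/
theorem Ch.Fa.count {L : List Q4} (nd : L.Nodup) (hL : ∀ q, q ∈ L ↔ ∃ g, toQ (C.ρ g) = q) :
    k0 p (NN (S : Subgroup G)) * (S : Subgroup G).relIndex (NN S) = cnt p L := by
  classical
  let T := (S : Subgroup G).subgroupOf (NN S)
  have : T.Normal := normal_in_normalizer
  have hT : IsPGroup p T := S.isPGroup'.comap_subtype
  have h1 : ∀ u : NN (S : Subgroup G), u ∈ ⁅T, T⁆ ↔ (u : G) ∈ ⁅(S : Subgroup G), (S : Subgroup G)⁆ := fun u => by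
    rw [← mem_map_iff_mem (subtype_injective _), Subgroup.map_commutator, map_subgroupOf_eq_of_le le_normalizer]
    rfl
  let π := QuotientGroup.mk' ⁅T, T⁆
  have hπ : Function.Surjective π := QuotientGroup.mk'_surjective _
  have h2 : ∀ u ∈ T, ∀ v ∈ T, π u = π v ↔ C.c u = C.c v := fun u hu v hv => by
    rw [C.pre.eq_iff (u := u) (v := v) hu hv, ← coe_inv, ← coe_mul, ← h1]
    exact QuotientGroup.eq
  let V := T.map π
  have : V.Normal := Normal.map ‹_› π hπ
  have hV : ∀ a ∈ V, ∀ b ∈ V, a * b = b * a := by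
    rintro _ ⟨a, ha, rfl⟩ _ ⟨b, hb, rfl⟩
    rw [← map_mul, ← map_mul, h2 _ (mul_mem ha hb) _ (mul_mem hb ha), coe_mul, coe_mul, C.pre.add a ha b hb,
      C.pre.add b hb a ha, add_comm]
  have h3 : V.index = (S : Subgroup G).relIndex (NN S) :=
    index_map_eq _ hπ ((QuotientGroup.ker_mk' _).le.trans comm_le)
  obtain ⟨n, hn⟩ := (hT.map π).exists_card_eq
  have h4 : (Nat.card V).Coprime V.index := by
    rw [hn, h3]
    exact cop_pow not_dvd_rel n
  obtain ⟨K, hK⟩ := exists_right_complement'_of_coprime h4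
  have h5 := card_classes V K hV hK (hK.symm.index_eq_card ▸ h4.symm)
  rw [← k0_abelian (p := p) V hV (h3 ▸ not_dvd_rel), ← k0_quot T hT π hπ (QuotientGroup.ker_mk' _).le,
    ← hK.symm.index_eq_card, h3] at h5
  let r : _ ⧸ ⁅T, T⁆ →* M2 p := QuotientGroup.lift _ C.ρ fun g hg => C.rho_of_mem (comm_le (P := T) hg)
  have h6 : ∀ g h : K, r g = r h → g = h := fun g h e => by
    obtain ⟨x, hx⟩ := hπ (g⁻¹ * h : K)
    have h7 : C.ρ x = 1 := by
      change r (π x) = 1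
      rw [hx, coe_mul, map_mul, ← e, ← map_mul, coe_inv, inv_mul_cancel, map_one]
    exact inv_mul_eq_one.1 (Subtype.ext (disjoint_def.1 hK.disjoint ⟨x, hf x h7, hx⟩ (g⁻¹ * h).2))
  have h7 : ∀ q, q ∈ L ↔ ∃ g : K, toQ (r g) = q := fun q => (hL q).trans ⟨fun ⟨g, e⟩ => by
    obtain ⟨⟨⟨_, u, hu, rfl⟩, k⟩, h8⟩ := hK.2 (π g)
    refine ⟨k, e ▸ congrArg toQ ?_⟩
    change _ = r (π g)
    rw [← h8, map_mul, show r (π u) = 1 from C.rho_of_mem hu, one_mul], fun ⟨g, e⟩ => by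
    obtain ⟨x, hx⟩ := hπ g
    exact ⟨x, by rw [← e, ← hx]; rfl⟩⟩
  choose s hs hs' using fun v : V => v.2
  have h8 : Function.Bijective fun v => C.c (s v) := ⟨fun a b e => Subtype.ext (by
    rw [← hs', ← hs', (h2 _ (hs a) _ (hs b)).2 e]), fun v => by
    obtain ⟨u, hu, rfl⟩ := C.pre.surj v
    exact ⟨⟨π ⟨u, le_normalizer hu⟩, _, hu, rfl⟩, (h2 _ (hs _) ⟨u, le_normalizer hu⟩ hu).1 (hs' _)⟩⟩
  have h9 : ∀ (g : K) (v : V), Commute g.1 v.1 ↔ fix p (C.c (s v) 0).val (C.c (s v) 1).val (toQ (r g)) = true :=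
    fun g v => by
    obtain ⟨x, hx⟩ := hπ g
    rw [fix_iff, ← hx, show r (π x) = C.ρ x from rfl, ← C.conj x (s v) (hs v), ← coe_inv, ← coe_mul, ← coe_mul,
      ← h2 _ (‹T.Normal›.conj_mem _ (hs v) x) _ (hs v), map_mul, map_mul, map_inv, hs', mul_inv_eq_iff_eq_mul]
    rfl
  have := Fintype.ofFinite V
  rw [h5, cnt, ← sum_V2, ← h8.sum_comp, ← Finset.sum_congr rfl fun v _ => card_pairs
    (K := {g : K // Commute g.1 v.1}) (μ := fun g => toQ (r g.1)) (fun a b e => Subtype.ext (h6 _ _ (toQ_inj e)))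
    (nd.filter _) (fun q => by
      rw [List.mem_filter, h7]
      exact ⟨fun ⟨⟨g, e⟩, h⟩ => ⟨⟨g, (h9 g v).2 (e ▸ h)⟩, e⟩, fun ⟨g, e⟩ => ⟨⟨g, e⟩, e ▸ (h9 g v).1 g.2⟩⟩)
    fun a b => eqQ (mul p a b) (mul p b a), ← Nat.card_sigma]
  have h10 : ∀ g h : K, Commute g.1 h.1 ↔ eqQ (mul p (toQ (r g)) (toQ (r h))) (mul p (toQ (r h)) (toQ (r g))) = true :=
    fun g h => by
    rw [eqQ_iff, ← toQ_mul, ← toQ_mul, ← map_mul, ← map_mul]
    exact ⟨fun e => by rw [e.eq], fun e => congrArg Subtype.val (h6 (g * h) (h * g) (toQ_inj e))⟩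
  exact Nat.card_congr ⟨fun t => ⟨t.1.1, (⟨t.1.2.1, t.2.2.1⟩, ⟨t.1.2.2, t.2.2.2⟩), (h10 _ _).1 t.2.1⟩,
    fun t => ⟨(t.1, t.2.1.1.1, t.2.1.2.1), (h10 _ _).2 t.2.2, t.2.1.1.2, t.2.1.2.2⟩, fun _ => rfl, fun _ => rfl⟩

/-- the list contains the matrices -/
theorem Ch.Fa.count_sub {L : List Q4} (h1 : ∀ g, toQ (C.ρ g) ∈ L) (h2 : L.length ≤ (S : Subgroup G).relIndex (NN S)) :
    k0 p (NN (S : Subgroup G)) * (S : Subgroup G).relIndex (NN S) = cnt p L := by
  have h3 : (Set.range fun g => toQ (C.ρ g)) ⊆ L.toFinset := by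
    rintro _ ⟨g, rfl⟩
    exact List.mem_toFinset.2 (h1 g)
  have h4 := Set.ncard_le_ncard h3
  rw [hf.card_range, Set.ncard_coe_finset] at h4
  have h5 := Set.eq_of_subset_of_ncard_le h3 (by
    rw [hf.card_range, Set.ncard_coe_finset]
    exact (List.toFinset_card_le L).trans h2)
  exact hf.count (Multiset.toFinset_card_eq_card_iff_nodup.1 (le_antisymm (List.toFinset_card_le L) (h2.trans h4)))
    fun q => by rw [← List.mem_toFinset, ← Finset.mem_coe, ← h5]; rfl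

/-- the list consists of matrices -/
theorem Ch.Fa.count_sup {L : List Q4} (nd : L.Nodup) (h1 : ∀ q ∈ L, ∃ g, toQ (C.ρ g) = q)
    (h2 : (S : Subgroup G).relIndex (NN S) ≤ L.length) :
    k0 p (NN (S : Subgroup G)) * (S : Subgroup G).relIndex (NN S) = cnt p L := by
  have : Finite (NN (S : Subgroup G)) := inferInstance
  have h5 := Set.eq_of_subset_of_ncard_le (s := L.toFinset) (t := Set.range fun g => toQ (C.ρ g))
    (fun q hq => h1 q (List.mem_toFinset.1 hq)) (by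
      rwa [hf.card_range, Set.ncard_coe_finset, List.toFinset_card_of_nodup nd])
  exact hf.count nd fun q => by rw [← List.mem_toFinset, ← Finset.mem_coe, h5]; rfl

end count

end Cfsg.Agent.MO.S.M7
end

-- part: MO/L/Abs
section
/-!
# MO, the local count (helper4): the abstract part

`Q` is a normal `p`-subgroup of `N` with quotient `H` of order prime to `p`, and `V` is `Q / Q'`.

* `apply_comm` : the characters of `p'`-degree are trivial on `Q'`;
* `fix_mul_card` : fixed characters and twisted commuting pairs;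
* `card_sol` : the number of the solutions of `u - t u - (w - a w) = e`;
* `f0_mul_card` : `f0 p β * |H|` is the number of the triples `(a, c, v)` with `c * b a = a * c`, `a • v = v`, `c • m v = v`.
-/

set_option autoImplicit false

namespace Cfsg.Agent.MO.L

open Cfsg Subgroup Cfsg.Agent.ODD.Red Cfsg.Agent.Characters Cfsg.Agent.Characters.Core Cfsg.Agent.MO.T
open Cfsg.Agent.H142.McKayCount
open scoped commutatorElement

variable {p : ℕ}

/-- the characters of `p'`-degree are trivial on the commutator subgroup of a normal `p`-subgroup -/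
theorem apply_comm {N : Type} [Group N] [Finite N] [hp : Fact p.Prime] (Q : Subgroup N) [Q.Normal] (hQ : IsPGroup p Q)
    {ψ : N → ℂ} (h : PI p N ψ) {z : N} (hz : z ∈ ⁅Q, Q⁆) : ψ z = ψ 1 := by
  classical
  have := Fintype.ofFinite N
  have := Fintype.ofFinite Q
  have := finite_irr (G := Q)
  have := Fintype.ofFinite (IrrCharacter Q)
  obtain ⟨m, hm⟩ := exists_nat_comb (Clifford.isCharacter_restrict Q (isIrr_isCharacter h.1))
  have h1 : ∀ θ : IrrCharacter Q, m θ ≠ 0 → classInner (fun q : Q => ψ q) θ ≠ 0 := fun θ hθ => by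
    rw [hm, classInner_sum_nsmul_irr]
    exact_mod_cast hθ
  have h2 : ∀ q : Q, ψ q = ∑ θ : IrrCharacter Q, (m θ : ℂ) * (θ : Q → ℂ) q := fun q => by
    have := congrFun hm q
    simpa only [Finset.sum_apply, _root_.nsmul_eq_mul, _root_.Pi.mul_apply, _root_.Pi.natCast_apply] using this
  obtain ⟨k, hk⟩ := hQ.exists_card_eq
  have h3 : ∃ θ : IrrCharacter Q, m θ ≠ 0 ∧ (θ : Q → ℂ) 1 = 1 := by
    by_contra hc
    push Not at hc
    apply h.2
    have h4 : charDegree ψ = ∑ θ : IrrCharacter Q, m θ * charDegree (θ : Q → ℂ) := by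
      have h5 := h2 1
      rw [OneMemClass.coe_one, apply_one (isIrr_isCharacter h.1)] at h5
      have h6 : ∀ θ : IrrCharacter Q, (θ : Q → ℂ) 1 = charDegree (θ : Q → ℂ) := fun θ => apply_one (isIrr_isCharacter θ.2)
      simp only [h6] at h5
      exact_mod_cast h5
    rw [h4]
    refine Finset.dvd_sum fun θ _ => ?_
    by_cases h5 : m θ = 0
    · rw [h5, zero_mul]
      exact dvd_zero _
    · have h6 := charDegree_dvd_card θ
      rw [hk] at h6
      obtain ⟨j, -, hj⟩ := (Nat.dvd_prime_pow hp.out).1 h6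
      rcases j with _ | j
      · exact absurd ((charDegree_eq_one_iff θ).1 hj) (hc θ h5)
      · rw [hj]
        exact (dvd_pow_self p j.succ_ne_zero).mul_left _
  obtain ⟨θ₀, h4, h5⟩ := h3
  have hzQ : z ∈ Q := commutator_le_left Q Q hz
  have h6 : (⟨z, hzQ⟩ : Q) ∈ _root_.commutator Q := by
    rw [MK.T.commutator_eq_subgroupOf]
    exact hz
  rw [show ψ z = ψ (⟨z, hzQ⟩ : Q) from rfl, show ψ 1 = ψ (1 : Q) from rfl, h2, h2]
  refine Finset.sum_congr rfl fun θ _ => ?_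
  by_cases h7 : m θ = 0
  · rw [h7, Nat.cast_zero, zero_mul, zero_mul]
  · obtain ⟨g, hg⟩ := Clifford.exists_conj_of_constituents Q h.1 θ₀.2 θ.2 (h1 _ h4) (h1 _ h7)
    have h8 : (θ : Q → ℂ) 1 = 1 := by rw [hg, Function.comp_apply, map_one, h5]
    obtain ⟨μ, hμ⟩ := Linear.exists_hom_of_isIrrCharacter θ.2 h8
    rw [h8, hμ]
    beta_reduce
    rw [show μ ⟨z, hzQ⟩ = 1 from Abelianization.commutator_subset_ker μ h6, Units.val_one]

/-- passage to a quotient with an abelian normal subgroup of `p'`-index -/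
theorem f0_quot {N M : Type} [Group N] [Finite N] [Group M] [Fact p.Prime] (φ : N →* M) (hφ : Function.Surjective φ)
    (Q : Subgroup N) [Q.Normal] (hQ : IsPGroup p Q) (hk : φ.ker ≤ ⁅Q, Q⁆) (A : Subgroup M) [A.Normal]
    (hA : ∀ a ∈ A, ∀ b ∈ A, a * b = b * a) (hi : ¬ p ∣ A.index) {β : MulAut N} {γ : MulAut M}
    (h : ∀ x, φ (β x) = γ (φ x)) :
    f0 p β = Nat.card {χ : IrrCharacter M // (χ : M → ℂ) ∘ γ = (χ : M → ℂ)} := by
  have : Finite M := Finite.of_surjective φ hφ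
  refine (Nat.card_eq_of_bijective (fun χ => (⟨fun x => χ.1.1 (φ x), pi_comp φ hφ (pi_of_abelian A hA hi χ.1.2),
    fun x => (congrArg χ.1.1 (h x)).trans (congrFun χ.2 (φ x))⟩ : {χ : N → ℂ // PI p N χ ∧ ∀ x, χ (β x) = χ x})) ⟨?_, ?_⟩).symm
  · intro χ χ' e
    exact Subtype.ext (Subtype.ext (hφ.injective_comp_right (congrArg Subtype.val e)))
  · rintro ⟨ψ, h1, h2⟩
    obtain ⟨η, hη, he⟩ := exists_quot φ hφ h1.1 fun z hz => apply_comm Q hQ h1 (hk hz)
    refine ⟨⟨⟨η, hη⟩, funext fun y => ?_⟩, Subtype.ext (funext he)⟩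
    obtain ⟨x, rfl⟩ := hφ y
    change η (γ (φ x)) = η (φ x)
    rw [← h, he, he, h2]

theorem card_cent_conj {M : Type} [Group M] [Finite M] {x y : M} (h : IsConj x y) :
    Nat.card (centralizer ({x} : Set M)) = Nat.card (centralizer ({y} : Set M)) := by
  have h1 : Nat.card {g : M // IsConj x g} = Nat.card {g : M // IsConj y g} :=
    Nat.card_congr (Equiv.subtypeEquivRight fun g => ⟨fun e => h.symm.trans e, fun e => h.trans e⟩)
  have : Nonempty {g : M // IsConj y g} := ⟨⟨y, IsConj.refl y⟩⟩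
  exact Nat.eq_of_mul_eq_mul_left Nat.card_pos ((h1 ▸ TAB.Eng.card_class x).trans (TAB.Eng.card_class y).symm)

/-- fixed characters and twisted commuting pairs -/
theorem fix_mul_card {M : Type} [Group M] [Finite M] (γ : MulAut M) :
    Nat.card {χ : IrrCharacter M // (χ : M → ℂ) ∘ γ = (χ : M → ℂ)} * Nat.card M =
      Nat.card {t : M × M // t.2 * γ t.1 = t.1 * t.2} := by
  classical
  have := Fintype.ofFinite M
  have := Fintype.ofFinite (ConjClasses M)
  rw [← S0173.result γ]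
  have h1 : ∀ x : M, Nat.card {g : M // g * γ x = x * g} =
      if IsConj (γ x) x then Nat.card (centralizer ({x} : Set M)) else 0 := fun x => by
    split_ifs with h
    · obtain ⟨c, hc⟩ := isConj_iff.1 h
      have h2 : γ x = c⁻¹ * x * c := by rw [← mul_left_cancel_iff (a := c), ← mul_right_cancel_iff (a := c⁻¹), hc]; group
      refine Nat.card_congr ⟨fun g => ⟨g.1 * c⁻¹, mem_centralizer_singleton_iff.2 ?_⟩,
        fun g => ⟨g.1 * c, ?_⟩, fun g => Subtype.ext (by simp), fun g => Subtype.ext (by simp)⟩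
      · rw [← mul_assoc, ← g.2, ← mul_right_cancel_iff (a := c), mul_assoc, mul_assoc, ← mul_assoc c⁻¹, ← h2]
        group
      · have h3 := mem_centralizer_singleton_iff.1 g.2
        rw [h2, ← mul_assoc x, ← h3]
        group
    · have : IsEmpty {g : M // g * γ x = x * g} :=
        ⟨fun g => h (isConj_iff.2 ⟨g.1, by rw [g.2, mul_inv_cancel_right]⟩)⟩
      exact Nat.card_of_isEmpty
  have h2 : Nat.card {t : M × M // t.2 * γ t.1 = t.1 * t.2} = ∑ x : M, Nat.card {g : M // g * γ x = x * g} := by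
    rw [← Nat.card_sigma]
    exact Nat.card_congr (Equiv.subtypeProdEquivSigmaSubtype fun x g : M => g * γ x = x * g)
  rw [h2, ← Finset.sum_fiberwise (s := Finset.univ) (g := ConjClasses.mk), Nat.card_eq_fintype_card,
    Fintype.card_subtype, Finset.card_filter, Finset.sum_mul]
  refine Finset.sum_congr rfl fun C _ => ?_
  obtain ⟨y, rfl⟩ := ConjClasses.mk_surjective C
  have h3 : ∀ x ∈ Finset.univ.filter fun x => ConjClasses.mk x = ConjClasses.mk y,
      Nat.card {g : M // g * γ x = x * g} = if IsConj (γ y) y then Nat.card (centralizer ({y} : Set M)) else 0 := by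
    intro x hx
    have h4 : IsConj x y := ConjClasses.mk_eq_mk_iff_isConj.1 (Finset.mem_filter.1 hx).2
    have h5 : IsConj (γ x) (γ y) := γ.toMonoidHom.map_isConj h4
    rw [h1, card_cent_conj h4]
    exact if_congr ⟨fun h => h5.symm.trans (h.trans h4), fun h => h5.trans (h.trans h4.symm)⟩ rfl rfl
  rw [Finset.sum_const_nat h3]
  have h4 : ConjClasses.map γ.toMonoidHom (ConjClasses.mk y) = ConjClasses.mk y ↔ IsConj (γ y) y :=
    ConjClasses.mk_eq_mk_iff_isConj
  by_cases h : IsConj (γ y) y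
  · rw [if_pos h, if_pos (h4.2 h), one_mul, ← TAB.Eng.card_class y, Nat.card_eq_fintype_card, Fintype.card_subtype]
    (with_reducible congr 2)
    exact Finset.filter_congr fun x _ => ⟨fun h => ConjClasses.mk_eq_mk_iff_isConj.2 h.symm,
      fun h => (ConjClasses.mk_eq_mk_iff_isConj.1 h).symm⟩
  · rw [if_neg h, if_neg fun e => h (h4.1 e), zero_mul, mul_zero]

/-- the number of the solutions of a linear equation -/
theorem card_sol {V : Type} [AddCommGroup V] [Finite V] (a t : Module.End ℤ V) {n k : ℕ} (ha : a ^ n = 1)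
    (hat : Commute a t) (hk : ∀ v : V, (k * n) • v = v) {e : V} (he : (∑ i ∈ Finset.range n, a ^ i) e = 0) :
    Nat.card {x : V × V // x.1 - t x.1 - (x.2 - a x.2) = e} =
      Nat.card V * Nat.card {v : V // a v = v ∧ t v = v} := by
  let E : Module.End ℤ V := k • ∑ i ∈ Finset.range n, a ^ i
  have app : ∀ y, E y = k • ∑ i ∈ Finset.range n, (a ^ i) y := fun y => by
    change k • (∑ i ∈ Finset.range n, a ^ i : Module.End ℤ V) y = _
    rw [LinearMap.sum_apply]
  have e1 : ∀ y, a (E y) = E y := fun y => by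
    have h1 : (1 - a) * E = 0 := by rw [mul_smul_comm, mul_neg_geom_sum, ha, sub_self, smul_zero]
    exact (sub_eq_zero.1 (DFunLike.congr_fun h1 y)).symm
  have e1' : ∀ y, E (y - a y) = 0 := fun y => by
    have h1 : E * (1 - a) = 0 := by rw [smul_mul_assoc, geom_sum_mul_neg, ha, sub_self, smul_zero]
    exact DFunLike.congr_fun h1 y
  have e2 : ∀ y, a y = y → E y = y := fun y hy => by
    have h1 : ∀ i, (a ^ i) y = y := fun i => by
      induction i with
      | zero => rfl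
      | succ i ih => rw [pow_succ, Module.End.mul_apply, hy, ih]
    simp only [app, h1, Finset.sum_const, Finset.card_range, smul_smul, hk]
  have e3 : ∀ y, E y = 0 → ∃ w, w - a w = y := fun y hy => by
    have h1 : (1 - a) * (k • ∑ i ∈ Finset.range n, ∑ j ∈ Finset.range i, a ^ j) = (k * n) • (1 : Module.End ℤ V) - E := by
      rw [mul_smul_comm, Finset.mul_sum]
      simp only [mul_neg_geom_sum]
      rw [Finset.sum_sub_distrib, Finset.sum_const, Finset.card_range, smul_sub, smul_smul]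
    refine ⟨(k • ∑ i ∈ Finset.range n, ∑ j ∈ Finset.range i, a ^ j : Module.End ℤ V) y, ?_⟩
    have h2 := DFunLike.congr_fun h1 y
    refine Eq.trans h2 ?_
    change (k * n) • y - E y = y
    rw [hk, hy, sub_zero]
  have e4 : ∀ y, E (t y) = t (E y) := fun y => by
    have h1 : Commute E t := (Commute.sum_left _ _ _ fun i _ => hat.pow_left i).smul_left k
    exact DFunLike.congr_fun h1.eq y
  have e5 : ∀ y, a (t y) = t (a y) := fun y => DFunLike.congr_fun hat.eq y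
  let Fx : AddSubgroup V := AddMonoidHom.eqLocus a.toAddMonoidHom (AddMonoidHom.id V)
  let E' : V →+ Fx := AddMonoidHom.codRestrict E.toAddMonoidHom Fx e1
  have hE' : Function.Surjective E' := fun f => ⟨f, Subtype.ext (e2 f f.2)⟩
  let r : V →+ V := AddMonoidHom.id V - t.toAddMonoidHom
  let R : Fx →+ Fx := AddMonoidHom.codRestrict (r.comp Fx.subtype) Fx fun f => by
    change a (f - t f) = f - t f
    rw [map_sub, e5, show a f = f from f.2]
  let F : V × V →+ V := r.comp (AddMonoidHom.fst V V) - (AddMonoidHom.id V - a.toAddMonoidHom).comp (AddMonoidHom.snd V V)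
  have hF : ∀ x, F x = x.1 - t x.1 - (x.2 - a x.2) := fun _ => rfl
  have h1 : F.range = R.range.comap E' := by
    ext y
    constructor
    · rintro ⟨x, rfl⟩
      refine ⟨E' x.1, Subtype.ext ?_⟩
      change E x.1 - t (E x.1) = E (F x)
      rw [hF, map_sub, e1', sub_zero, map_sub, e4]
    · rintro ⟨f, hf⟩
      have h2 : (f : V) - t f = E y := congrArg Subtype.val hf
      obtain ⟨w, hw⟩ := e3 (f - t f - y) (by rw [map_sub, map_sub, e4, e2 f f.2, h2, sub_self])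
      exact ⟨(f, w), by rw [hF, hw, sub_sub_cancel]⟩
  have h2 : F.range.index = Nat.card R.ker := by
    rw [h1, AddSubgroup.index_comap_of_surjective _ hE']
    have h3 := R.ker.card_mul_index
    rw [AddSubgroup.index_ker, ← R.range.card_mul_index, mul_comm] at h3
    exact (Nat.eq_of_mul_eq_mul_left Nat.card_pos h3).symm
  have h3 : Nat.card R.ker = Nat.card {v : V // a v = v ∧ t v = v} :=
    Nat.card_congr ⟨fun f => ⟨f.1, f.1.2, (sub_eq_zero.1 (congrArg Subtype.val f.2)).symm⟩,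
      fun v => ⟨⟨v, v.2.1⟩, Subtype.ext (sub_eq_zero.2 v.2.2.symm)⟩, fun _ => rfl, fun _ => rfl⟩
  have h4 : Nat.card F.ker = Nat.card V * Nat.card R.ker := by
    have h5 := F.ker.card_mul_index
    rw [AddSubgroup.index_ker, Nat.card_prod] at h5
    nth_rewrite 2 [← F.range.card_mul_index] at h5
    rw [h2, mul_comm (Nat.card F.range), ← mul_assoc] at h5
    exact Nat.eq_of_mul_eq_mul_right Nat.card_pos h5
  obtain ⟨w, hw⟩ := e3 (-e) (by
    rw [map_neg, neg_eq_zero]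
    change k • (∑ i ∈ Finset.range n, a ^ i : Module.End ℤ V) e = 0
    rw [he, smul_zero])
  have h5 : F (0, w) = e := by rw [hF, hw, map_zero, sub_zero, zero_sub, neg_neg]
  rw [← h3, ← h4]
  exact Nat.card_congr ⟨fun x => ⟨x.1 - (0, w), by rw [AddMonoidHom.mem_ker, map_sub, h5, hF, x.2, sub_self]⟩,
    fun x => ⟨x.1 + (0, w), by rw [← hF, map_add, h5, show F x.1 = 0 from x.2, zero_add]⟩,
    fun x => Subtype.ext (sub_add_cancel _ _), fun x => Subtype.ext (add_sub_cancel_right _ _)⟩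

theorem exists_inv {n c : ℕ} (hc : 0 < c) (h : n.Coprime c) : ∃ k, k * n ≡ 1 [MOD c] := by
  refine ⟨n ^ (c.totient - 1), ?_⟩
  rw [← pow_succ, Nat.sub_add_cancel (Nat.totient_pos.2 hc)]
  exact Nat.ModEq.pow_totient h

/-- the twisted commuting pairs in an extension of `V` by `H` of coprime orders -/
theorem pairs {M H V : Type} [Group M] [Finite M] [Group H] [AddCommGroup V] [DistribMulAction H V] (ρ : M →* H)
    (hρ : Function.Surjective ρ) (j : V → M) (hj : Function.Injective j) (ja : ∀ u v, j (u + v) = j u * j v)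
    (hk : ∀ x, ρ x = 1 ↔ ∃ v, j v = x) (hc : ∀ x v, x * j v = j (ρ x • v) * x) (hco : (Nat.card H).Coprime (Nat.card V))
    (γ : MulAut M) (m : V → V) (hm : ∀ v, γ (j v) = j (m v)) (b : H → H) (hb : ∀ x, ρ (γ x) = b (ρ x)) :
    Nat.card {t : M × M // t.2 * γ t.1 = t.1 * t.2} = Nat.card V *
      Nat.card {t : (H × H) × V // t.1.2 * b t.1.1 = t.1.1 * t.1.2 ∧ t.1.1 • t.2 = t.2 ∧ t.1.2 • m t.2 = t.2} := by
  classical
  have : Finite H := Finite.of_surjective ρ hρ
  have : Finite V := Finite.of_injective j hj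
  have := Fintype.ofFinite H
  have j0 : j 0 = 1 := by
    have h := ja 0 0
    rw [add_zero] at h
    exact left_eq_mul.1 h
  have jn : ∀ (v) (i : ℕ), j v ^ i = j (i • v) := fun v i => by
    induction i with
    | zero => rw [pow_zero, zero_smul, j0]
    | succ i ih => rw [pow_succ, ih, succ_nsmul, ja]
  have j1 : ∀ v, ρ (j v) = 1 := fun v => (hk _).2 ⟨v, rfl⟩
  let m' : V →+ V := AddMonoidHom.mk' m fun u v => hj (by rw [← hm, ja, ja, map_mul, hm, hm])
  obtain ⟨k, hk1⟩ := exists_inv (Nat.card_pos (α := V)) hco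
  have hk2 : ∀ v : V, (k * Nat.card H) • v = v := fun v => by
    rw [nsmul_eq_nsmul_of_modEq hk1 card_nsmul_eq_zero', one_smul]
  rw [← Nat.card_congr (Equiv.sigmaFiberEquiv fun t : {t : M × M // t.2 * γ t.1 = t.1 * t.2} => (ρ t.1.1, ρ t.1.2)),
    Nat.card_congr (Equiv.subtypeProdEquivSigmaSubtype fun (s : H × H) (v : V) =>
      s.2 * b s.1 = s.1 * s.2 ∧ s.1 • v = v ∧ s.2 • m v = v), Nat.card_sigma, Nat.card_sigma, Finset.mul_sum]
  refine Finset.sum_congr rfl ?_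
  rintro ⟨a, c⟩ -
  by_cases h : c * b a = a * c
  · obtain ⟨x1, hx1⟩ := hρ ((powCoprime hco).symm a)
    obtain ⟨g0, rfl⟩ := hρ c
    obtain ⟨x0, rfl, hx0⟩ : ∃ x0, ρ x0 = a ∧ x0 ^ Nat.card H = 1 := by
      refine ⟨x1 ^ Nat.card V, ?_, ?_⟩
      · rw [map_pow, hx1]
        exact (powCoprime hco).apply_symm_apply a
      · obtain ⟨v, hv⟩ := (hk (x1 ^ Nat.card H)).1 (by rw [map_pow, pow_card_eq_one'])
        rw [← pow_mul, mul_comm, pow_mul, ← hv, jn, card_nsmul_eq_zero', j0]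
    obtain ⟨e, he⟩ := (hk (g0 * γ x0 * g0⁻¹ * x0⁻¹)).1 (by
      simp only [map_mul, map_inv, hb, h]
      group)
    let A : Module.End ℤ V := (DistribSMul.toAddMonoidHom V (ρ x0)).toIntLinearMap
    let T : Module.End ℤ V := ((DistribSMul.toAddMonoidHom V (ρ g0)).comp m').toIntLinearMap
    have hA : ∀ (i : ℕ) v, (A ^ i) v = ρ x0 ^ i • v := fun i v => by
      induction i with
      | zero => rw [pow_zero, pow_zero, one_smul, Module.End.one_apply]
      | succ i ih => rw [pow_succ', pow_succ', Module.End.mul_apply, ih, mul_smul]; rfl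
    have h1 : A ^ Nat.card H = 1 := LinearMap.ext fun v => by rw [hA, pow_card_eq_one', one_smul, Module.End.one_apply]
    have h2 : Commute A T := LinearMap.ext fun v => by
      change ρ x0 • ρ g0 • m v = ρ g0 • m (ρ x0 • v)
      rw [← mul_smul, ← h, mul_smul, ← hb]
      congr 1
      apply hj
      rw [← mul_right_cancel_iff (a := γ x0), ← hc, ← hm, ← hm, ← map_mul, ← map_mul, hc]
    have h3 : (∑ i ∈ Finset.range (Nat.card H), A ^ i) e = 0 := by
      have h4 : ∀ i : ℕ, (j e * x0) ^ i = j ((∑ l ∈ Finset.range i, A ^ l) e) * x0 ^ i := fun i => by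
        induction i with
        | zero => rw [pow_zero, pow_zero, Finset.sum_range_zero, LinearMap.zero_apply, j0, one_mul]
        | succ i ih =>
          rw [pow_succ, ih, Finset.sum_range_succ, LinearMap.add_apply, ja, hA, pow_succ, ← map_pow, mul_assoc,
            ← mul_assoc (x0 ^ i), hc, mul_assoc, mul_assoc]
      apply hj
      have h5 := h4 (Nat.card H)
      rw [hx0, mul_one, he, inv_mul_cancel_right, conj_pow, ← map_pow, hx0, map_one, mul_one, mul_inv_cancel] at h5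
      rw [← h5, j0]
    have h4 := card_sol A T h1 h2 hk2 h3
    have key : ∀ u w, j w * g0 * γ (j u * x0) = j u * x0 * (j w * g0) ↔ u - T u - (w - A w) = e := fun u w => by
      have l1 : j w * g0 * γ (j u * x0) = j (w + T u + e) * (x0 * g0) := by
        rw [map_mul, hm, ja, ja, he, mul_assoc, ← mul_assoc g0, hc]
        change _ = j w * j (ρ g0 • m u) * _ * _
        group
      have l2 : j u * x0 * (j w * g0) = j (u + A w) * (x0 * g0) := by
        rw [mul_assoc, ← mul_assoc x0, hc, ja]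
        change _ = j u * j (ρ x0 • w) * _
        group
      rw [l1, l2, mul_right_cancel_iff, hj.eq_iff]
      constructor
      · intro h5
        rw [eq_sub_of_add_eq' h5]
        abel
      · intro h5
        rw [← h5]
        abel
    have h5 : Nat.card {v : V // ρ g0 * b (ρ x0) = ρ x0 * ρ g0 ∧ ρ x0 • v = v ∧ ρ g0 • m v = v} =
        Nat.card {v : V // A v = v ∧ T v = v} := Nat.card_congr (Equiv.subtypeEquivRight fun v => and_iff_right h)
    rw [h5, ← h4]
    refine (Nat.card_eq_of_bijective (fun x => ⟨⟨(j x.1.1 * x0, j x.1.2 * g0), (key _ _).2 x.2⟩, by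
      simp only [map_mul, j1, one_mul]⟩) ⟨?_, ?_⟩).symm
    · intro x y e
      have e1 : (j x.1.1 * x0, j x.1.2 * g0) = (j y.1.1 * x0, j y.1.2 * g0) := congrArg (fun z => z.1.1) e
      exact Subtype.ext (Prod.ext (hj (mul_right_cancel (congrArg Prod.fst e1))) (hj (mul_right_cancel (congrArg Prod.snd e1))))
    · rintro ⟨⟨⟨x, g⟩, h6⟩, h7⟩
      obtain ⟨h8, h9⟩ := Prod.mk.inj h7
      obtain ⟨u, hu⟩ := (hk (x * x0⁻¹)).1 (by rw [map_mul, map_inv, h8, mul_inv_cancel])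
      obtain ⟨w, hw⟩ := (hk (g * g0⁻¹)).1 (by rw [map_mul, map_inv, h9, mul_inv_cancel])
      obtain rfl : x = j u * x0 := by rw [hu, inv_mul_cancel_right]
      obtain rfl : g = j w * g0 := by rw [hw, inv_mul_cancel_right]
      exact ⟨⟨(u, w), (key _ _).1 h6⟩, rfl⟩
  · have : IsEmpty {v : V // c * b a = a * c ∧ a • v = v ∧ c • m v = v} := ⟨fun v => h v.2.1⟩
    have : IsEmpty {t : {t : M × M // t.2 * γ t.1 = t.1 * t.2} // (ρ t.1.1, ρ t.1.2) = (a, c)} := ⟨by
      rintro ⟨⟨⟨x, g⟩, h6⟩, h7⟩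
      obtain ⟨rfl, rfl⟩ := Prod.mk.inj h7
      exact h (by rw [← hb, ← map_mul, ← map_mul, h6])⟩
    rw [Nat.card_of_isEmpty]
    exact (mul_eq_zero_of_right _ Nat.card_of_isEmpty).symm

/-- **the local count** -/
theorem f0_mul_card {N H V : Type} [Group N] [Finite N] [Group H] [AddCommGroup V] [DistribMulAction H V] [hp : Fact p.Prime]
    (Q : Subgroup N) [Q.Normal] (hQ : IsPGroup p Q) (ρ : N →* H) (hρ : Function.Surjective ρ) (hk : ρ.ker = Q)
    (hH : ¬ p ∣ Nat.card H) (π : Q →* Multiplicative V) (hπ : Function.Surjective π)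
    (hπk : ∀ q : Q, π q = 1 ↔ (q : N) ∈ ⁅Q, Q⁆)
    (hact : ∀ (x : N) (q q' : Q), (q' : N) = x * q * x⁻¹ → (π q').toAdd = ρ x • (π q).toAdd)
    (β : MulAut N) (hβ : ∀ q ∈ Q, β q ∈ Q) (m : V → V)
    (hm : ∀ q q' : Q, (q' : N) = β q → (π q').toAdd = m (π q).toAdd) (b : H → H) (hb : ∀ x, ρ (β x) = b (ρ x)) :
    f0 p β * Nat.card H =
      Nat.card {t : (H × H) × V // t.1.2 * b t.1.1 = t.1.1 * t.1.2 ∧ t.1.1 • t.2 = t.2 ∧ t.1.2 • m t.2 = t.2} := by
  have hle : ⁅Q, Q⁆ ≤ Q := commutator_le_left Q Q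
  have h1 : ∀ x, β x ∈ ⁅Q, Q⁆ ↔ x ∈ ⁅Q, Q⁆ := MK.T.stab_of_le fun x hx => by
    have h2 : ⁅Q, Q⁆ ≤ comap β.toMonoidHom ⁅Q, Q⁆ := commutator_le.2 fun a ha c hc => by
      rw [mem_comap, map_commutatorElement]
      exact commutator_mem_commutator (hβ a ha) (hβ c hc)
    exact h2 hx
  let γ : MulAut (N ⧸ ⁅Q, Q⁆) := QuotientGroup.congr ⁅Q, Q⁆ ⁅Q, Q⁆ β (by
    ext x
    obtain ⟨y, rfl⟩ := β.surjective x
    exact (mem_map_iff_mem β.injective).trans (h1 y).symm)
  have hγ : ∀ x : N, ((β x : N) : N ⧸ ⁅Q, Q⁆) = γ x := fun _ => rfl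
  let ρ' : N ⧸ ⁅Q, Q⁆ →* H := QuotientGroup.lift ⁅Q, Q⁆ ρ (hle.trans hk.ge)
  have hρ' : ∀ x : N, ρ' x = ρ x := fun _ => rfl
  have sρ : Function.Surjective ρ' := fun a => (hρ a).elim fun x hx => ⟨x, hx⟩
  choose σ hσ using hπ
  let j : V → N ⧸ ⁅Q, Q⁆ := fun v => (σ (Multiplicative.ofAdd v) : N)
  have e1 : ∀ q q' : Q, ((q : N) : N ⧸ ⁅Q, Q⁆) = (q' : N) ↔ π q = π q' := fun q q' => by
    rw [QuotientGroup.eq, ← inv_mul_eq_one, ← map_inv, ← map_mul, hπk]
    rfl
  have e2 : ∀ q : Q, j (π q).toAdd = (q : N) := fun q => (e1 _ _).2 (hσ _)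
  have e3 : ∀ v, (π (σ (Multiplicative.ofAdd v))).toAdd = v := fun v => by rw [hσ, toAdd_ofAdd]
  have hj : Function.Injective j := fun u v e => by rw [← e3 u, (e1 _ _).1 e, e3]
  have ja : ∀ u v, j (u + v) = j u * j v := fun u v => by
    rw [← e3 u, ← e3 v, ← toAdd_mul, ← map_mul, e2, e2, e2]
    rfl
  have jk : ∀ x, ρ' x = 1 ↔ ∃ v, j v = x := fun x => by
    obtain ⟨y, rfl⟩ := QuotientGroup.mk_surjective x
    constructor
    · intro h
      exact ⟨_, e2 ⟨y, hk ▸ h⟩⟩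
    · rintro ⟨v, h⟩
      rw [← h]
      exact (hk.ge (σ _).2 :)
  have jc : ∀ x v, x * j v = j (ρ' x • v) * x := fun x v => by
    obtain ⟨y, rfl⟩ := QuotientGroup.mk_surjective x
    have h2 := hact y (σ (Multiplicative.ofAdd v)) ⟨_, ‹Q.Normal›.conj_mem _ (σ _).2 y⟩ rfl
    rw [e3] at h2
    rw [hρ', ← h2, e2, ← QuotientGroup.mk_mul, ← QuotientGroup.mk_mul, inv_mul_cancel_right]
  have jm : ∀ v, γ (j v) = j (m v) := fun v => by
    have h2 := hm (σ (Multiplicative.ofAdd v)) ⟨_, hβ _ (σ _).2⟩ rfl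
    rw [e3] at h2
    rw [← h2, e2, ← hγ]
  have jb : ∀ x, ρ' (γ x) = b (ρ' x) := fun x => by
    obtain ⟨y, rfl⟩ := QuotientGroup.mk_surjective x
    exact hb y
  have : Finite V := Finite.of_injective j hj
  have hco : (Nat.card H).Coprime (Nat.card V) := by
    obtain ⟨k, h2⟩ := (hQ.of_surjective π fun v => ⟨_, hσ v⟩).exists_card_eq
    rw [show Nat.card V = p ^ k from h2]
    exact ((hp.out.coprime_iff_not_dvd.2 hH).symm).pow_right k
  have h2 : ρ'.ker.index = Nat.card H := by rw [index_ker, MonoidHom.range_eq_top.2 sρ, card_top]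
  have h3 : Nat.card ρ'.ker = Nat.card V :=
    (Nat.card_eq_of_bijective (fun v => ⟨j v, (jk _).2 ⟨v, rfl⟩⟩) ⟨fun u v e => hj (congrArg Subtype.val e),
      fun x => ((jk _).1 x.2).elim fun v hv => ⟨v, Subtype.ext hv⟩⟩).symm
  have h4 := f0_quot (QuotientGroup.mk' ⁅Q, Q⁆) (QuotientGroup.mk'_surjective _) Q hQ (QuotientGroup.ker_mk' _).le ρ'.ker
    (fun a ha c hc => by
      obtain ⟨u, rfl⟩ := (jk a).1 ha
      obtain ⟨v, rfl⟩ := (jk c).1 hc
      rw [← ja, ← ja, add_comm]) (h2 ▸ hH) (β := β) (γ := γ) hγ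
  have h5 := fix_mul_card γ
  rw [pairs ρ' sρ j hj ja jk jc hco γ m jm b jb, ← h4, ← ρ'.ker.card_mul_index, h2, h3, mul_left_comm] at h5
  exact Nat.eq_of_mul_eq_mul_left Nat.card_pos h5

end Cfsg.Agent.MO.L
end

-- part: MO/L/Cnt
section
/-!
# MO, the local count (helper4): the kernel check

A table is a number which packs a map of `{0, ..., D - 1}` into itself, 12 bits per entry.  `chk` lists `n` elements of `H` as
products of the generators (a stack program: `0` pops, `i + 1` multiplies the top by the generator `i`), each with the table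
of its image under `b`, and counts the triples `(a, c, v)` with `c * b a = a * c`, `a • v = v`, `c • m v = v`.
-/

set_option autoImplicit false

namespace Cfsg.Agent.MO.L

/-- the entry `x` of the table `t` -/
def get (t x : ℕ) : ℕ := Nat.mod (Nat.shiftRight t (Nat.mul 12 x)) 4096

/-- the table of `f` -/
noncomputable def tb (D : ℕ) (f : ℕ → ℕ) : ℕ :=
  Nat.rec 0 (fun x acc => Nat.add acc (Nat.shiftLeft (f x) (Nat.mul 12 x))) D

/-- the table of a product -/
noncomputable def cmp (D t s : ℕ) : ℕ := tb D fun x => get t (get s x)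

/-- evaluate, then go on -/
noncomputable def frc {α : Type} (n : ℕ) (k : ℕ → α) : α := Nat.rec (k 0) (fun m _ => k (Nat.succ m)) n

/-- the stack program -/
noncomputable def run (D : ℕ) (gens : List (ℕ × ℕ)) (k : List (ℕ × ℕ) → Bool) (prog : List ℕ) :
    List (ℕ × ℕ) → List (ℕ × ℕ) → Bool :=
  List.rec (fun _ out => k out) (fun i _ ih st out => List.rec false (fun top rest _ =>
    Nat.rec (ih rest out) (fun j _ => frc (cmp D top.1 (gens.getD j top).1) fun t =>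
      frc (cmp D top.2 (gens.getD j top).2) fun s => ih ((t, s) :: top :: rest) ((t, s) :: out)) i) st) prog

noncomputable def memB (t : ℕ) (L : List (ℕ × ℕ)) : Bool :=
  List.rec false (fun c _ ih => Bool.rec (motive := fun _ => Bool) ih true (Nat.beq t c.1)) L

noncomputable def ndp (L : List (ℕ × ℕ)) : Bool :=
  List.rec true (fun a l ih => Bool.rec (motive := fun _ => Bool) ih false (memB a.1 l)) L

noncomputable def fixK (t μ : ℕ) (k : List (ℕ × ℕ) → ℕ) (P : ℕ) : List (ℕ × ℕ) → ℕ :=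
  Nat.rec k (fun x ih acc => Bool.rec (motive := fun _ => ℕ) (ih acc) (frc (get μ x) fun y => ih ((x, y) :: acc))
    (Nat.beq (get t x) x)) P

noncomputable def baseK (s : ℕ) (k : List (ℕ × ℕ) → ℕ) (base : List ℕ) : List (ℕ × ℕ) → ℕ :=
  List.rec k (fun y _ ih acc => frc (get s y) fun z => ih ((y, z) :: acc)) base

noncomputable def allB (t t' : ℕ) (bl : List (ℕ × ℕ)) : Bool :=
  List.rec true (fun e _ ih => Bool.rec (motive := fun _ => Bool) false ih (Nat.beq (get t' e.2) (get t (get t' e.1)))) bl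

noncomputable def cntF (t' : ℕ) (fl : List (ℕ × ℕ)) : ℕ :=
  List.rec 0 (fun e _ ih => Bool.rec (motive := fun _ => ℕ) ih (Nat.succ ih) (Nat.beq (get t' e.2) e.1)) fl

noncomputable def inner (t : ℕ) (bl fl L : List (ℕ × ℕ)) : ℕ :=
  List.rec 0 (fun c _ ih => Bool.rec (motive := fun _ => ℕ) ih (Nat.add (cntF c.1 fl) ih) (allB t c.1 bl)) L

noncomputable def outer (P μ : ℕ) (base : List ℕ) (L₀ L : List (ℕ × ℕ)) : ℕ :=
  List.rec 0 (fun a _ ih => Nat.add (fixK a.1 μ (fun fl => baseK a.2 (fun bl => inner a.1 bl fl L₀) base []) P []) ih) L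

/-- the program lists the tables which satisfy `k` -/
noncomputable def lst (D : ℕ) (gens : List (ℕ × ℕ)) (prog : List ℕ) (k : List (ℕ × ℕ) → Bool) : Bool :=
  frc (tb D fun x => x) fun e => run D gens k prog [(e, e)] [(e, e)]

/-- **the check** -/
noncomputable def chk (D P : ℕ) (base : List ℕ) (gens : List (ℕ × ℕ)) (μ : ℕ) (prog : List ℕ) (n c : ℕ) : Bool :=
  lst D gens prog fun L => Nat.beq L.length n && ndp L && Nat.beq (outer P μ base L L) c

theorem frc_eq {α : Type} (n : ℕ) (k : ℕ → α) : frc n k = k n := by cases n <;> rfl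

theorem get_eq (t x : ℕ) : get t x = t / 4096 ^ x % 4096 := by
  change (t >>> (12 * x)) % 4096 = _
  rw [Nat.shiftRight_eq_div_pow, pow_mul]
  rfl

theorem get_lt (t x : ℕ) : get t x < 4096 := Nat.mod_lt _ (by norm_num)

theorem tb_succ (D : ℕ) (f : ℕ → ℕ) : tb (D + 1) f = tb D f + f D * 4096 ^ D := by
  change tb D f + (f D) <<< (12 * D) = _
  rw [Nat.shiftLeft_eq, pow_mul]
  rfl

theorem tb_lt {D : ℕ} {f : ℕ → ℕ} (h : ∀ x < D, f x < 4096) : tb D f < 4096 ^ D := by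
  induction D with
  | zero => exact Nat.one_pos
  | succ D ih =>
    have h1 := ih fun x hx => h x (by omega)
    have h2 := Nat.mul_le_mul_right (4096 ^ D) (Nat.succ_le_of_lt (h D D.lt_succ_self))
    rw [tb_succ, pow_succ]
    rw [Nat.succ_mul] at h2
    omega

theorem get_tb {D : ℕ} {f : ℕ → ℕ} (h : ∀ x < D, f x < 4096) {x : ℕ} (hx : x < D) : get (tb D f) x = f x := by
  induction D with
  | zero => omega
  | succ D ih =>
    have h1 : ∀ x < D, f x < 4096 := fun x hx => h x (by omega)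
    rw [get_eq, tb_succ]
    rcases Nat.lt_succ_iff_lt_or_eq.1 hx with h2 | rfl
    · obtain ⟨k, rfl⟩ := Nat.exists_eq_add_of_lt h2
      rw [← ih h1 h2, get_eq, show f (x + k + 1) * 4096 ^ (x + k + 1) = f (x + k + 1) * 4096 ^ k * 4096 * 4096 ^ x by ring,
        Nat.add_mul_div_right _ _ (by positivity), Nat.add_mul_mod_self_right]
    · rw [Nat.add_mul_div_right _ _ (by positivity), Nat.div_eq_of_lt (tb_lt h1), zero_add,
        Nat.mod_eq_of_lt (h x x.lt_succ_self)]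

theorem tb_congr {D : ℕ} {f g : ℕ → ℕ} (h : ∀ x < D, f x = g x) : tb D f = tb D g := by
  induction D with
  | zero => rfl
  | succ D ih => rw [tb_succ, tb_succ, ih fun x hx => h x (by omega), h D D.lt_succ_self]

theorem get_cmp {D : ℕ} (t s : ℕ) {x : ℕ} (hx : x < D) : get (cmp D t s) x = get t (get s x) :=
  get_tb (fun _ _ => get_lt _ _) hx

theorem tb_get {D : ℕ} {f : ℕ → ℕ} (h : ∀ x < D, f x < 4096) : tb D (get (tb D f)) = tb D f :=
  tb_congr fun _ hx => get_tb h hx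

theorem run_spec {D : ℕ} {gens : List (ℕ × ℕ)} {k : List (ℕ × ℕ) → Bool} {G G' : ℕ × ℕ → Prop} (hg : ∀ e ∈ gens, G' e)
    (h0 : ∀ e, G e → G' e) (hm : ∀ e e', G e → G' e' → G (cmp D e.1 e'.1, cmp D e.2 e'.2)) (prog : List ℕ) :
    ∀ st out, (∀ e ∈ st, G e) → (∀ e ∈ out, G e) → run D gens k prog st out = true →
      ∃ L, (∀ e ∈ out, e ∈ L) ∧ (∀ e ∈ L, G e) ∧ k L = true := by
  induction prog with
  | nil => exact fun _ out _ h2 h3 => ⟨out, fun _ h => h, h2, h3⟩
  | cons i prog ih =>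
    rintro (_ | ⟨top, rest⟩) out h1 h2 h3
    · exact absurd h3 Bool.false_ne_true
    · rcases i with _ | j
      · exact ih rest out (fun e he => h1 e (List.mem_cons_of_mem _ he)) h2 h3
      · have h4 : G (cmp D top.1 (gens.getD j top).1, cmp D top.2 (gens.getD j top).2) := by
          refine hm _ _ (h1 _ List.mem_cons_self) ?_
          rw [List.getD_eq_getElem?_getD]
          rcases h5 : gens[j]? with _ | e
          · exact h0 _ (h1 _ List.mem_cons_self)
          · exact hg _ (List.mem_of_getElem? h5)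
        change (frc (cmp D top.1 (gens.getD j top).1) fun t => frc (cmp D top.2 (gens.getD j top).2) fun s =>
          run D gens k prog ((t, s) :: top :: rest) ((t, s) :: out)) = true at h3
        rw [frc_eq, frc_eq] at h3
        obtain ⟨L, h5, h6⟩ := ih _ _ (List.forall_mem_cons.2 ⟨h4, h1⟩) (List.forall_mem_cons.2 ⟨h4, h2⟩) h3
        exact ⟨L, fun e he => h5 e (List.mem_cons_of_mem _ he), h6⟩

theorem memB_iff (t : ℕ) (L : List (ℕ × ℕ)) : memB t L = true ↔ t ∈ L.map Prod.fst := by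
  induction L with
  | nil => simp [memB]
  | cons c L ih =>
    change Bool.rec (motive := fun _ => Bool) (memB t L) true (Nat.beq t c.1) = true ↔ _
    rw [List.map_cons, List.mem_cons, ← ih, ← Nat.beq_eq]
    cases Nat.beq t c.1 <;> simp

theorem ndp_spec {L : List (ℕ × ℕ)} (h : ndp L = true) : (L.map Prod.fst).Nodup := by
  induction L with
  | nil => exact List.nodup_nil
  | cons a L ih =>
    change Bool.rec (motive := fun _ => Bool) (ndp L) false (memB a.1 L) = true at h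
    rw [List.map_cons, List.nodup_cons, ← memB_iff]
    cases h1 : memB a.1 L
    · rw [h1] at h
      exact ⟨Bool.false_ne_true, ih h⟩
    · rw [h1] at h
      exact absurd h Bool.false_ne_true

theorem fixK_eq (t μ : ℕ) (k : List (ℕ × ℕ) → ℕ) (P : ℕ) : ∀ acc, fixK t μ k P acc =
    k ((((List.range P).filter fun x => get t x = x).map fun x => (x, get μ x)) ++ acc) := by
  induction P with
  | zero => exact fun _ => rfl
  | succ P ih =>
    intro acc
    change Bool.rec (motive := fun _ => ℕ) (fixK t μ k P acc) (frc (get μ P) fun y => fixK t μ k P ((P, y) :: acc))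
      (Nat.beq (get t P) P) = _
    rw [frc_eq, ih, ih, List.range_succ, List.filter_append, List.map_append, List.append_assoc]
    by_cases h : get t P = P
    · simp [h]
    · simp [h, show Nat.beq (get t P) P = false from
        Bool.eq_false_iff.2 fun e => h (Nat.eq_of_beq_eq_true e)]

theorem baseK_eq (s : ℕ) (k : List (ℕ × ℕ) → ℕ) (base : List ℕ) : ∀ acc, baseK s k base acc =
    k ((base.map fun y => (y, get s y)).reverse ++ acc) := by
  induction base with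
  | nil => exact fun _ => rfl
  | cons y base ih =>
    intro acc
    change frc (get s y) (fun z => baseK s k base ((y, z) :: acc)) = _
    rw [frc_eq, ih, List.map_cons, List.reverse_cons, List.append_assoc]
    rfl

theorem allB_iff (t t' : ℕ) (bl : List (ℕ × ℕ)) : allB t t' bl = true ↔ ∀ e ∈ bl, get t' e.2 = get t (get t' e.1) := by
  induction bl with
  | nil => simp [allB]
  | cons e bl ih =>
    change Bool.rec (motive := fun _ => Bool) false (allB t t' bl) (Nat.beq (get t' e.2) (get t (get t' e.1))) = true ↔ _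
    rw [List.forall_mem_cons, ← ih, ← Nat.beq_eq]
    cases Nat.beq (get t' e.2) (get t (get t' e.1)) <;> simp

theorem cntF_eq (t' : ℕ) (fl : List (ℕ × ℕ)) : cntF t' fl = fl.countP fun e => get t' e.2 = e.1 := by
  induction fl with
  | nil => rfl
  | cons e fl ih =>
    change Bool.rec (motive := fun _ => ℕ) (cntF t' fl) (cntF t' fl + 1) (Nat.beq (get t' e.2) e.1) = _
    rw [ih, List.countP_cons]
    by_cases h : get t' e.2 = e.1
    · simp [h]
    · simp [h, show Nat.beq (get t' e.2) e.1 = false from Bool.eq_false_iff.2 fun e => h (Nat.eq_of_beq_eq_true e)]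

theorem inner_eq (t : ℕ) (bl fl L : List (ℕ × ℕ)) :
    inner t bl fl L = (L.map fun c => if allB t c.1 bl then cntF c.1 fl else 0).sum := by
  induction L with
  | nil => rfl
  | cons c L ih =>
    change Bool.rec (motive := fun _ => ℕ) (inner t bl fl L) (cntF c.1 fl + inner t bl fl L) (allB t c.1 bl) = _
    rw [ih, List.map_cons, List.sum_cons]
    cases allB t c.1 bl <;> simp

theorem outer_eq (P μ : ℕ) (base : List ℕ) (L₀ L : List (ℕ × ℕ)) : outer P μ base L₀ L =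
    (L.map fun a => (L₀.map fun c => if ∀ y ∈ base, get c.1 (get a.2 y) = get a.1 (get c.1 y) then
      (List.range P).countP fun x => get a.1 x = x ∧ get c.1 (get μ x) = x else 0).sum).sum := by
  induction L with
  | nil => rfl
  | cons a L ih =>
    change fixK _ _ _ _ _ + outer P μ base L₀ L = _
    rw [ih, List.map_cons, List.sum_cons, fixK_eq, baseK_eq, inner_eq]
    congr 3
    funext c
    refine if_congr (by simp only [allB_iff, _root_.List.append_nil, _root_.List.mem_reverse, _root_.List.mem_map, _root_.forall_exists_index, _root_.and_imp, _root_.forall_apply_eq_imp_iff₂]) ?_ rfl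
    rw [cntF_eq, List.append_nil, List.countP_map, List.countP_filter]
    exact List.countP_congr fun x _ => by simp [and_comm]

/-- what a relation between elements and tables has to satisfy -/
structure Rp {H V : Type} [Group H] [MulAction H V] (R : H → ℕ → Prop) (D P : ℕ) (cd : ℕ → V) (base : List ℕ) : Prop where
  hD : D ≤ 4096
  one : R 1 (tb D fun x => x)
  mul : ∀ a t c s, R a t → R c s → R (a * c) (cmp D t s)
  fn : ∀ a t s, R a t → R a s → ∀ x < D, get t x = get s x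
  bas : ∀ a t c s, R a t → R c s → (∀ y ∈ base, get t y = get s y) → ∀ x < D, get t x = get s x
  act : ∀ a t, R a t → ∀ x < P, get t x < P ∧ a • cd x = cd (get t x)
  inj : ∀ x < P, ∀ y < P, cd x = cd y → x = y
  surj : ∀ v, ∃ x < P, cd x = v
  lt : ∀ y ∈ base, y < D

theorem card_fix {V : Type} {P : ℕ} {cd : ℕ → V} (inj : ∀ x < P, ∀ y < P, cd x = cd y → x = y)
    (surj : ∀ v, ∃ x < P, cd x = v) {r : V → Prop} {q : ℕ → Bool} (h : ∀ x < P, r (cd x) ↔ q x = true) :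
    Nat.card {v // r v} = (List.range P).countP q := by
  have h2 : ∀ j, (j ∈ (Finset.range P).filter fun j => q j = true) ↔ j < P ∧ q j = true := fun j => by
    rw [Finset.mem_filter, Finset.mem_range]
  rw [List.countP_eq_length_filter, ← List.toFinset_card_of_nodup (List.nodup_range.filter _), List.toFinset_filter,
    List.toFinset_range, ← Nat.card_eq_finsetCard]
  refine (Nat.card_eq_of_bijective (fun j => ⟨cd j.1, (h _ ((h2 _).1 j.2).1).2 ((h2 _).1 j.2).2⟩)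
    ⟨fun a b hab => ?_, fun v => ?_⟩).symm
  · exact Subtype.ext (inj _ ((h2 _).1 a.2).1 _ ((h2 _).1 b.2).1 (congrArg Subtype.val hab))
  · obtain ⟨v, hv⟩ := v
    obtain ⟨j, hj, rfl⟩ := surj v
    exact ⟨⟨j, (h2 _).2 ⟨hj, (h j hj).1 hv⟩⟩, rfl⟩

/-- **the count** -/
theorem card_of_chk {H V : Type} [Group H] [Finite H] [MulAction H V] {R : H → ℕ → Prop} {D P : ℕ} {cd : ℕ → V}
    {base : List ℕ} (h : Rp R D P cd base) {b : H → H} (b1 : b 1 = 1) (bm : ∀ a c, b (a * c) = b a * b c) {m : V → V} {μ : ℕ}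
    (hμ : ∀ x < P, get μ x < P ∧ m (cd x) = cd (get μ x)) {gens : List (ℕ × ℕ)}
    (hg : ∀ e ∈ gens, ∃ a, R a e.1 ∧ R (b a) e.2) {prog : List ℕ} {n c : ℕ} (hn : Nat.card H ≤ n)
    (hc : chk D P base gens μ prog n c = true) : Nat.card H = n ∧
      Nat.card {t : (H × H) × V // t.1.2 * b t.1.1 = t.1.1 * t.1.2 ∧ t.1.1 • t.2 = t.2 ∧ t.1.2 • m t.2 = t.2} = c := by
  classical
  have := Fintype.ofFinite H
  have : Finite V := Finite.of_surjective (fun x : Fin P => cd x) fun v => (h.surj v).elim fun x hx => ⟨⟨x, hx.1⟩, hx.2⟩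
  rw [chk, lst, frc_eq] at hc
  have h0 : ∀ e ∈ [(tb D fun x => x, tb D fun x => x)], tb D (get e.1) = e.1 ∧ ∃ a, R a e.1 ∧ R (b a) e.2 := by
    rw [List.forall_mem_singleton]
    exact ⟨tb_get fun x hx => hx.trans_le h.hD, 1, h.one, by rw [b1]; exact h.one⟩
  obtain ⟨L, -, h1, h2⟩ := run_spec (G := fun e => tb D (get e.1) = e.1 ∧ ∃ a, R a e.1 ∧ R (b a) e.2) hg (fun _ h => h.2)
    (fun e e' ⟨_, a, h1, h2⟩ ⟨a', h3, h4⟩ => ⟨tb_get fun _ _ => get_lt _ _, a * a', h.mul _ _ _ _ h1 h3,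
      bm a a' ▸ h.mul _ _ _ _ h2 h4⟩) prog _ _ h0 h0 hc
  simp only [Bool.and_eq_true, Nat.beq_eq] at h2
  obtain ⟨⟨h2, h3⟩, h4⟩ := h2
  have h5 := ndp_spec h3
  choose! φ h6 h7 using fun e he => (h1 e he).2
  have h8 : ∀ e ∈ L, ∀ e' ∈ L, (∀ x < D, get e.1 x = get e'.1 x) → e = e' := fun e he e' he' h9 =>
    List.inj_on_of_nodup_map h5 he he' (by rw [← (h1 e he).1, ← (h1 e' he').1]; exact tb_congr h9)
  have h9 : (L.map φ).Nodup := (h5.of_map _).map_on fun e he e' he' h9 =>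
    h8 e he e' he' (h.fn _ _ _ (h6 e he) (h9 ▸ h6 e' he'))
  have h10 : (L.map φ).toFinset.card = n := by rw [List.toFinset_card_of_nodup h9, List.length_map, h2]
  have h11 : (L.map φ).toFinset = Finset.univ :=
    Finset.eq_univ_of_card _ (le_antisymm (Finset.card_le_univ _) (by rwa [h10, ← Nat.card_eq_fintype_card]))
  have h12 : ∀ a, ∃ e ∈ L, φ e = a := fun a => List.mem_map.1 (List.mem_toFinset.1 (h11 ▸ Finset.mem_univ a))
  have sep : ∀ a t a' s, R a t → R a' s → (∀ x < D, get t x = get s x) → a = a' := fun a t a' s r1 r2 r3 => by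
    obtain ⟨e, he, rfl⟩ := h12 a
    obtain ⟨e', he', rfl⟩ := h12 a'
    rw [h8 e he e' he' fun x hx => (h.fn _ _ _ (h6 e he) r1 x hx).trans ((r3 x hx).trans (h.fn _ _ _ r2 (h6 e' he') x hx))]
  have sum : ∀ f : H → ℕ, ∑ a, f a = (L.map fun e => f (φ e)).sum := fun f => by
    rw [← h11, List.sum_toFinset _ h9, List.map_map]
    rfl
  refine ⟨by rw [Nat.card_eq_fintype_card, ← Finset.card_univ, ← h11, h10], ?_⟩
  rw [Nat.card_congr (Equiv.subtypeProdEquivSigmaSubtype fun (s : H × H) (v : V) =>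
      s.2 * b s.1 = s.1 * s.2 ∧ s.1 • v = v ∧ s.2 • m v = v), Nat.card_sigma, Fintype.sum_prod_type, sum, ← h4, outer_eq]
  refine congrArg List.sum (List.map_congr_left fun e he => ?_)
  rw [sum]
  refine congrArg List.sum (List.map_congr_left fun e' he' => ?_)
  have r1 := h.mul _ _ _ _ (h6 e' he') (h7 e he)
  have r2 := h.mul _ _ _ _ (h6 e he) (h6 e' he')
  have h13 : φ e' * b (φ e) = φ e * φ e' ↔ ∀ y ∈ base, get e'.1 (get e.2 y) = get e.1 (get e'.1 y) :=
    ⟨fun h14 y hy => by rw [← get_cmp _ _ (h.lt y hy), ← get_cmp _ _ (h.lt y hy), h.fn _ _ _ r1 (h14 ▸ r2) y (h.lt y hy)],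
      fun h14 => sep _ _ _ _ r1 r2 (h.bas _ _ _ _ r1 r2 fun y hy => by
        rw [get_cmp _ _ (h.lt y hy), get_cmp _ _ (h.lt y hy), h14 y hy])⟩
  split_ifs with h14
  · refine card_fix h.inj h.surj fun x hx => ?_
    have a1 := h.act _ _ (h6 e he) x hx
    have a2 := h.act _ _ (h6 e' he') _ (hμ x hx).1
    rw [decide_eq_true_iff, and_iff_right (h13.2 h14), (hμ x hx).2, a1.2, a2.2]
    exact and_congr ⟨h.inj _ a1.1 _ hx, congrArg cd⟩ ⟨h.inj _ a2.1 _ hx, congrArg cd⟩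
  · have : IsEmpty {v : V // φ e' * b (φ e) = φ e * φ e' ∧ φ e • v = v ∧ φ e' • m v = v} := ⟨fun v => h14 (h13.1 v.2.1)⟩
    exact Nat.card_of_isEmpty

end Cfsg.Agent.MO.L
end

-- part: MO/L/Mat
section
/-!
# MO, the local count (helper4): `Q / Q'` is elementary abelian and `N / Q` acts faithfully on it

* `Loc p d Q q` : `q 0, ..., q (d - 1)` is a basis of `Q / Q'`; `Mt d Q q f M` : the row `j` of `M` is the exponent vector of
  `f (q j)` modulo `Q'`;
* `chkM p d Ms M prog n c` : the check; `tools/P3/loc.py` writes `prog`, `n` and `c`;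
* `fN_of_chk`, `k0_of_chk` : the counts for a subgroup `N` with `Q ≤ N ≤ N(Q)` and `|N| ≤ |Q| * n`;
* `fN_norm`, `k0_norm` : the same for the normaliser of `Q`.
-/

set_option autoImplicit false

namespace Cfsg.Agent.MO.L

open Cfsg Subgroup Cfsg.Agent.MO.T
open Cfsg.Agent.MK.T (res stab_of_le stab_norm commutator_eq_subgroupOf)
open scoped commutatorElement

variable {X : Type} [Group X] {p d : ℕ} {Q N : Subgroup X} {q : ℕ → X}

/-- the monomial with the exponents `r` -/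
def mon (q : ℕ → X) (d : ℕ) (r : List ℕ) : X := ((List.range d).map fun k => q k ^ r.getD k 0).prod

/-- a basis of `Q / Q'` -/
structure Loc (p d : ℕ) (Q : Subgroup X) (q : ℕ → X) : Prop where
  pg : IsPGroup p Q
  mem : ∀ j < d, q j ∈ Q
  pw : ∀ j < d, q j ^ p ∈ ⁅Q, Q⁆
  gen : ∀ H : Subgroup X, (∀ j < d, q j ∈ H) → ⁅Q, Q⁆ ≤ H → Q ≤ H
  idx : ⁅Q, Q⁆.relIndex Q = p ^ d

/-- the matrix of a map on `Q / Q'` -/
def Mt (d : ℕ) (Q : Subgroup X) (q : ℕ → X) (f : X → X) (M : List (List ℕ)) : Prop :=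
  ∀ j < d, (mon q d (M.getD j []))⁻¹ * f (q j) ∈ ⁅Q, Q⁆

/-! ### the group `Q / Q'` -/

abbrev Ab (Q : Subgroup X) : Type := Additive (Abelianization Q)

open Classical in
/-- the class of an element -/
noncomputable def ab (Q : Subgroup X) (x : X) : Ab Q := if h : x ∈ Q then Additive.ofMul (Abelianization.of ⟨x, h⟩) else 0

theorem ab_of {x : X} (h : x ∈ Q) : ab Q x = Additive.ofMul (Abelianization.of ⟨x, h⟩) := dif_pos h

theorem ab_mul {x y : X} (hx : x ∈ Q) (hy : y ∈ Q) : ab Q (x * y) = ab Q x + ab Q y := by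
  rw [ab_of hx, ab_of hy, ab_of (mul_mem hx hy), ← ofMul_mul, ← map_mul]
  rfl

theorem ab_eq_zero {x : X} (hx : x ∈ Q) : ab Q x = 0 ↔ x ∈ ⁅Q, Q⁆ := by
  rw [ab_of hx, ofMul_eq_zero, ← MonoidHom.mem_ker, Abelianization.ker_of, commutator_eq_subgroupOf, mem_subgroupOf]

theorem ab_one : ab Q 1 = 0 := (ab_eq_zero (one_mem Q)).2 (one_mem _)

theorem ab_pow {x : X} (hx : x ∈ Q) (k : ℕ) : ab Q (x ^ k) = k • ab Q x := by
  induction k with
  | zero => rw [pow_zero, zero_smul, ab_one]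
  | succ k ih => rw [pow_succ, ab_mul (pow_mem hx k) hx, ih, succ_nsmul]

theorem comm_le (Q : Subgroup X) : ⁅Q, Q⁆ ≤ Q :=
  commutator_le.2 fun _ ha _ hb => mul_mem (mul_mem (mul_mem ha hb) (inv_mem ha)) (inv_mem hb)

theorem ab_eq {x y : X} (hx : x ∈ Q) (h : x⁻¹ * y ∈ ⁅Q, Q⁆) : ab Q y = ab Q x := by
  have h1 := comm_le Q h
  rw [← mul_inv_cancel_left x y, ab_mul hx h1, (ab_eq_zero h1).2 h, add_zero]

theorem ab_surj (v : Ab Q) : ∃ x ∈ Q, ab Q x = v := by
  obtain ⟨x, hx⟩ := QuotientGroup.mk_surjective (s := _root_.commutator Q) v.toMul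
  exact ⟨x, x.2, (ab_of x.2).trans (congrArg Additive.ofMul hx)⟩

/-- the action of an automorphism -/
def act {α : MulAut X} (h : ∀ x, α x ∈ Q ↔ x ∈ Q) : Ab Q →+ Ab Q :=
  MonoidHom.toAdditive (Abelianization.map (res Q α h).toMonoidHom)

theorem act_ab {α : MulAut X} (h : ∀ x, α x ∈ Q ↔ x ∈ Q) {x : X} (hx : x ∈ Q) : act h (ab Q x) = ab Q (α x) := by
  rw [ab_of hx, ab_of ((h x).2 hx)]
  rfl

theorem exists_act (hN : N ≤ normalizer (Q : Set X)) [(Q.subgroupOf N).Normal] :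
    ∃ _ : DistribMulAction (N ⧸ Q.subgroupOf N) (Ab Q),
      ∀ x : N, ∀ y ∈ Q, (x : N ⧸ Q.subgroupOf N) • ab Q y = ab Q (x * y * (x : X)⁻¹) := by
  have h1 : ∀ x : N, ∀ y, MulAut.conj (x : X) y ∈ Q ↔ y ∈ Q := fun x y => (mem_normalizer_iff.1 (hN x.2) y).symm
  have h2 : ∀ x : N, ∀ y ∈ Q, act (h1 (x : N ⧸ Q.subgroupOf N).out) (ab Q y) = ab Q (x * y * (x : X)⁻¹) := fun x y hy => by
    obtain ⟨z, hz⟩ := QuotientGroup.mk_out_eq_mul (Q.subgroupOf N) x
    have h3 : ((z : N) : X) ∈ Q := z.2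
    have h4 : ab Q ((z : N) * y * ((z : N) : X)⁻¹) = ab Q y := by
      rw [ab_mul (mul_mem h3 hy) (inv_mem h3), ab_mul h3 hy, add_right_comm, ← ab_mul h3 (inv_mem h3), mul_inv_cancel,
        ab_one, zero_add]
    rw [act_ab _ hy, hz, coe_mul, map_mul, MulAut.mul_apply, ← act_ab (h1 x) ((h1 z y).2 hy), MulAut.conj_apply, h4,
      act_ab _ hy, MulAut.conj_apply]
  refine ⟨{ smul := fun a v => act (h1 a.out) v
            one_smul := fun v => ?_
            mul_smul := fun a c v => ?_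
            smul_zero := fun a => map_zero (act (h1 a.out))
            smul_add := fun a => map_add (act (h1 a.out)) }, h2⟩
  · obtain ⟨y, hy, rfl⟩ := ab_surj v
    obtain ⟨a, rfl⟩ := QuotientGroup.mk_surjective a
    obtain ⟨c, rfl⟩ := QuotientGroup.mk_surjective c
    refine (h2 (a * c) y hy).trans (Eq.trans ?_ ((congrArg _ (h2 c y hy)).trans (h2 a _ ((h1 c y).2 hy))).symm)
    simp only [mul_assoc, _root_.Subgroup.coe_mul, _root_.mul_inv_rev]
  · obtain ⟨y, hy, rfl⟩ := ab_surj v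
    exact (h2 1 y hy).trans (by simp)

/-- the automorphism of `N / Q` -/
def qb [(Q.subgroupOf N).Normal] {α : MulAut X} (h : ∀ x, α x ∈ Q ↔ x ∈ Q) (hN : ∀ x, α x ∈ N ↔ x ∈ N) :
    N ⧸ Q.subgroupOf N →* N ⧸ Q.subgroupOf N :=
  QuotientGroup.map _ _ (res N α hN).toMonoidHom fun x hx => (h x).2 hx

theorem core [Finite X] [Fact p.Prime] (hQ : IsPGroup p Q) (hQN : Q ≤ N) [(Q.subgroupOf N).Normal]
    [DistribMulAction (N ⧸ Q.subgroupOf N) (Ab Q)]
    (ha : ∀ x : N, ∀ y ∈ Q, (x : N ⧸ Q.subgroupOf N) • ab Q y = ab Q (x * y * (x : X)⁻¹)) {α : MulAut X}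
    (h : ∀ x, α x ∈ Q ↔ x ∈ Q) (hN : ∀ x, α x ∈ N ↔ x ∈ N) (hH : ¬ p ∣ Nat.card (N ⧸ Q.subgroupOf N)) :
    fN p N α * Nat.card (N ⧸ Q.subgroupOf N) =
      Nat.card {t : ((N ⧸ Q.subgroupOf N) × (N ⧸ Q.subgroupOf N)) × Ab Q //
        t.1.2 * qb h hN t.1.1 = t.1.1 * t.1.2 ∧ t.1.1 • t.2 = t.2 ∧ t.1.2 • act h t.2 = t.2} := by
  rw [fN_eq_f0 (β := res N α hN) fun _ => rfl]
  have h1 : ∀ x : N, x ∈ ⁅Q.subgroupOf N, Q.subgroupOf N⁆ ↔ (x : X) ∈ ⁅Q, Q⁆ := fun x => by
    rw [← mem_map_iff_mem N.subtype_injective, map_commutator, subgroupOf_map_subtype, inf_eq_left.2 hQN]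
    rfl
  refine f0_mul_card (Q.subgroupOf N) (hQ.of_equiv (subgroupOfEquivOfLe hQN).symm) (QuotientGroup.mk' _)
    (QuotientGroup.mk'_surjective _) (QuotientGroup.ker_mk' _) hH
    (MonoidHom.mk' (fun y : Q.subgroupOf N => Multiplicative.ofAdd (ab Q ((y : N) : X))) fun a b => ab_mul a.2 b.2) (fun v => ?_)
    (fun y => (ab_eq_zero (Q := Q) (x := ((y : N) : X)) y.2).trans (h1 _).symm) (fun x y y' e => ?_) _ (fun y hy => (h y).2 hy) _ (fun y y' e => ?_) _
    fun _ => rfl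
  · obtain ⟨y, hy, e⟩ := ab_surj v.toAdd
    exact ⟨⟨⟨y, hQN hy⟩, hy⟩, e⟩
  · exact (congrArg (fun z : N => ab Q z) e).trans (ha x _ y.2).symm
  · exact (congrArg (fun z : N => ab Q z) e).trans (act_ab h y.2).symm

theorem card_quot_le [Finite X] (hQN : Q ≤ N) {n : ℕ} (hn : Nat.card N ≤ Nat.card Q * n) :
    Nat.card (N ⧸ Q.subgroupOf N) ≤ n := by
  rw [← (Q.subgroupOf N).card_mul_index, Nat.card_congr (subgroupOfEquivOfLe hQN).toEquiv] at hn
  exact Nat.le_of_mul_le_mul_left hn Nat.card_pos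

/-! ### coordinates -/

noncomputable def sm (d : ℕ) (f : ℕ → ℕ) : ℕ := Nat.rec 0 (fun j acc => Nat.add acc (f j)) d

/-- a digit -/
def dg (p x k : ℕ) : ℕ := Nat.mod (Nat.div x (Nat.pow p k)) p

/-- the number with the given digits -/
noncomputable def enc (p d : ℕ) (c : ℕ → ℕ) : ℕ := sm d fun k => Nat.mul (Nat.mod (c k) p) (Nat.pow p k)

/-- the image of a vector under a matrix -/
noncomputable def img (p d : ℕ) (M : List (List ℕ)) (x : ℕ) : ℕ :=
  enc p d fun k => sm d fun j => Nat.mul (dg p x j) ((M.getD j []).getD k 0)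

/-- the table of a matrix -/
noncomputable def tab (p d : ℕ) (M : List (List ℕ)) : ℕ := tb (p ^ d) (img p d M)

theorem sm_eq (d : ℕ) (f : ℕ → ℕ) : sm d f = ∑ j ∈ Finset.range d, f j := by
  induction d with
  | zero => rfl
  | succ d ih => rw [Finset.sum_range_succ, ← ih]; rfl

theorem dg_eq (p x k : ℕ) : dg p x k = x / p ^ k % p := rfl

theorem enc_succ (p d : ℕ) (c : ℕ → ℕ) : enc p (d + 1) c = enc p d c + c d % p * p ^ d := rfl

theorem enc_lt (hp : 0 < p) (d : ℕ) (c : ℕ → ℕ) : enc p d c < p ^ d := by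
  induction d with
  | zero => exact Nat.one_pos
  | succ d ih =>
    have h2 := Nat.mul_le_mul_right (p ^ d) (Nat.succ_le_of_lt (Nat.mod_lt (c d) hp))
    rw [Nat.succ_mul] at h2
    rw [enc_succ, pow_succ']
    omega

theorem dg_enc (hp : 0 < p) (c : ℕ → ℕ) {k : ℕ} (hk : k < d) : dg p (enc p d c) k = c k % p := by
  induction d with
  | zero => omega
  | succ d ih =>
    rw [dg_eq, enc_succ]
    rcases Nat.lt_succ_iff_lt_or_eq.1 hk with h2 | rfl
    · obtain ⟨j, rfl⟩ := Nat.exists_eq_add_of_lt h2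
      rw [← ih h2, dg_eq, show c (k + j + 1) % p * p ^ (k + j + 1) = c (k + j + 1) % p * p ^ j * p * p ^ k by ring,
        Nat.add_mul_div_right _ _ (by positivity), Nat.add_mul_mod_self_right]
    · rw [Nat.add_mul_div_right _ _ (by positivity), Nat.div_eq_of_lt (enc_lt hp _ _), zero_add, Nat.mod_mod]

/-- the vector with the code `x` -/
noncomputable def cd (p d : ℕ) (Q : Subgroup X) (q : ℕ → X) (x : ℕ) : Ab Q := ∑ j ∈ Finset.range d, dg p x j • ab Q (q j)

theorem mon_mem (h : ∀ j < d, q j ∈ Q) (r : List ℕ) : mon q d r ∈ Q :=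
  list_prod_mem (List.forall_mem_map.2 fun k hk => pow_mem (h k (List.mem_range.1 hk)) _)

theorem ab_mon (h : ∀ j < d, q j ∈ Q) (r : List ℕ) : ab Q (mon q d r) = ∑ k ∈ Finset.range d, r.getD k 0 • ab Q (q k) := by
  induction d with
  | zero => exact ab_one
  | succ d ih =>
    have h1 : ∀ j < d, q j ∈ Q := fun j hj => h j (by omega)
    have h2 := h d d.lt_succ_self
    rw [Finset.sum_range_succ, ← ih h1, ← ab_pow h2, ← ab_mul (mon_mem h1 r) (pow_mem h2 _), mon, mon, List.range_succ,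
      List.map_append, List.prod_append, List.map_singleton, List.prod_singleton]

namespace Loc

variable (h : Loc p d Q q) [hp : Fact p.Prime]
include h

theorem cd_enc (c : ℕ → ℕ) : cd p d Q q (enc p d c) = ∑ k ∈ Finset.range d, c k • ab Q (q k) :=
  Finset.sum_congr rfl fun k hk => by
    have h1 := Finset.mem_range.1 hk
    have h2 : p • ab Q (q k) = 0 := by
      rw [← ab_pow (h.mem k h1), ab_eq_zero (pow_mem (h.mem k h1) _)]
      exact h.pw k h1
    rw [dg_enc hp.out.pos c h1, ← nsmul_eq_mod_nsmul _ h2]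

theorem surj [Finite X] (v : Ab Q) : ∃ x < p ^ d, cd p d Q q x = v := by
  let K : Submonoid X :=
    { carrier := {x | x ∈ Q ∧ ∃ c : ℕ → ℕ, ab Q x = ∑ k ∈ Finset.range d, c k • ab Q (q k)}
      one_mem' := ⟨one_mem _, 0, by simp [ab_one]⟩
      mul_mem' := fun ⟨h1, c, h2⟩ ⟨h3, c', h4⟩ => ⟨mul_mem h1 h3, c + c', by
        rw [ab_mul h1 h3, h2, h4, ← Finset.sum_add_distrib]
        exact Finset.sum_congr rfl fun k _ => (add_smul _ _ _).symm⟩ }
  let K' : Subgroup X := ⟨K, fun {x} hx => by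
    rw [← eq_inv_of_mul_eq_one_left (a := x ^ (orderOf x - 1))
      (by rw [← pow_succ, Nat.sub_add_cancel (orderOf_pos x), pow_orderOf_eq_one])]
    exact pow_mem (show x ∈ K from hx) _⟩
  obtain ⟨y, hy, rfl⟩ := ab_surj v
  obtain ⟨-, c, hc⟩ := h.gen K' (fun j hj => ⟨h.mem j hj, Pi.single j 1, by
      rw [Finset.sum_eq_single_of_mem j (Finset.mem_range.2 hj) fun k _ hk => by rw [Pi.single_eq_of_ne hk, zero_smul],
        Pi.single_eq_same, one_smul]⟩)
    (fun x hx => ⟨comm_le Q hx, 0, by simp [(ab_eq_zero (comm_le Q hx)).2 hx]⟩) hy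
  exact ⟨_, enc_lt hp.out.pos d c, (h.cd_enc c).trans hc.symm⟩

theorem inj [Finite X] : ∀ x < p ^ d, ∀ y < p ^ d, cd p d Q q x = cd p d Q q y → x = y := fun x hx y hy e => by
  have h1 : Nat.card (Ab Q) = p ^ d := by
    rw [← h.idx, relIndex, ← commutator_eq_subgroupOf]
    rfl
  have h2 : Function.Bijective fun x : Fin (p ^ d) => cd p d Q q x :=
    (Nat.bijective_iff_surjective_and_card _).2 ⟨fun v => (h.surj v).elim fun x hx => ⟨⟨x, hx.1⟩, hx.2⟩,
      by rw [h1, Nat.card_fin]⟩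
  exact congrArg Fin.val (h2.1 (a₁ := ⟨x, hx⟩) (a₂ := ⟨y, hy⟩) e)

theorem cd_pow {j : ℕ} (hj : j < d) : cd p d Q q (p ^ j) = ab Q (q j) := by
  have h1 : enc p d (Pi.single j 1) = p ^ j := by
    rw [enc, sm_eq, Finset.sum_eq_single_of_mem j (Finset.mem_range.2 hj) fun k _ hk => by
      rw [Pi.single_eq_of_ne hk]; exact Nat.zero_mul _, Pi.single_eq_same]
    change 1 % p * p ^ j = _
    rw [Nat.mod_eq_of_lt hp.out.one_lt, one_mul]
  rw [← h1, h.cd_enc, Finset.sum_eq_single_of_mem j (Finset.mem_range.2 hj) fun k _ hk => by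
    rw [Pi.single_eq_of_ne hk, zero_smul], Pi.single_eq_same, one_smul]

theorem cd_img (F : Ab Q →+ Ab Q) {f : X → X} {M : List (List ℕ)} (hF : ∀ j < d, F (ab Q (q j)) = ab Q (f (q j)))
    (hM : Mt d Q q f M) (x : ℕ) : F (cd p d Q q x) = cd p d Q q (img p d M x) := by
  rw [img, h.cd_enc, cd, map_sum]
  simp only [sm_eq, Finset.sum_smul]
  rw [Finset.sum_comm]
  refine Finset.sum_congr rfl fun j hj => ?_
  have h1 := Finset.mem_range.1 hj
  rw [map_nsmul, hF j h1, ab_eq (mon_mem h.mem _) (hM j h1), ab_mon h.mem, Finset.smul_sum]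
  exact Finset.sum_congr rfl fun k _ => (mul_smul _ _ _).symm

theorem tab_spec (hD : p ^ d ≤ 4096) (F : Ab Q →+ Ab Q) {f : X → X} {M : List (List ℕ)}
    (hF : ∀ j < d, F (ab Q (q j)) = ab Q (f (q j))) (hM : Mt d Q q f M) :
    ∀ x < p ^ d, get (tab p d M) x < p ^ d ∧ F (cd p d Q q x) = cd p d Q q (get (tab p d M) x) := fun x hx => by
  rw [tab, get_tb (f := img p d M) (fun y _ => (enc_lt hp.out.pos _ _).trans_le hD) hx]
  exact ⟨enc_lt hp.out.pos _ _, h.cd_img F hF hM x⟩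

/-- two elements which agree on the basis -/
theorem smul_eq {H : Type} [Group H] [DistribMulAction H (Ab Q)] {a c : H} (e : ∀ j < d, a • cd p d Q q (p ^ j) =
    c • cd p d Q q (p ^ j)) (x : ℕ) : a • cd p d Q q x = c • cd p d Q q x := by
  rw [cd, Finset.smul_sum, Finset.smul_sum]
  refine Finset.sum_congr rfl fun j hj => ?_
  have h1 := e j (Finset.mem_range.1 hj)
  rw [h.cd_pow (Finset.mem_range.1 hj)] at h1
  rw [smul_comm a, smul_comm c, h1]

theorem rp [Finite X] (hD : p ^ d ≤ 4096) {H : Type} [Group H] [DistribMulAction H (Ab Q)] :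
    Rp (fun (a : H) t => ∀ x < p ^ d, get t x < p ^ d ∧ a • cd p d Q q x = cd p d Q q (get t x)) (p ^ d) (p ^ d)
      (cd p d Q q) ((List.range d).map fun j => p ^ j) where
  hD := hD
  one x hx := by
    rw [get_tb (fun _ hy => hy.trans_le hD) hx]
    exact ⟨hx, one_smul _ _⟩
  mul a t c s h1 h2 x hx := by
    rw [get_cmp _ _ hx, mul_smul, (h2 x hx).2]
    exact h1 _ (h2 x hx).1
  fn a t s h1 h2 x hx := h.inj _ (h1 x hx).1 _ (h2 x hx).1 ((h1 x hx).2.symm.trans (h2 x hx).2)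
  bas a t c s h1 h2 h3 x hx := h.inj _ (h1 x hx).1 _ (h2 x hx).1 (by
    rw [← (h1 x hx).2, ← (h2 x hx).2]
    refine h.smul_eq (fun j hj => ?_) x
    have h4 : p ^ j < p ^ d := Nat.pow_lt_pow_right hp.out.one_lt hj
    rw [(h1 _ h4).2, (h2 _ h4).2, h3 _ (List.mem_map.2 ⟨j, List.mem_range.2 hj, rfl⟩)])
  act _ _ h1 := h1
  inj := h.inj
  surj := h.surj
  lt := List.forall_mem_map.2 fun _ hj => Nat.pow_lt_pow_right hp.out.one_lt (List.mem_range.1 hj)

end Loc

/-! ### the check -/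

/-- the table of the inverse map -/
noncomputable def sct (μ P : ℕ) : ℕ := Nat.rec 0 (fun x acc => Nat.add acc (Nat.shiftLeft x (Nat.mul 12 (get μ x)))) P

noncomputable def gensK (p d μ ν : ℕ) (Ms : List (List (List ℕ))) : (List (ℕ × ℕ) → Bool) → Bool :=
  List.rec (fun k => k []) (fun M _ ih k => frc (tab p d M) fun g => frc (cmp (p ^ d) μ (cmp (p ^ d) g ν)) fun s =>
    ih fun r => k ((g, s) :: r)) Ms

theorem gensK_eq (p d μ ν : ℕ) (Ms : List (List (List ℕ))) : ∀ k, gensK p d μ ν Ms k =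
    k (Ms.map fun M => (tab p d M, cmp (p ^ d) μ (cmp (p ^ d) (tab p d M) ν))) := by
  induction Ms with
  | nil => exact fun _ => rfl
  | cons M Ms ih =>
    intro k
    change (frc (tab p d M) fun g => frc (cmp (p ^ d) μ (cmp (p ^ d) g ν)) fun s =>
      gensK p d μ ν Ms fun r => k ((g, s) :: r)) = _
    rw [frc_eq, frc_eq, ih]
    rfl

/-- **the check** : `Ms` are the matrices of elements of `N`, `M` is the one of the automorphism, `n` is the order of
`N / Q` and `c` is the number of the fixed characters -/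
noncomputable def chkM (p d : ℕ) (Ms : List (List (List ℕ))) (M : List (List ℕ)) (prog : List ℕ) (n c : ℕ) : Bool :=
  Nat.ble (p ^ d) 4096 && n % p != 0 && frc (tab p d M) fun μ => frc (sct μ (p ^ d)) fun ν =>
    ((List.range (p ^ d)).all fun y => Nat.blt (get ν y) (p ^ d) && Nat.beq (get μ (get ν y)) y) &&
      gensK p d μ ν Ms fun gens => chk (p ^ d) (p ^ d) ((List.range d).map fun j => p ^ j) gens μ prog n (c * n)

/-- **the number of the fixed characters**, and the order of `N` -/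
theorem fN_card_of_chk [Finite X] [Fact p.Prime] (h : Loc p d Q q) (hQN : Q ≤ N) (hN : N ≤ normalizer (Q : Set X)) {n : ℕ}
    (hn : Nat.card N ≤ Nat.card Q * n) {Ms : List (List (List ℕ))}
    (hM : ∀ M ∈ Ms, ∃ g ∈ N, Mt d Q q (fun x => g * x * g⁻¹) M) {α : MulAut X} (hα : ∀ x, α x ∈ Q ↔ x ∈ Q)
    (hαN : ∀ x, α x ∈ N ↔ x ∈ N) {M : List (List ℕ)} (hαM : Mt d Q q α M) {prog : List ℕ} {c : ℕ}
    (hc : chkM p d Ms M prog n c = true) : fN p N α = c ∧ Nat.card N = Nat.card Q * n := by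
  have := normal_subgroupOf_of_le_normalizer hN
  obtain ⟨_, ha⟩ := exists_act hN
  simp only [chkM, frc_eq, gensK_eq, Bool.and_eq_true, Nat.ble_eq, bne_iff_ne, List.all_eq_true, List.mem_range, Nat.blt_eq,
    Nat.beq_eq] at hc
  obtain ⟨⟨h1, h2⟩, h3, h4⟩ := hc
  have h5 := h.tab_spec h1 (act hα) (fun j hj => act_ab hα (h.mem j hj)) hαM
  obtain ⟨h6, h7⟩ := card_of_chk (h.rp h1) (map_one (qb hα hαN)) (map_mul _) h5 (List.forall_mem_map.2 fun M' hM' => by
    obtain ⟨g, hg, h6⟩ := hM M' hM'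
    have h7 := h.tab_spec h1 (DistribSMul.toAddMonoidHom _ ((⟨g, hg⟩ : N) : N ⧸ Q.subgroupOf N))
      (f := fun x => g * x * g⁻¹) (fun j hj => ha ⟨g, hg⟩ _ (h.mem j hj)) h6
    refine ⟨_, h7, fun y hy => ?_⟩
    have h8 := h7 _ (h3 y hy).1
    rw [get_cmp _ _ hy, get_cmp _ _ hy]
    refine ⟨(h5 _ h8.1).1, ?_⟩
    rw [← (h5 _ h8.1).2, ← h8.2]
    conv_lhs => rw [← (h3 y hy).2, ← (h5 _ (h3 y hy).1).2]
    obtain ⟨z, hz, e⟩ := ab_surj (cd p d Q q (get (sct (tab p d M) (p ^ d)) y))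
    rw [← e, act_ab hα hz]
    refine (ha ⟨α g, (hαN g).2 hg⟩ _ ((hα z).2 hz)).trans (Eq.symm ?_)
    refine (congrArg _ (ha ⟨g, hg⟩ z hz)).trans ((act_ab hα ((mem_normalizer_iff.1 (hN hg) z).1 hz)).trans ?_)
    simp only [_root_.map_mul, _root_.map_inv]) (card_quot_le hQN hn) h4
  have h8 := core h.pg hQN ha hα hαN (by rw [h6]; exact fun e => h2 (Nat.mod_eq_zero_of_dvd e))
  rw [h7, h6] at h8
  refine ⟨Nat.eq_of_mul_eq_mul_right (h6 ▸ Nat.card_pos) h8, ?_⟩
  rw [← (Q.subgroupOf N).card_mul_index, Nat.card_congr (subgroupOfEquivOfLe hQN).toEquiv, ← h6]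
  rfl

theorem fN_of_chk [Finite X] [Fact p.Prime] (h : Loc p d Q q) (hQN : Q ≤ N) (hN : N ≤ normalizer (Q : Set X)) {n : ℕ}
    (hn : Nat.card N ≤ Nat.card Q * n) {Ms : List (List (List ℕ))}
    (hM : ∀ M ∈ Ms, ∃ g ∈ N, Mt d Q q (fun x => g * x * g⁻¹) M) {α : MulAut X} (hα : ∀ x, α x ∈ Q ↔ x ∈ Q)
    (hαN : ∀ x, α x ∈ N ↔ x ∈ N) {M : List (List ℕ)} (hαM : Mt d Q q α M) {prog : List ℕ} {c : ℕ}
    (hc : chkM p d Ms M prog n c = true) : fN p N α = c := (fN_card_of_chk h hQN hN hn hM hα hαN hαM hc).1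

/-- the unit matrix -/
def idM (d : ℕ) : List (List ℕ) := (List.range d).map fun j => (List.range d).map fun k => if k = j then 1 else 0

theorem Loc.mt_one (h : Loc p d Q q) : Mt d Q q (1 : MulAut X) (idM d) := fun j hj => by
  have h1 := mon_mem h.mem ((idM d).getD j [])
  have h2 := h.mem j hj
  have h3 : ab Q (mon q d ((idM d).getD j [])) = ab Q (q j) := by
    rw [ab_mon h.mem, Finset.sum_eq_single_of_mem j (Finset.mem_range.2 hj) fun k hk e => by
      simp [idM, hj, Finset.mem_range.1 hk, e]]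
    simp [idM, hj]
  rw [MulAut.one_apply, ← ab_eq_zero (mul_mem (inv_mem h1) h2), ab_mul (inv_mem h1) h2, ← h3, ← ab_mul (inv_mem h1) h1,
    inv_mul_cancel, ab_one]

/-- **the number of the characters of `p'`-degree** -/
theorem k0_of_chk [Finite X] [Fact p.Prime] (h : Loc p d Q q) (hQN : Q ≤ N) (hN : N ≤ normalizer (Q : Set X)) {n : ℕ}
    (hn : Nat.card N ≤ Nat.card Q * n) {Ms : List (List (List ℕ))}
    (hM : ∀ M ∈ Ms, ∃ g ∈ N, Mt d Q q (fun x => g * x * g⁻¹) M) {prog : List ℕ} {c : ℕ}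
    (hc : chkM p d Ms (idM d) prog n c = true) : k0 p N = c :=
  (fN_one N).symm.trans (fN_of_chk h hQN hN hn hM (fun _ => Iff.rfl) (fun _ => Iff.rfl) h.mt_one hc)

theorem fN_norm [Finite X] [Fact p.Prime] (h : Loc p d Q q) {n : ℕ}
    (hn : Nat.card (normalizer (Q : Set X)) ≤ Nat.card Q * n) {Ms : List (List (List ℕ))}
    (hM : ∀ M ∈ Ms, ∃ g ∈ normalizer (Q : Set X), Mt d Q q (fun x => g * x * g⁻¹) M) {α : MulAut X}
    (hα : ∀ x, α x ∈ Q ↔ x ∈ Q) {M : List (List ℕ)} (hαM : Mt d Q q α M) {prog : List ℕ} {c : ℕ}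
    (hc : chkM p d Ms M prog n c = true) : fN p (normalizer (Q : Set X)) α = c :=
  fN_of_chk h le_normalizer le_rfl hn hM hα (stab_norm hα) hαM hc

theorem k0_norm [Finite X] [Fact p.Prime] (h : Loc p d Q q) {n : ℕ}
    (hn : Nat.card (normalizer (Q : Set X)) ≤ Nat.card Q * n) {Ms : List (List (List ℕ))}
    (hM : ∀ M ∈ Ms, ∃ g ∈ normalizer (Q : Set X), Mt d Q q (fun x => g * x * g⁻¹) M) {prog : List ℕ} {c : ℕ}
    (hc : chkM p d Ms (idM d) prog n c = true) : k0 p (normalizer (Q : Set X)) = c :=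
  k0_of_chk h le_normalizer le_rfl hn hM hc

end Cfsg.Agent.MO.L
end

-- part: MO/S/Pc3
section
/-!
# MO, from a polycyclic certificate to the local count (helper7)

`loc_of_chk`, `mt_of_nrm` : the input of `MO/L/Mat`; `k0_pc`, `k0_syl` : the count; `exists_congr` : transport.
-/

set_option autoImplicit false

namespace Cfsg.Agent.MO.S.Pc

open Subgroup Cfsg.Agent.MO.L Cfsg.Agent.MO.T
open Cfsg.Agent.MK.S.Pc (ev ev_nil ev_cons V mem_V)

variable {Γ : Type} [Group Γ] [Finite Γ] {g : ℕ → Γ} {p n m : ℕ} [Fact p.Prime] {eqv : List ℕ → List ℕ → Bool} {c : Cert}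
  (he : ∀ v w, eqv v w = true → ev g v = ev g w) (h : Pc.chk eqv p n m c = true)
include he h

omit [Fact p.Prime] in
theorem loc_of_chk (hx : expC n m c = true) (hc : p ^ n ≤ Nat.card (V g n 0)) : Loc p m (V g n 0) g :=
  have hp := pc_of_chk he h
  ⟨IsPGroup.of_card (hp.card_zero hc), fun _ hj => mem_V (Nat.zero_le _) (hj.trans_le hp.le),
    fun _ hj => exp_of_chk he h hx _ (mem_V (Nat.zero_le _) (hj.trans_le hp.le)), fun _ => hp.gen, hp.relIndex hc⟩

omit [Fact p.Prime] in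
theorem mt_of_nrm {a : List ℕ} {R : List (List ℕ)} (hn : nrm eqv n a R = true) :
    Mt m (V g n 0) g (fun x => ev g a * x * (ev g a)⁻¹) R := fun _ hj =>
  (pc_of_chk he h).comm_eq ▸ nrm_mod he hn m (hj.trans_le (pc_of_chk he h).le)

omit he h in
/-- the letters from `n` on normalise the group -/
noncomputable def nrms (eqv : List ℕ → List ℕ → Bool) (n : ℕ) (RR : List (List (List ℕ))) : Bool :=
  (List.range RR.length).all fun a => nrm eqv n [n + a] (RR.getD a [])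

omit [Fact p.Prime] in
theorem mts_of_nrms {RR : List (List (List ℕ))} (hR : nrms eqv n RR = true) : ∀ M ∈ RR,
    ∃ a ∈ normalizer (V g n 0 : Set Γ), Mt m (V g n 0) g (fun x => a * x * a⁻¹) M := fun M hM => by
  obtain ⟨a, ha, rfl⟩ := List.getElem_of_mem hM
  have h1 := List.all_eq_true.1 hR a (List.mem_range.2 ha)
  rw [List.getD_eq_getElem _ _ ha] at h1
  exact ⟨_, nrm_mem he h1, mt_of_nrm he h h1⟩

/-- **the local count** -/
theorem k0_pc (hx : expC n m c = true) (hc : p ^ n ≤ Nat.card (V g n 0)) {RR : List (List (List ℕ))}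
    (hR : nrms eqv n RR = true) {k r : ℕ} (hn : Nat.card (normalizer (V g n 0 : Set Γ)) ≤ p ^ n * k) {prog : List ℕ}
    (hM : chkM p m RR (idM m) prog k r = true) : k0 p (normalizer (V g n 0 : Set Γ)) = r :=
  k0_norm (loc_of_chk he h hx hc) (((pc_of_chk he h).card_zero hc).symm ▸ hn) (mts_of_nrms he h hR) hM

/-- **the local count for a Sylow subgroup** -/
theorem k0_syl (hx : expC n m c = true) (hc : p ^ n ≤ Nat.card (V g n 0)) {o : ℕ} (hG : Nat.card Γ = p ^ n * o)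
    (ho : ¬ p ∣ o) {RR : List (List (List ℕ))} (hR : nrms eqv n RR = true) {k r : ℕ}
    (hn : ∀ Q : Sylow p Γ, (Q : Subgroup Γ) = V g n 0 → Nat.card (normalizer (V g n 0 : Set Γ)) ≤ p ^ n * k) {prog : List ℕ}
    (hM : chkM p m RR (idM m) prog k r = true) : ∃ Q : Sylow p Γ, k0 p (normalizer ((Q : Subgroup Γ) : Set Γ)) = r := by
  obtain ⟨Q, hQ⟩ := (pc_of_chk he h).sylow hc hG ho
  exact ⟨Q, hQ ▸ k0_pc he h hx hc hR (hn Q hQ) hM⟩

omit he h [Finite Γ] in
theorem exists_congr {S : Type} [Group S] (e : S ≃* Γ) {r : ℕ}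
    (h : ∃ Q : Sylow p Γ, k0 p (normalizer ((Q : Subgroup Γ) : Set Γ)) = r) :
    ∃ Q : Sylow p S, k0 p (normalizer ((Q : Subgroup S) : Set S)) = r := by
  obtain ⟨Q, rfl⟩ := h
  obtain ⟨Q', -, h2⟩ := exists_sylow_congr e Q
  refine ⟨Q', k0_congr ((e.subgroupMap _).trans (MulEquiv.subgroupCongr ?_))⟩
  ext x
  obtain ⟨u, rfl⟩ := e.surjective x
  exact (mem_map_iff_mem e.injective).trans (h2 u)

end Cfsg.Agent.MO.S.Pc
end

-- part: MO/S/M35/Cnt
section
/-!
# MO, small rows: counts for groups with scalars (helper44)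

* `k0_prod`, `k0_quot` (a kernel inside the derived group of a normal `p`-subgroup), `k0_aff` (the affine group of the line);
* `k0_prime_index`, `k0_aut` (`2 k(Aut X) = k(X) + 3 f`);
* `k0_scal`, `k0_norm_scal`, `IH.k0_scal` : `k(K) = p * k(K / Q⟨t⟩)` if `t` acts on `Q / [Q, P]` (of order `p`) as a primitive root.
-/

set_option autoImplicit false

namespace Cfsg.Agent.MO.S.M35

open Cfsg Subgroup Cfsg.Agent.MO.T Cfsg.Agent.ODD.Red Cfsg.Agent.Characters Cfsg.Agent.Characters.Core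
open Cfsg.Agent.MK.T (Con dc con_cases conj_inj)
open scoped commutatorElement

variable {p : ℕ} {G H : Type} [Group G] [Group H]

theorem irr_eq_of_mul [Finite G] {φ φ' : G → ℂ} (h : IsIrrCharacter G φ) (h' : IsIrrCharacter G φ') {a b : ℂ}
    (ha : a ≠ 0) (e : ∀ g, φ g * a = φ' g * b) : φ = φ' := by
  have := Fintype.ofFinite G
  by_contra hn
  have h1 : a • φ = b • φ' := funext fun g => by simpa [mul_comm] using e g
  have h2 := congrArg (classInner · φ) h1
  simp only [classInner_smul_left, classInner_irr_self h, classInner_irr_ne h' h (Ne.symm hn), mul_one, mul_zero] at h2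
  exact ha h2

theorem deg_mul {K : Type} [Group K] {χ : K → ℂ} {φ : G → ℂ} {ψ : H → ℂ} (hφ : IsIrrCharacter G φ)
    (hψ : IsIrrCharacter H ψ) (e : χ 1 = φ 1 * ψ 1) : charDegree χ = charDegree φ * charDegree ψ :=
  charDegree_of (by rw [e, apply_one (isIrr_isCharacter hφ), apply_one (isIrr_isCharacter hψ), Nat.cast_mul])

/-- **direct products** -/
theorem k0_prod [Finite G] [Finite H] [Fact p.Prime] : k0 p (G × H) = k0 p G * k0 p H := by
  rw [k0, k0, k0, ← Nat.card_prod]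
  let F : {χ // PI p G χ} × {χ // PI p H χ} → {χ // PI p (G × H) χ} := fun q =>
    ⟨fun x => q.1.1 x.1 * q.2.1 x.2, S0188.isIrr_outer q.1.2.1 q.2.2.1, by
      rw [deg_mul q.1.2.1 q.2.2.1 rfl]
      exact nd_mul' q.1.2.2 q.2.2.2⟩
  refine (Nat.card_eq_of_bijective F ⟨fun q q' e => ?_, fun θ => ?_⟩).symm
  · have e1 := congrFun (congrArg Subtype.val e)
    exact Prod.ext (Subtype.ext (irr_eq_of_mul q.1.2.1 q'.1.2.1 q.2.2.one_ne (b := q'.2.1 1) fun g => e1 (g, 1)))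
      (Subtype.ext (irr_eq_of_mul q.2.2.1 q'.2.2.1 q.1.2.one_ne (b := q'.1.1 1) fun g => by
        rw [mul_comm, mul_comm (q'.2.1 g)]
        exact e1 (1, g)))
  · obtain ⟨φ, ψ, h1, h2, h3⟩ := (S0188.result θ.1).1 θ.2.1
    have h4 := θ.2.2
    rw [deg_mul h1 h2 (congrFun h3 1), nd_mul] at h4
    exact ⟨(⟨φ, h1, h4.1⟩, ⟨ψ, h2, h4.2⟩), Subtype.ext h3.symm⟩

/-- the derived group of a normal `p`-subgroup is in the kernel -/
theorem pi_comm [Finite G] [Fact p.Prime] {P : Subgroup G} [P.Normal] (hP : IsPGroup p P) {χ : G → ℂ} (h : PI p G χ)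
    {z : G} (hz : z ∈ ⁅P, P⁆) : χ z = χ 1 := by
  classical
  have := Fintype.ofFinite G
  have := Fintype.ofFinite P
  have := finite_irr (G := P)
  have := Fintype.ofFinite (IrrCharacter P)
  obtain ⟨m, hm⟩ := exists_nat_comb (Clifford.isCharacter_restrict P (isIrr_isCharacter h.1))
  have hv : ∀ y : P, χ y = ∑ θ : IrrCharacter P, (m θ : ℂ) * (θ : P → ℂ) y := fun y => by
    have h1 := congrFun hm y
    simp only [Finset.sum_apply, Pi.smul_apply] at h1
    simpa only [nsmul_eq_mul] using h1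
  have hc : ∀ θ : IrrCharacter P, m θ ≠ 0 → classInner (fun n : P => χ n) (θ : P → ℂ) ≠ 0 := fun θ h0 => by
    rw [hm, classInner_sum_nsmul_irr]
    exact Nat.cast_ne_zero.2 h0
  have h1 : ∀ θ : IrrCharacter P, m θ ≠ 0 → (θ : P → ℂ) 1 = 1 := fun θ h0 => by
    have h2 : χ 1 = ((∑ η : IrrCharacter P, m η : ℕ) : ℂ) * (θ : P → ℂ) 1 := by
      rw [← OneMemClass.coe_one P, hv, Nat.cast_sum, Finset.sum_mul]
      refine Finset.sum_congr rfl fun η _ => ?_
      rcases eq_or_ne (m η) 0 with h3 | h3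
      · simp [h3]
      · obtain ⟨g, hg⟩ := Clifford.exists_conj_of_constituents P h.1 θ.2 η.2 (hc θ h0) (hc η h3)
        rw [hg, Function.comp_apply, map_one]
    rw [apply_one (isIrr_isCharacter θ.2), ← Nat.cast_mul] at h2
    have h3 := h.2
    rw [charDegree_of h2, nd_mul] at h3
    obtain ⟨k, hk⟩ := hP.exists_card_eq
    have h4 := H142.McKayCount.charDegree_dvd_card θ
    rw [hk] at h4
    rw [apply_one (isIrr_isCharacter θ.2), (cop_pow h3.2 k).symm.eq_one_of_dvd h4, Nat.cast_one]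
  have hzP : z ∈ P := commutator_le_left P P hz
  rw [← OneMemClass.coe_one P, hv, hv ⟨z, hzP⟩]
  refine Finset.sum_congr rfl fun θ _ => ?_
  rcases eq_or_ne (m θ) 0 with h3 | h3
  · simp [h3]
  · obtain ⟨μ, hμ⟩ := Linear.exists_hom_of_isIrrCharacter θ.2 (h1 θ h3)
    rw [hμ]
    beta_reduce
    rw [map_one, show μ ⟨z, hzP⟩ = 1 from Abelianization.commutator_subset_ker μ
      (by rw [MK.T.commutator_eq_subgroupOf]; exact hz)]

/-- all characters of `p'`-degree are trivial on the kernel -/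
theorem k0_surj [Finite G] (φ : G →* H) (hφ : Function.Surjective φ)
    (hk : ∀ χ, PI p G χ → ∀ z ∈ φ.ker, χ z = χ 1) : k0 p G = k0 p H := by
  refine (Nat.card_eq_of_bijective (fun χ : {χ // PI p H χ} => (⟨fun x => χ.1 (φ x), pi_comp φ hφ χ.2⟩ :
    {χ // PI p G χ})) ⟨fun a b e => Subtype.ext (hφ.injective_comp_right (congrArg Subtype.val e)), fun χ => ?_⟩).symm
  obtain ⟨η, hη, he⟩ := exists_quot φ hφ χ.2.1 (hk _ χ.2)
  refine ⟨⟨η, hη, ?_⟩, Subtype.ext (funext he)⟩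
  rw [charDegree_congr (ψ := χ.1) (by rw [← he, map_one])]
  exact χ.2.2

/-- **quotients** -/
theorem k0_quot [Finite G] [Fact p.Prime] {P : Subgroup G} [P.Normal] (hP : IsPGroup p P) (φ : G →* H)
    (hφ : Function.Surjective φ) (hk : φ.ker ≤ ⁅P, P⁆) : k0 p G = k0 p H :=
  k0_surj φ hφ fun _ h _ hz => pi_comm hP h (hk hz)

/-! ### the affine group of the line -/

/-- the map `x ↦ a x + b` -/
@[ext] structure Aff (p : ℕ) where
  /-- the linear part -/
  a : (ZMod p)ˣ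
  /-- the translation -/
  b : ZMod p

namespace Aff

instance instMulAff : Mul (Aff p) := ⟨fun x y => ⟨x.a * y.a, x.a * y.b + x.b⟩⟩
instance instOneAff : One (Aff p) := ⟨⟨1, 0⟩⟩
instance instInvAff : Inv (Aff p) := ⟨fun x => ⟨x.a⁻¹, -(x.a⁻¹ * x.b)⟩⟩

theorem mul_a (x y : Aff p) : (x * y).a = x.a * y.a := rfl
theorem mul_b (x y : Aff p) : (x * y).b = x.a * y.b + x.b := rfl
theorem one_a : (1 : Aff p).a = 1 := rfl
theorem one_b : (1 : Aff p).b = 0 := rfl
theorem inv_a (x : Aff p) : x⁻¹.a = x.a⁻¹ := rfl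
theorem inv_b (x : Aff p) : x⁻¹.b = -(x.a⁻¹ * x.b) := rfl

instance instGroupAff : Group (Aff p) := Group.ofLeftAxioms
  (fun x y z => Aff.ext (mul_assoc _ _ _) (by simp only [mul_a, mul_b, Units.val_mul]; ring))
  (fun x => Aff.ext (one_mul _) (by simp only [mul_b, one_a, one_b, Units.val_one]; ring))
  (fun x => Aff.ext (inv_mul_cancel _) (by simp only [mul_b, inv_a, inv_b, one_b]; ring))

instance instFiniteAff [NeZero p] : Finite (Aff p) :=
  Finite.of_injective (fun x : Aff p => (x.a, x.b)) fun _ _ h => Aff.ext (congrArg Prod.fst h) (congrArg Prod.snd h)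

/-- the linear part -/
def lin : Aff p →* (ZMod p)ˣ := MonoidHom.mk' (fun x => x.a) mul_a

/-- the invariant of a class -/
def cl (x : Aff p) : ZMod p := if x.a = 1 then (if x.b = 0 then 1 else 0) else x.a

theorem conj_iff [Fact p.Prime] (x y : Aff p) : IsConj x y ↔ cl x = cl y := by
  have key : ∀ x y : Aff p, IsConj x y ↔ x.a = y.a ∧ ∃ c : Aff p, c.a * x.b + c.b = y.a * c.b + y.b := fun x y => by
    rw [isConj_iff]
    simp only [mul_inv_eq_iff_eq_mul, Aff.ext_iff, mul_a, mul_b, mul_comm y.a, mul_right_inj]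
    exact ⟨fun ⟨c, h1, h2⟩ => ⟨h1, c, h2⟩, fun ⟨h1, c, h2⟩ => ⟨c, h1, h2⟩⟩
  rw [key, cl, cl]
  by_cases h1 : x.a = 1 <;> by_cases h2 : y.a = 1
  · rw [if_pos h1, if_pos h2, h1, h2, Units.val_one]
    simp only [one_mul, add_comm _ y.b, add_left_inj, true_and]
    by_cases h3 : x.b = 0 <;> by_cases h4 : y.b = 0
    · simp [h3, h4]
    · simp only [h3, h4, mul_zero, if_true, if_false, one_ne_zero, iff_false, not_exists]
      exact fun _ h => h4 h.symm
    · simp [h3, h4]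
    · simp only [h3, h4, if_false, iff_true]
      exact ⟨⟨Units.mk0 _ (div_ne_zero h4 h3), 0⟩, div_mul_cancel₀ _ h3⟩
  · rw [if_pos h1, if_neg h2]
    refine iff_of_false (fun h => h2 (h.1 ▸ h1)) ?_
    split_ifs
    · exact fun h => h2 (Units.ext h.symm)
    · exact y.a.ne_zero.symm
  · rw [if_neg h1, if_pos h2]
    refine iff_of_false (fun h => h1 (h.1.trans h2)) ?_
    split_ifs
    · exact fun h => h1 (Units.ext h)
    · exact x.a.ne_zero
  · rw [if_neg h1, if_neg h2, Units.val_inj, and_iff_left_iff_imp]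
    have h3 : (1 : ZMod p) - y.a ≠ 0 := fun h => h2 (Units.ext (sub_eq_zero.1 h).symm)
    refine fun _ => ⟨⟨1, (y.b - x.b) / (1 - y.a)⟩, ?_⟩
    simp only [Units.val_one]
    field_simp
    ring

theorem cl_surj [Fact p.Prime] : Function.Surjective (cl : Aff p → ZMod p) := fun c => by
  by_cases h0 : c = 0
  · exact ⟨⟨1, 1⟩, by simp [cl, h0]⟩
  by_cases h1 : c = 1
  · exact ⟨1, by simp [cl, h1, one_a, one_b]⟩
  · exact ⟨⟨Units.mk0 c h0, 0⟩, if_neg fun h => h1 (congrArg Units.val h)⟩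

end Aff

/-- **the affine group of the line has `p` characters** -/
theorem k0_aff [hp : Fact p.Prime] : k0 p (Aff p) = p := by
  refine (k0_abelian (Aff.lin (p := p)).ker (fun a ha b hb => ?_) ?_).trans ?_
  rotate_left 2
  · refine Eq.trans (Nat.card_eq_of_bijective (Quotient.lift Aff.cl fun a b h => (Aff.conj_iff a b).1 h) ⟨?_, ?_⟩)
      (Nat.card_zmod p)
    · rintro ⟨a⟩ ⟨b⟩ h
      exact Quotient.sound ((Aff.conj_iff a b).2 h)
    · exact fun c => (Aff.cl_surj c).elim fun a h => ⟨Quotient.mk _ a, h⟩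
  · have h1 : a.a = 1 := ha
    have h2 : b.a = 1 := hb
    exact Aff.ext (mul_comm _ _) (by simp only [Aff.mul_b, h1, h2, Units.val_one]; ring)
  · rw [index_ker, MonoidHom.range_eq_top.2 fun u => ⟨⟨u, 0⟩, rfl⟩, card_top, Nat.card_eq_fintype_card, ZMod.card_units]
    have := hp.out.two_le
    exact Nat.not_dvd_of_pos_of_lt (by omega) (by omega)

/-! ### subgroups of prime index -/

theorem nd_iff_of_eq [Fact p.Prime] {K : Type} [Group K] {χ : G → ℂ} {θ : K → ℂ} {c : ℕ} (hθ : IsIrrCharacter K θ)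
    (h : χ 1 = c * θ 1) : ¬ p ∣ charDegree χ ↔ ¬ p ∣ c ∧ ¬ p ∣ charDegree θ := by
  rw [apply_one (isIrr_isCharacter hθ), ← Nat.cast_mul] at h
  rw [charDegree_of h, nd_mul]

theorem k0_prime_index' [Finite G] [Fact p.Prime] {L : Subgroup G} [L.Normal] {r : ℕ} (hr : r.Prime) (ho : ¬ p ∣ r)
    (hi : L.index = r) {g : G} (hg : g ∉ L) :
    r * k0 p G + f0 p (MulAut.conjNormal g : MulAut L) = r ^ 2 * f0 p (MulAut.conjNormal g : MulAut L) + k0 p L := by
  classical
  let I : (L → ℂ) → Prop := fun θ => ∀ x, θ (MulAut.conjNormal g x) = θ x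
  let J : (G → ℂ) → Prop := fun χ => ∃ θ, IsIrrCharacter L θ ∧ _root_.Cfsg.Agent.MK.T.Con L χ θ ∧ I θ
  have hJ : ∀ χ θ, IsIrrCharacter G χ → IsIrrCharacter L θ → _root_.Cfsg.Agent.MK.T.Con L χ θ → (J χ ↔ I θ) := fun χ θ hχ hθ hc => by
    refine ⟨fun ⟨θ', h1, h2, h3⟩ => ?_, fun h1 => ⟨θ, hθ, hc, h1⟩⟩
    have := Fintype.ofFinite G
    have := Fintype.ofFinite L
    obtain ⟨y, rfl⟩ := Clifford.exists_conj_of_constituents L hχ h1 hθ h2 hc
    have h4 : H261.TI.stab L θ' = ⊤ :=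
      ((H261.TI.prime_cases L hr hi h1).resolve_right fun h5 => hg (h5.1 ▸ (h3 : g ∈ H261.TI.stab L θ'))).1
    have h5 : ∀ y : G, ∀ x, θ' (MulAut.conjNormal y x) = θ' x := fun y => (h4 ▸ mem_top y : y ∈ H261.TI.stab L θ')
    intro x
    simp only [Function.comp_apply, h5]
  have h1 := dc (L := L) (c := 1) (A' := fun χ => ¬ p ∣ charDegree χ ∧ J χ)
    (A := fun θ => ¬ p ∣ charDegree θ ∧ I θ) fun χ θ hχ hθ hc => by
      rcases con_cases hr hi hg hχ hθ hc with h2 | h2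
      · refine ⟨?_, fun _ => by rw [h2.2, Nat.cast_one, one_mul]⟩
        rw [charDegree_congr h2.2, hJ χ θ hχ hθ hc]
      · exact ⟨iff_of_false (fun h3 => h2.1 ((hJ χ θ hχ hθ hc).1 h3.2)) fun h3 => h2.1 h3.2,
          fun h3 => absurd h3.2 h2.1⟩
  have h2 := dc (L := L) (c := r) (A' := fun χ => ¬ p ∣ charDegree χ ∧ ¬ J χ)
    (A := fun θ => ¬ p ∣ charDegree θ ∧ ¬ I θ) fun χ θ hχ hθ hc => by
      rcases con_cases hr hi hg hχ hθ hc with h2 | h2
      · exact ⟨iff_of_false (fun h3 => h3.2 ((hJ χ θ hχ hθ hc).2 h2.1)) fun h3 => h3.2 h2.1,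
          fun h3 => absurd h2.1 h3.2⟩
      · refine ⟨?_, fun _ => h2.2⟩
        rw [nd_iff_of_eq hθ h2.2, and_iff_right ho, hJ χ θ hχ hθ hc]
  have sp : ∀ (K : Type) [Group K] [Finite K] (r : (K → ℂ) → Prop), k0 p K =
      Nat.card {χ // IsIrrCharacter K χ ∧ ¬ p ∣ charDegree χ ∧ r χ} +
        Nat.card {χ // IsIrrCharacter K χ ∧ ¬ p ∣ charDegree χ ∧ ¬ r χ} := fun K _ _ r => by
    have := finite_pi' (p := p) (G := K)
    rw [k0, ← Nat.card_congr (Equiv.sumCompl fun χ : {χ // PI p K χ} => r χ.1), Nat.card_sum]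
    congr 1 <;> exact Nat.card_congr ⟨fun χ => ⟨χ.1.1, χ.1.2.1, χ.1.2.2, χ.2⟩,
      fun χ => ⟨⟨χ.1, χ.2.1, χ.2.2.1⟩, χ.2.2.2⟩, fun _ => rfl, fun _ => rfl⟩
  have h3 : f0 p (MulAut.conjNormal g : MulAut L) =
      Nat.card {θ // IsIrrCharacter L θ ∧ ¬ p ∣ charDegree θ ∧ I θ} := by simp only [f0, PI, and_assoc, I]
  rw [one_pow, one_mul, hi] at h1
  rw [hi, pow_two, mul_assoc] at h2
  rw [sp G J, sp L I, h3, h1, ← Nat.eq_of_mul_eq_mul_left hr.pos h2]
  ring

/-- **prime index** -/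
theorem k0_prime_index [Finite G] [Fact p.Prime] (f : H →* G) (hf : Function.Injective f) (hn : f.range.Normal) {r : ℕ}
    (hr : r.Prime) (ho : ¬ p ∣ r) (hi : f.range.index = r) {a : G} (ha : a ∉ f.range) {α : MulAut H}
    (h : ∀ x, f (α x) = a * f x * a⁻¹) : r * k0 p G + f0 p α = r ^ 2 * f0 p α + k0 p H := by
  rw [f0_congr (β := (MulAut.conjNormal a : MulAut f.range)) (MonoidHom.ofInjective hf) fun x => Subtype.ext (h x),
    k0_prime_index' hr ho hi ha, k0_congr (MonoidHom.ofInjective hf)]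

/-- **the automorphism group** -/
theorem k0_aut [Finite G] [Fact p.Prime] (ho : ¬ p ∣ 2) (hZ : center G = ⊥)
    (hi : (MulAut.conj : G →* MulAut G).range.index = 2) {α : MulAut G}
    (hα : α ∉ (MulAut.conj : G →* MulAut G).range) : 2 * k0 p (MulAut G) = 3 * f0 p α + k0 p G := by
  have h := k0_prime_index (p := p) _ (conj_inj hZ) (normal_of_index_eq_two hi) Nat.prime_two ho hi hα (MK.conj_map α)
  omega

/-! ### scalars -/

/-- `f` is a linear form on `Q` on which `t` acts as the primitive root `c`; `π` is the quotient by `Q⟨t⟩` -/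
structure Scal (p : ℕ) {K A : Type} [Group K] [Group A] (π : K →* A) (Q : Subgroup K) (f : K → ZMod p) (t : K)
    (c : ZMod p) : Prop where
  surj : Function.Surjective π
  add : ∀ x ∈ Q, ∀ y ∈ Q, f (x * y) = f x + f y
  one : ∃ q ∈ Q, f q = 1
  act : ∀ q ∈ Q, f (t * q * t⁻¹) = c * f q
  ne : c ≠ 1
  gen : ∀ u : ZMod p, u ≠ 0 → ∃ i : ℕ, u = c ^ i
  cen : ∀ g, g * t * g⁻¹ * t⁻¹ ∈ Q
  kerQ : ∀ q ∈ Q, π q = 1
  kert : π t = 1
  ker : ∀ g, π g = 1 → (∀ q ∈ Q, f (g * q * g⁻¹) = f q) → g ∈ Q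

section scal

variable {K A : Type} [Group K] [Group A] {π : K →* A} {Q : Subgroup K} {f : K → ZMod p} {t : K} {c : ZMod p}

theorem add_zero' (h : ∀ x ∈ Q, ∀ y ∈ Q, f (x * y) = f x + f y) : f 1 = 0 := by
  have h1 := h 1 (one_mem _) 1 (one_mem _)
  rwa [mul_one, left_eq_add] at h1

theorem add_inv' (h : ∀ x ∈ Q, ∀ y ∈ Q, f (x * y) = f x + f y) {x : K} (hx : x ∈ Q) : f x⁻¹ = -f x := by
  rw [eq_neg_iff_add_eq_zero, ← h _ (inv_mem hx) _ hx, inv_mul_cancel, add_zero' h]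

theorem add_pow' (h : ∀ x ∈ Q, ∀ y ∈ Q, f (x * y) = f x + f y) {x : K} (hx : x ∈ Q) (n : ℕ) : f (x ^ n) = n * f x := by
  induction n with
  | zero => rw [pow_zero, add_zero' h, Nat.cast_zero, zero_mul]
  | succ n ih => rw [pow_succ, h _ (pow_mem hx n) _ hx, ih, Nat.cast_succ, add_mul, one_mul]

/-- **a normal `p`-subgroup** -/
theorem k0_scal [Finite K] [hp : Fact p.Prime] [hQ : Q.Normal] (h : Scal p π Q f t c) {P : Subgroup K} [P.Normal]
    (hP : IsPGroup p P) (hU : ∀ q ∈ Q, f q = 0 → q ∈ ⁅P, P⁆)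
    (hn : ∀ g, ∀ q ∈ Q, f q = 0 → f (g * q * g⁻¹) = 0) : k0 p K = p * k0 p A := by
  have : Finite A := Finite.of_surjective π h.surj
  obtain ⟨q₀, h0, h1⟩ := h.one
  have ha : ∀ g, ∀ q ∈ Q, f (g * q * g⁻¹) = f (g * q₀ * g⁻¹) * f q := fun g q hq => by
    have h2 : (q₀ ^ (f q).val)⁻¹ * q ∈ Q := mul_mem (inv_mem (pow_mem h0 _)) hq
    have h3 := hn g _ h2 (by
      rw [h.add _ (inv_mem (pow_mem h0 _)) _ hq, add_inv' h.add (pow_mem h0 _), add_pow' h.add h0, h1,
        ZMod.natCast_zmod_val, mul_one, neg_add_cancel])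
    rw [show g * q * g⁻¹ = (g * q₀ * g⁻¹) ^ (f q).val * (g * ((q₀ ^ (f q).val)⁻¹ * q) * g⁻¹) by rw [conj_pow]; group,
      h.add _ (pow_mem (hQ.conj_mem _ h0 g) _) _ (hQ.conj_mem _ h2 g), h3, add_pow' h.add (hQ.conj_mem _ h0 g),
      ZMod.natCast_zmod_val, add_zero, mul_comm]
  let a₀ : K →* ZMod p :=
    { toFun := fun g => f (g * q₀ * g⁻¹)
      map_one' := by rw [one_mul, inv_one, mul_one, h1]
      map_mul' := fun g k => by
        rw [← ha g _ (hQ.conj_mem _ h0 k)]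
        congr 1
        group }
  let a : K →* (ZMod p)ˣ := a₀.toHomUnits
  have ha' : ∀ g, ∀ q ∈ Q, f (g * q * g⁻¹) = a g * f q := ha
  have hat : (a t : ZMod p) = c := by
    have h2 := ha' t _ h0
    rw [h.act _ h0, h1, mul_one, mul_one] at h2
    exact h2.symm
  have haQ : ∀ q ∈ Q, a q = 1 := fun q hq => Units.ext (by
    have h2 := ha' q _ h0
    rw [h.add _ (mul_mem hq h0) _ (inv_mem hq), h.add _ hq _ h0, add_inv' h.add hq, h1, mul_one] at h2
    rw [← h2, Units.val_one]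
    ring)
  let ψ : K →* Aff p := MonoidHom.mk' (fun g => ⟨a g, f (g * t * g⁻¹ * t⁻¹)⟩) fun g k =>
    Aff.ext (map_mul a g k) (by
      rw [Aff.mul_b, ← ha' g _ (h.cen k), ← h.add _ (hQ.conj_mem _ (h.cen k) g) _ (h.cen g)]
      group)
  have hψ : ∀ q ∈ Q, ψ q = ⟨1, (1 - c) * f q⟩ := fun q hq => Aff.ext (haQ q hq) (by
    change f (q * t * q⁻¹ * t⁻¹) = _
    rw [show q * t * q⁻¹ * t⁻¹ = q * (t * q⁻¹ * t⁻¹) by group, h.add _ hq _ (hQ.conj_mem _ (inv_mem hq) t),
      h.act _ (inv_mem hq), add_inv' h.add hq]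
    ring)
  have hc : (1 : ZMod p) - c ≠ 0 := fun e => h.ne (sub_eq_zero.1 e).symm
  rw [k0_quot hP (ψ.prod π) ?_ fun g hg => ?_, k0_prod, k0_aff]
  · rintro ⟨x, y⟩
    obtain ⟨g, rfl⟩ := h.surj y
    obtain ⟨i, hi⟩ := h.gen ((x.a * (a g)⁻¹ : (ZMod p)ˣ) : ZMod p) (Units.ne_zero _)
    have h2 : a (t ^ i * g) = x.a := by
      rw [map_mul, map_pow, ← eq_mul_inv_iff_mul_eq]
      exact Units.ext (by rw [hi, Units.val_pow_eq_pow_val, hat])
    let q := q₀ ^ ((x.b - (ψ (t ^ i * g)).b) / (1 - c)).val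
    have hq : q ∈ Q := pow_mem h0 _
    refine ⟨q * (t ^ i * g), Prod.ext (Aff.ext ?_ ?_) ?_⟩
    · change a _ = _
      rw [map_mul, haQ q hq, one_mul, h2]
    · change (ψ _).b = _
      rw [map_mul, hψ q hq, Aff.mul_b, add_pow' h.add h0, ZMod.natCast_zmod_val, h1, mul_one, mul_div_cancel₀ _ hc,
        Units.val_one]
      ring
    · change π _ = _
      rw [map_mul, h.kerQ q hq, map_mul, map_pow, h.kert, one_pow, one_mul, one_mul]
  · have h2 : ψ g = 1 := congrArg Prod.fst hg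
    have h3 : g ∈ Q := h.ker g (congrArg Prod.snd hg) fun q hq => by
      rw [ha' g q hq, show a g = 1 from congrArg Aff.a h2, Units.val_one, one_mul]
    rw [hψ g h3] at h2
    exact hU g h3 ((mul_eq_zero.1 (congrArg Aff.b h2)).resolve_left hc)

/-- the data restrict to a subgroup -/
theorem Scal.sub (h : Scal p π Q f t c) {B : Subgroup K} (hQ : Q ≤ B) (ht : t ∈ B) :
    Scal p (π.subgroupMap B) (Q.subgroupOf B) (fun b => f b) ⟨t, ht⟩ c where
  surj := π.subgroupMap_surjective B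
  add _ hx _ hy := h.add _ hx _ hy
  one := h.one.elim fun q hq => ⟨⟨q, hQ hq.1⟩, hq⟩
  act _ hq := h.act _ hq
  ne := h.ne
  gen := h.gen
  cen g := h.cen g
  kerQ _ hq := Subtype.ext (h.kerQ _ hq)
  kert := Subtype.ext h.kert
  ker g h1 h2 := h.ker g (congrArg Subtype.val h1) fun q hq => h2 ⟨q, hQ hq⟩ hq

/-- the form vanishes on `[Q, P]` -/
theorem form_comm [Finite K] [hp : Fact p.Prime] [hQ : Q.Normal] {P : Subgroup K} (hP : IsPGroup p P) (hQP : Q ≤ P)
    (hadd : ∀ x ∈ Q, ∀ y ∈ Q, f (x * y) = f x + f y)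
    (hU : ∀ q ∈ Q, f q = 0 → q ∈ ⁅Q, P⁆) {q : K} (hq : q ∈ ⁅Q, P⁆) : f q = 0 := by
  by_contra h0
  have hqQ : q ∈ Q := commutator_le_left Q P hq
  have h1 : Q ≤ ⁅Q, P⁆ := fun y hy => by
    have h2 := hU ((q ^ (f y / f q).val)⁻¹ * y) (mul_mem (inv_mem (pow_mem hqQ _)) hy) (by
      rw [hadd _ (inv_mem (pow_mem hqQ _)) _ hy, add_inv' hadd (pow_mem hqQ _), add_pow' hadd hqQ,
        ZMod.natCast_zmod_val, div_mul_cancel₀ _ h0, neg_add_cancel])
    exact (mul_mem_cancel_left (inv_mem (pow_mem hq _))).1 h2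
  have h2 : ∀ n, Q ≤ P.lowerCentralSeries n := fun n => by
    induction n with
    | zero => exact hQP
    | succ n ih => exact h1.trans (commutator_mono ih le_rfl)
  obtain ⟨n, hn⟩ := (isNilpotent_iff_lowerCentralSeries P).1 hP.isNilpotent
  exact h0 (by rw [show q = 1 from mem_bot.1 (hn ▸ h2 n hqQ), add_zero' hadd])

/-- **the normaliser of a Sylow subgroup** -/
theorem k0_norm_scal [Finite K] [hp : Fact p.Prime] [hQ : Q.Normal] (h : Scal p π Q f t c) (hpQ : IsPGroup p Q)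
    (P : Sylow p K) (hU : ∀ q ∈ Q, f q = 0 → q ∈ ⁅Q, (P : Subgroup K)⁆) :
    k0 p (normalizer ((P : Subgroup K) : Set K)) =
      p * k0 p (normalizer (((P : Subgroup K).map π : Subgroup A) : Set A)) := by
  have hQP : Q ≤ P := hpQ.le_sylow_of_normal P
  have ht : t ∈ normalizer ((P : Subgroup K) : Set K) := mem_normalizer_fintype fun y hy => by
    have h1 := mul_mem (inv_mem (hQP (h.cen y))) hy
    rwa [show (y * t * y⁻¹ * t⁻¹)⁻¹ * y = t * y * t⁻¹ by group] at h1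
  rw [← map_normalizer π h.surj P]
  refine k0_scal (h.sub (hQP.trans le_normalizer) ht) (P := (P : Subgroup K).subgroupOf _)
    (P.isPGroup'.of_equiv (subgroupOfEquivOfLe le_normalizer).symm) (fun q hq h0 => ?_) fun g q hq h0 => ?_
  · have h1 : ⁅Q, (P : Subgroup K)⁆ ≤ (⁅(P : Subgroup K).subgroupOf (normalizer ((P : Subgroup K) : Set K)),
        (P : Subgroup K).subgroupOf (normalizer ((P : Subgroup K) : Set K))⁆).map (Subgroup.subtype _) :=
      commutator_le.2 fun a ha b hb => ⟨⁅(⟨a, le_normalizer (hQP ha)⟩ : normalizer ((P : Subgroup K) : Set K)),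
        ⟨b, le_normalizer hb⟩⁆, commutator_mem_commutator (hQP ha) hb, rfl⟩
    obtain ⟨y, h2, h3⟩ := h1 (hU _ hq h0)
    rwa [← show y = q from Subtype.ext h3]
  · refine form_comm P.isPGroup' hQP h.add hU ?_
    have h1 : ⁅Q, (P : Subgroup K)⁆ ≤ (⁅Q, (P : Subgroup K)⁆).comap (MulAut.conj (g : K)).toMonoidHom :=
      commutator_le.2 fun a ha b hb => by
        rw [mem_comap, map_commutatorElement]
        exact commutator_mem_commutator (hQ.conj_mem _ ha g) ((mem_normalizer_iff.1 g.2 b).1 hb)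
    exact h1 (hU _ hq h0)

/-- **the count for the whole group** -/
theorem _root_.Cfsg.Agent.MO.IH.k0_scal [Finite K] [hp : Fact p.Prime] [hQ : Q.Normal] {n : ℕ} (ih : IH p n)
    (hK : Nat.card K < n) (h : Scal p π Q f t c) (hpQ : IsPGroup p Q) (P : Sylow p K)
    (hU : ∀ q ∈ Q, f q = 0 → q ∈ ⁅Q, (P : Subgroup K)⁆) : k0 p K = p * k0 p A := by
  have : Finite A := Finite.of_surjective π h.surj
  rw [ih.m0 hK P, k0_norm_scal h hpQ P hU,
    ih.m0 ((Nat.card_le_card_of_surjective π h.surj).trans_lt hK) (P.mapSurjective h.surj)]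
  rfl

end scal

end Cfsg.Agent.MO.S.M35
end

-- part: MO/S/Mat/Eng
section
/-!
# MO, the Mathieu groups for `p = 3`: lists of elements of `M24` (helper93)

* `ky S c` : the images of the points `S`; `cls_count` : the number of the classes of a quotient from a transversal;
* `k0_loc` : the count for the normaliser of a Sylow subgroup; `card_le_cent` : the upper bound;
* `Gp gl`, `lst gl sp`, `mem_Gp` : the group generated by `gl` as a list; `dodecad`.
-/

set_option autoImplicit false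

namespace Cfsg.Agent.MO.S.Mat

open Cfsg Subgroup Cfsg.Agent.MO.T Cfsg.Agent.TAB.Eng
open Cfsg.Agent.SporadicA.GolayBase Cfsg.Agent.SporadicA.GolayPerm Cfsg.Agent.SporadicStructure.M24El
open scoped Pointwise commutatorElement

/-- the images of the points `S` -/
def ky (S : List ℕ) (c : ℕ) : List ℕ := S.map (papp c)

/-- the same for an element -/
noncomputable def kg (S : List ℕ) (g : M24) : List ℕ := S.map fun i => idx (g • pt i)

variable {S : List ℕ}

theorem kg_el (hS : ∀ i ∈ S, i < 24) {c : ℕ} (h : ok c = true) : kg S (el c) = ky S c :=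
  List.map_congr_left fun i hi => by rw [idx_el_smul h, idx_pt (hS i hi)]

theorem kg_el_mul (hS : ∀ i ∈ S, i < 24) {a b : ℕ} (ha : ok a = true) (hb : ok b = true) :
    kg S (el a * el b) = (ky S b).map (papp a) := by
  rw [ky, List.map_map]
  exact List.map_congr_left fun i hi => by rw [mul_smul, idx_el_smul ha, idx_el_smul hb, idx_pt (hS i hi)]; rfl

variable {G : Type} [Group G] (φ : G →* M24)

/-- the pointwise stabiliser -/
def Fx (S : List ℕ) : Subgroup G where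
  carrier := {g | ∀ i ∈ S, φ g • pt i = pt i}
  one_mem' _ _ := by rw [map_one, one_smul]
  mul_mem' ha hb i hi := by rw [map_mul, mul_smul, hb i hi, ha i hi]
  inv_mem' ha i hi := by rw [map_inv, inv_smul_eq_iff, ha i hi]

variable {φ}

theorem kg_iff {g h : G} : kg S (φ g) = kg S (φ h) ↔ g⁻¹ * h ∈ Fx φ S :=
  List.map_inj_left.trans (forall₂_congr fun i _ => by
    rw [idx_injective.eq_iff, map_mul, map_inv, mul_smul, inv_smul_eq_iff, eq_comm])

/-- `a` and `b` commute on `S` -/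
def cm (S : List ℕ) (a b : ℕ) : Bool := (ky S b).map (papp a) == (ky S a).map (papp b)

/-- the number of the commuting pairs -/
def cmt (S T : List ℕ) : ℕ := (T.map fun a => (T.map fun b => if cm S a b then 1 else 0).sum).sum

seal _root_.Cfsg.Agent.MO.S.Mat.ky _root_.Nat.mod _root_.Cfsg.Agent.SporadicA.GolayPerm.papp in
/-- **the number of the classes of `G / D`** -/
theorem cls_count [Finite G] {D : Subgroup G} [D.Normal] (hS : ∀ i ∈ S, i < 24) (hD : D ≤ Fx φ S) {T : List ℕ}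
    (hT : ∀ t ∈ T, ok t = true ∧ ∃ g, φ g = el t) (hn : (T.map (ky S)).Nodup) (hi : D.index ≤ T.length) :
    D.index = T.length ∧ Nat.card (ConjClasses (G ⧸ D)) * T.length = cmt S T := by
  classical
  have h0 := fun i : Fin T.length => (hT _ (List.getElem_mem i.2)).1
  choose x hx using fun i : Fin T.length => (hT _ (List.getElem_mem i.2)).2
  have k1 : ∀ x y : G, (x : G ⧸ D) = y → kg S (φ x) = kg S (φ y) := fun x y e => kg_iff.2 (hD (QuotientGroup.eq.1 e))
  have k2 : ∀ i j : Fin T.length, kg S (φ (x i)) = kg S (φ (x j)) → i = j := fun i j e => by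
    rw [hx, hx, kg_el hS (h0 i), kg_el hS (h0 j)] at e
    exact Fin.ext ((List.Nodup.getElem_inj_iff hn (hi := by simp) (hj := by simp)).1
      (by simpa using e))
  have h1 : Function.Injective fun i => (x i : G ⧸ D) := fun i j e => k2 i j (k1 _ _ e)
  have h2 : T.length = Nat.card (G ⧸ D) := le_antisymm (by simpa only [_root_.Nat.card_eq_fintype_card, _root_.Fintype.card_fin] using Nat.card_le_card_of_injective _ h1) hi
  have h3 : Function.Bijective fun i => (x i : G ⧸ D) :=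
    (Nat.bijective_iff_injective_and_card _).2 ⟨h1, by simpa only [_root_.Nat.card_eq_fintype_card, _root_.Fintype.card_fin] using h2⟩
  have k3 : ∀ a b : G, kg S (φ a) = kg S (φ b) → (a : G ⧸ D) = b := fun a b e => by
    obtain ⟨i, h4⟩ := h3.2 a
    obtain ⟨j, h5⟩ := h3.2 b
    rw [← h4, ← h5, k2 i j ((k1 _ _ h4).trans (e.trans (k1 _ _ h5).symm))]
  refine ⟨h2.symm, ?_⟩
  have k4 : ∀ i j, Commute (x i : G ⧸ D) (x j) ↔ cm S T[i.1] T[j.1] = true := fun i j => by
    rw [cm, beq_iff_eq, ← kg_el_mul hS (h0 i) (h0 j), ← kg_el_mul hS (h0 j) (h0 i), ← hx, ← hx, ← map_mul, ← map_mul]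
    exact ⟨fun e => k1 _ _ e, fun e => k3 _ _ e⟩
  rw [h2, ← card_comm_eq_card_conjClasses_mul_card, ← Nat.card_congr (Equiv.subtypeEquiv
    (p := fun q => cm S T[q.1.1] T[q.2.1] = true)
    ((Equiv.ofBijective _ h3).prodCongr (Equiv.ofBijective _ h3)) fun q => (k4 q.1 q.2).symm),
    Nat.card_eq_fintype_card, Fintype.card_subtype, Finset.card_filter, Fintype.sum_prod_type, cmt,
    ← Fin.sum_univ_fun_getElem]
  exact Finset.sum_congr rfl fun i _ => Fin.sum_univ_fun_getElem T fun b => if cm S T[i.1] b then 1 else 0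

/-- **the count for the normaliser of a Sylow subgroup** -/
theorem k0_loc {p : ℕ} [Fact p.Prime] [Finite G] (Q : Sylow p G) (hS : ∀ i ∈ S, i < 24)
    (hD : ∀ a ∈ (Q : Subgroup G), ∀ b ∈ (Q : Subgroup G), kg S (φ a * φ b) = kg S (φ b * φ a)) {T : List ℕ}
    (hT : ∀ t ∈ T, ok t = true ∧ ∃ g ∈ normalizer ((Q : Subgroup G) : Set G), φ g = el t) (hn : (T.map (ky S)).Nodup)
    {d : ℕ} (h0 : 0 < d) (hd : d ≤ Nat.card (⁅(Q : Subgroup G), (Q : Subgroup G)⁆ : Subgroup G))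
    (hN : Nat.card (normalizer ((Q : Subgroup G) : Set G)) ≤ T.length * d) :
    Nat.card (normalizer ((Q : Subgroup G) : Set G)) = T.length * d ∧
      k0 p (normalizer ((Q : Subgroup G) : Set G)) * T.length = cmt S T := by
  set N := normalizer ((Q : Subgroup G) : Set G)
  let P := (Q : Subgroup G).subgroupOf N
  have hP : P.Normal := normal_in_normalizer
  have h1 : d ≤ Nat.card (⁅P, P⁆ : Subgroup N) := by
    rwa [← card_map_of_injective N.subtype_injective, map_commutator, subgroupOf_map_subtype,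
      inf_eq_left.2 le_normalizer]
  have h2 := (⁅P, P⁆ : Subgroup N).index_mul_card
  obtain ⟨h3, h4⟩ := cls_count (φ := φ.comp N.subtype) (D := ⁅P, P⁆) hS (commutator_le.2 fun a ha b hb => by
      have h3 := kg_iff.1 (((congrArg _ (map_mul φ _ _)).trans (hD _ (inv_mem hb) _ (inv_mem ha))).trans
        (congrArg _ (map_mul φ _ _)).symm)
      rw [mul_inv_rev, inv_inv, inv_inv, ← mul_assoc] at h3
      exact h3) (fun t ht => ⟨(hT t ht).1, (hT t ht).2.elim fun g hg => ⟨⟨g, hg.1⟩, hg.2⟩⟩) hn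
    (Nat.le_of_mul_le_mul_right (((Nat.mul_le_mul_left _ h1).trans h2.le).trans hN) h0)
  refine ⟨le_antisymm hN (by rw [← h2, h3]; exact Nat.mul_le_mul_left _ h1), ?_⟩
  have h5 : (P.map (QuotientGroup.mk' ⁅P, P⁆)).Normal := hP.map _ (QuotientGroup.mk'_surjective _)
  rw [← h4, M35.k0_quot (P := P) (Q.subtype le_normalizer).isPGroup' _ (QuotientGroup.mk'_surjective ⁅P, P⁆)
    (QuotientGroup.ker_mk' _).le, k0_abelian (P.map (QuotientGroup.mk' ⁅P, P⁆))]
  · rintro _ ⟨a, ha, rfl⟩ _ ⟨b, hb, rfl⟩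
    rw [← commutatorElement_eq_one_iff_mul_comm, ← map_commutatorElement]
    exact (QuotientGroup.eq_one_iff _).2 (commutator_mem_commutator ha hb)
  · exact fun h => (Q.subtype le_normalizer).not_dvd_index
      (h.trans (index_map_dvd P (QuotientGroup.mk'_surjective _)))

/-- **the upper bound** -/
theorem card_le_cent [Finite G] (hφ : Function.Injective φ) (N : Subgroup G) (x : G) {L : List ℕ}
    (h : ∀ g ∈ N, ∃ c ∈ L, φ (g * x * g⁻¹) = el c) :
    Nat.card N ≤ L.length * Nat.card (centralizer ({x} : Set G) ⊓ N : Subgroup G) := by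
  have h0 : Nat.card ((centralizer ({x} : Set G)).subgroupOf N) =
      Nat.card (centralizer ({x} : Set G) ⊓ N : Subgroup G) := by
    rw [← card_map_of_injective N.subtype_injective, subgroupOf_map_subtype]
  rw [← ((centralizer ({x} : Set G)).subgroupOf N).index_mul_card, h0]
  refine Nat.mul_le_mul_right _ ?_
  have h1 : ∀ g : N, ∃ i : Fin L.length, φ (g * x * (g : G)⁻¹) = el L[i.1] := fun g => by
    obtain ⟨c, hc, e⟩ := h g g.2
    obtain ⟨i, hi, rfl⟩ := List.getElem_of_mem hc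
    exact ⟨⟨i, hi⟩, e⟩
  choose f hf using h1
  refine (Nat.card_le_card_of_injective (fun q : N ⧸ (centralizer ({x} : Set G)).subgroupOf N => f q.out) fun a b e => ?_).trans (Nat.card_fin _).le
  rw [← a.out_eq, ← b.out_eq]
  refine QuotientGroup.eq.2 (mem_centralizer_singleton_iff.2 ?_)
  have h2 := hφ ((hf a.out).trans ((congrArg (fun i : Fin L.length => el L[i.1]) e).trans (hf b.out).symm))
  change (a.out : G)⁻¹ * b.out * x = x * ((a.out : G)⁻¹ * b.out)
  calc _ = (a.out : G)⁻¹ * (b.out * x * (b.out : G)⁻¹) * b.out := by group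
    _ = _ := by rw [← h2]; group

theorem mem_norm_comap {P : Subgroup M24} (h : P ≤ φ.range) (g : G) :
    g ∈ normalizer ((P.comap φ : Subgroup G) : Set G) ↔ φ g ∈ normalizer (P : Set M24) := by
  refine ⟨fun hg => ?_, fun hg => le_normalizer_comap φ hg⟩
  rw [← map_comap_eq_self h]
  exact le_normalizer_map φ (mem_map_of_mem φ hg)

/-! ### lists -/

/-- the group generated by a list -/
def Gp (gl : List ℕ) : Subgroup M24 := _root_.Subgroup.closure {g | ∃ s ∈ gl, g = el s}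

/-- the words `g₁ ^ i₁ * g₂ ^ i₂ * ⋯` -/
def wds (sp : List (ℕ × ℕ)) : List (List ℕ) :=
  sp.foldr (fun q r => (List.range q.2).flatMap fun i => r.map (List.replicate i q.1 ++ ·)) [[]]

/-- the elements -/
def lst (gl : List ℕ) (sp : List (ℕ × ℕ)) : List ℕ := (wds sp).map (prodW gl)

theorem lst_mem {gl : List ℕ} (h : ∀ s ∈ gl, ok s = true) {K : Subgroup M24} (hK : ∀ s ∈ gl, el s ∈ K)
    {sp : List (ℕ × ℕ)} {c : ℕ} (hc : c ∈ lst gl sp) : ok c = true ∧ el c ∈ K := by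
  obtain ⟨w, -, rfl⟩ := List.mem_map.1 hc
  refine ⟨ok_prodW h w, el_prodW_mem h fun j _ => ?_⟩
  by_cases hj : j < gl.length
  · rw [List.getD_eq_getElem _ _ hj]
    exact hK _ (List.getElem_mem hj)
  · rw [List.getD_eq_default _ _ (by omega), el_idP]
    exact one_mem _

/-- the list is closed -/
noncomputable def Cl (gl : List ℕ) (sp : List (ℕ × ℕ)) : Bool :=
  gl.all ok && frcL (lst gl sp) fun L => L.contains idP && gl.all fun s => L.all fun c => L.contains (pcomp s c)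

variable [Finite M24] {gl : List ℕ} {sp : List (ℕ × ℕ)}

omit [Finite M24] in
theorem ok_of_Cl (h : Cl gl sp = true) : ∀ s ∈ gl, ok s = true := List.all_eq_true.1 (Bool.and_eq_true_iff.1 h).1

omit [Finite M24] in
theorem el_mem_Gp (h : Cl gl sp = true) {c : ℕ} (hc : c ∈ lst gl sp) : ok c = true ∧ el c ∈ Gp gl :=
  lst_mem (ok_of_Cl h) (fun s hs => Subgroup.subset_closure (k := {g | ∃ s ∈ gl, g = el s}) ⟨s, hs, rfl⟩) hc

theorem mem_Gp (h : Cl gl sp = true) {g : M24} (hg : g ∈ Gp gl) : ∃ c ∈ lst gl sp, g = el c := by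
  have h0 := h
  rw [Cl, frcL_eq] at h
  simp only [Bool.and_eq_true, List.all_eq_true, List.contains_iff_mem] at h
  replace hg : g ∈ Submonoid.closure {g | ∃ s ∈ gl, g = el s} := closure_toSubmonoid_of_finite.le hg
  induction hg using Submonoid.closure_induction_left with
  | one => exact ⟨idP, h.2.1, el_idP.symm⟩
  | mul_left x hx y _ ih =>
    obtain ⟨s, hs, rfl⟩ := hx
    obtain ⟨c, hc, rfl⟩ := ih
    exact ⟨_, h.2.2 s hs c hc, (el_pcomp (h.1 s hs) (el_mem_Gp h0 hc).1).symm⟩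

theorem card_Gp (h : Cl gl sp = true) (hS : ∀ i ∈ S, i < 24) (hn : ((lst gl sp).map (ky S)).Nodup) :
    Nat.card (Gp gl) = (lst gl sp).length := by
  refine (Nat.card_fin _).symm.trans (Nat.card_eq_of_bijective
    (fun i : Fin (lst gl sp).length => (⟨_, (el_mem_Gp h (List.getElem_mem i.2)).2⟩ : Gp gl)) ⟨fun i j e => ?_, ?_⟩) |>.symm
  · have h1 := congrArg (fun g : Gp gl => kg S g) e
    simp only [kg_el hS (el_mem_Gp h (List.getElem_mem _)).1] at h1
    exact Fin.ext ((List.Nodup.getElem_inj_iff hn (hi := by simp) (hj := by simp)).1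
      (by simpa using h1))
  · rintro ⟨g, hg⟩
    obtain ⟨c, hc, rfl⟩ := mem_Gp h hg
    obtain ⟨i, hi, rfl⟩ := List.getElem_of_mem hc
    exact ⟨⟨i, hi⟩, rfl⟩

/-- the elements of `nl` normalise the group -/
noncomputable def Nr (gl : List ℕ) (sp : List (ℕ × ℕ)) (nl : List ℕ) : Bool :=
  frcL (lst gl sp) fun L => nl.all fun s => ok s && frcL (L.map (pcomp · s)) fun M => L.all fun c => M.contains (pcomp s c)

theorem mem_norm (h : Cl gl sp = true) {nl : List ℕ} (hn : Nr gl sp nl = true) {s : ℕ} (hs : s ∈ nl) :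
    ok s = true ∧ el s ∈ normalizer (Gp gl : Set M24) := by
  rw [Nr, frcL_eq] at hn
  simp only [frcL_eq, Bool.and_eq_true, List.all_eq_true, List.contains_iff_mem, List.mem_map] at hn
  refine ⟨(hn s hs).1, mem_normalizer_fintype fun g hg => ?_⟩
  obtain ⟨c, hc, rfl⟩ := mem_Gp h hg
  obtain ⟨d, hd, e⟩ := (hn s hs).2 c hc
  rw [← el_pcomp (hn s hs).1 (el_mem_Gp h hc).1, ← e, el_pcomp (el_mem_Gp h hd).1 (hn s hs).1, mul_inv_cancel_right]
  exact (el_mem_Gp h hd).2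

theorem kg_comm (h : Cl gl sp = true) (hS : ∀ i ∈ S, i < 24)
    (hc : frcL (lst gl sp) (fun L => L.all fun a => L.all fun b => cm S a b) = true) {a b : M24} (ha : a ∈ Gp gl)
    (hb : b ∈ Gp gl) : kg S (a * b) = kg S (b * a) := by
  obtain ⟨c, h1, rfl⟩ := mem_Gp h ha
  obtain ⟨d, h2, rfl⟩ := mem_Gp h hb
  rw [frcL_eq] at hc
  rw [kg_el_mul hS (el_mem_Gp h h1).1 (el_mem_Gp h h2).1, kg_el_mul hS (el_mem_Gp h h2).1 (el_mem_Gp h h1).1]
  exact beq_iff_eq.1 (List.all_eq_true.1 (List.all_eq_true.1 hc c h1) d h2)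

omit [Finite M24] in
/-- the Sylow subgroup -/
theorem exists_sylow {p a m : ℕ} [Fact p.Prime] [Finite G] (hφ : Function.Injective φ) {P : Subgroup M24}
    (h : P ≤ φ.range) (hP : Nat.card P = p ^ a) (hG : Nat.card G = p ^ a * m) (hm : ¬ p ∣ m) :
    ∃ Q : Sylow p G, (Q : Subgroup G) = P.comap φ := by
  have h1 : Nat.card (P.comap φ) = p ^ a := by
    rw [← card_map_of_injective hφ, map_comap_eq_self h, hP]
  have h2 := (P.comap φ).card_mul_index
  rw [h1, hG, Nat.mul_right_inj (pow_ne_zero _ (Fact.out : p.Prime).ne_zero)] at h2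
  exact ⟨(IsPGroup.of_card h1).toSylow (h2 ▸ hm), rfl⟩

omit [Finite M24] in
/-- the dodecads which are fixed by two elements -/
theorem dodecad {a b : ℕ} (h : (ok a && ok b && (TAB.Sm2.cwL 12 0 0).all fun m =>
      m == 340831 || m == 16436384 || pimg a m != m || pimg b m != m) = true) {g : M24}
    (ha : (g⁻¹ * el a * g) • fin 340831 = fin 340831) (hb : (g⁻¹ * el b * g) • fin 340831 = fin 340831) :
    g • fin 340831 = fin 340831 ∨ g • fin 340831 = fin 16436384 := by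
  simp only [Bool.and_eq_true, List.all_eq_true, Bool.or_eq_true, beq_iff_eq, bne_iff_ne] at h
  have h1 := (TAB.Sm2.inv_cwL (φ := MonoidHom.id M24) (w := 12) (S := 0) (k := 0) fun g => by
    rw [show fin 0 = ∅ by decide +kernel, Finset.smul_finset_empty]).mem g (fin 340831)
      (by rw [maskOf_fin (by norm_num), TAB.Sm2.mem_cwL]; decide +kernel)
  have k : ∀ c, ok c = true → (g⁻¹ * el c * g) • fin 340831 = fin 340831 →
      pimg c (maskOf (g • fin 340831)) = maskOf (g • fin 340831) := fun c hc e => by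
    rw [mul_smul, mul_smul, inv_smul_eq_iff, ← fin_maskOf (g • fin 340831), el_smul_fin hc] at e
    exact _root_.Cfsg.Agent.SporadicA.GolayBase.fin_injective (pimg_lt (ok_iff.1 hc).1 _) (maskOf_lt _) e
  rcases h.2 _ h1 with ((e | e) | e) | e
  · exact Or.inl ((fin_maskOf _).symm.trans (congrArg fin e))
  · exact Or.inr ((fin_maskOf _).symm.trans (congrArg fin e))
  · exact absurd (k a h.1.1 ha) e
  · exact absurd (k b h.1.2 hb) e

end Cfsg.Agent.MO.S.Mat
end

-- part: MK/T/E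
section
/-!
# MK, tools for the small rows: column bounds (helper11)

* `kk_le_cent`, `k0_le_cent`, `kk_le_cent'` : bounds by the centraliser of a `2`-element.
-/

set_option autoImplicit false

namespace Cfsg.Agent.MK.T

open Cfsg Subgroup Cfsg.Agent.Characters Cfsg.Agent.Characters.Core
open scoped ComplexConjugate Classical

variable {G S : Type} [Group G] [Group S]

/-- column orthogonality over a central character -/
theorem col_over [Fintype G] [Fintype (IrrCharacter G)] {Z : Subgroup G} (hZ : Z ≤ center G) (m : Z →* ℂˣ) (g h : G) :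
    (Nat.card Z : ℂ) * ∑ χ : IrrCharacter G with ∀ z : Z, χ.1 z = (m z : ℂ) * χ.1 1, χ.1 g * conj (χ.1 h) =
      ∑ z : Z, ((m z)⁻¹ : ℂˣ) * if IsConj (g * z) h then (Nat.card (centralizer ({h} : Set G)) : ℂ) else 0 := by
  simp_rw [← S0145.sum_irr_mul_conj, Finset.mul_sum]
  rw [Finset.sum_comm, Finset.sum_filter]
  refine Finset.sum_congr rfl fun χ _ => ?_
  obtain ⟨c, hc, -⟩ := CharactersDeep.Extraspecial.exists_central_hom χ.2
  let f : Z →* ℂ := (Units.coeHom ℂ).comp (m⁻¹ * c.comp (inclusion hZ))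
  have h1 : ∀ z : Z, (((m z)⁻¹ : ℂˣ) : ℂ) * (χ.1 (g * z) * conj (χ.1 h)) = f z * (χ.1 g * conj (χ.1 h)) := fun z => by
    rw [show χ.1 (g * z) = _ from hc g (inclusion hZ z)]
    change _ = (((m z)⁻¹ * c (inclusion hZ z) : ℂˣ) : ℂ) * _
    rw [Units.val_mul]
    ring
  have h2 : (∀ z : Z, χ.1 z = (m z : ℂ) * χ.1 1) ↔ f = 1 := by
    rw [MonoidHom.ext_iff]
    refine forall_congr' fun z => ?_
    have h3 : χ.1 z = χ.1 1 * c (inclusion hZ z) := by
      rw [← hc 1, one_mul]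
      rfl
    change _ ↔ (((m z)⁻¹ * c (inclusion hZ z) : ℂˣ) : ℂ) = 1
    rw [h3, mul_comm, mul_left_inj' (isIrr_apply_one_ne_zero χ.2), Units.val_eq_one, inv_mul_eq_one, Units.val_inj, eq_comm]
  rw [Finset.sum_congr rfl fun z _ => h1 z, ← Finset.sum_mul, sum_hom_units, Nat.card_eq_fintype_card]
  by_cases h3 : f = 1
  · rw [if_pos h3, if_pos (h2.2 h3)]
  · rw [if_neg h3, if_neg (mt h2.1 h3), Nat.cast_zero, zero_mul]

/-- **the column bound** -/
theorem kk_le_cent [Finite G] {Z : Subgroup G} (hZ : Z ≤ center G) (ho : Odd (Nat.card Z)) {u : G} {j : ℕ}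
    (hu : u ^ 2 ^ j = 1) (l : G → ℂ) : Nat.card Z * kk ⊤ Z l ≤ Nat.card (centralizer ({u} : Set G)) := by
  have := two_prime
  by_cases hm : ∃ m : Z →* ℂˣ, ∀ z : Z, l z = m z
  swap
  · rw [kk_eq_zero le_top (fun z hz x _ => mem_center_iff.1 (hZ hz) x) hm]
    exact Nat.zero_le _
  obtain ⟨m, hm⟩ := hm
  have := Fintype.ofFinite G
  have := finite_irr (G := G)
  have := Fintype.ofFinite (IrrCharacter G)
  let A : Finset (IrrCharacter G) := {χ | Odd (charDegree χ.1) ∧ ∀ z : Z, χ.1 z = (m z : ℂ) * χ.1 1}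
  let X : Finset G := {g | zpowers g = zpowers u}
  have hA : kk ⊤ Z l = A.card := by
    rw [kk_top, ← Fintype.card_coe, ← Nat.card_eq_fintype_card]
    exact Nat.card_congr
      { toFun := fun χ => ⟨⟨χ.1, χ.2.1.1⟩, Finset.mem_filter.2 ⟨Finset.mem_univ _, χ.2.1.2, fun z => hm z ▸ χ.2.2 z z.2⟩⟩
        invFun := fun χ => ⟨χ.1.1, ⟨χ.1.2, (Finset.mem_filter.1 χ.2).2.1⟩, fun z hz =>
          (hm ⟨z, hz⟩).symm ▸ (Finset.mem_filter.1 χ.2).2.2 ⟨z, hz⟩⟩
        left_inv := fun _ => rfl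
        right_inv := fun _ => rfl }
  have hX : ∀ g ∈ X, g ^ 2 ^ j = 1 := fun g hg => by
    obtain ⟨k, rfl⟩ : g ∈ zpowers u := (Finset.mem_filter.1 hg).2 ▸ mem_zpowers g
    beta_reduce
    rw [← zpow_natCast, ← zpow_mul, mul_comm, zpow_mul, zpow_natCast, hu, one_zpow]
  have h1 : ∀ χ ∈ A, (X.card : ℝ) ≤ ∑ g ∈ X, ‖χ.1 g‖ ^ 2 := fun χ hχ => by
    have h2 := OddOrderCharacters.PF13.SumBound.card_le_sum_sq (Finset.univ : Finset Unit) (fun _ => χ.1)
      (fun _ _ => OddOrderCharacters.VChar.gen_of_char (isIrr_isCharacter χ.2)) X (fun g hg k hk => by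
        rw [Finset.mem_filter] at hg ⊢
        refine ⟨Finset.mem_univ _, hg.2 ▸ le_antisymm (zpowers_le.2 (pow_mem (mem_zpowers g) k)) (zpowers_le.2 ?_)⟩
        exact mem_zpowers_pow_iff.2 (hk.coprime_dvd_right (_root_.orderOf_dvd_natCard g))) fun g hg => ⟨(), Finset.mem_univ _,
      fun e => (Finset.mem_filter.1 hχ).2.1.not_two_dvd_nat (S4558.result 2 χ.1 (isIrr_isCharacter χ.2) g
        (((Nat.dvd_prime_pow Nat.prime_two).1 (orderOf_dvd_of_pow_eq_one (hX g hg))).imp fun _ h => h.2) e)⟩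
    simpa only [_root_.ge_iff_le, _root_.Finset.univ_unique, _root_.PUnit.default_eq_unit, _root_.Finset.sum_const, _root_.Finset.card_singleton, _root_.one_smul] using h2
  have h2 : ∀ g ∈ X, (Nat.card Z : ℝ) * ∑ χ ∈ A, ‖χ.1 g‖ ^ 2 ≤ Nat.card (centralizer ({u} : Set G)) := fun g hg => by
    have h3 := col_over hZ m g g
    rw [Finset.sum_eq_single 1 (fun z _ hz => ?_) (fun h => absurd (Finset.mem_univ _) h), map_one, inv_one, Units.val_one,
      one_mul, OneMemClass.coe_one, mul_one, if_pos (IsConj.refl g), ← centralizer_closure, ← zpowers_eq_closure,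
      (Finset.mem_filter.1 hg).2, zpowers_eq_closure, centralizer_closure] at h3
    · simp_rw [Complex.mul_conj, Complex.normSq_eq_norm_sq] at h3
      have h4 : (Nat.card Z : ℝ) * ∑ χ : IrrCharacter G with ∀ z : Z, χ.1 z = (m z : ℂ) * χ.1 1, ‖χ.1 g‖ ^ 2 =
          Nat.card (centralizer ({u} : Set G)) := by exact_mod_cast h3
      rw [← h4]
      exact mul_le_mul_of_nonneg_left (Finset.sum_le_sum_of_subset_of_nonneg (fun χ hχ => Finset.mem_filter.2
        ⟨Finset.mem_univ _, (Finset.mem_filter.1 hχ).2.2⟩) fun _ _ _ => by positivity) (by positivity)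
    · rw [if_neg fun e => hz ?_, mul_zero]
      obtain ⟨c, hc⟩ := isConj_iff.1 e
      have h4 := hX g hg
      nth_rewrite 1 [← hc] at h4
      rw [conj_pow, conj_eq_one_iff, (show Commute g z from mem_center_iff.1 (hZ z.2) g).mul_pow, hX g hg, one_mul] at h4
      exact orderOf_eq_one_iff.1 (Nat.eq_one_of_dvd_coprimes ((Nat.coprime_two_right.2 ho).pow_right j)
        (_root_.orderOf_dvd_natCard z) (orderOf_dvd_of_pow_eq_one (Subtype.ext h4)))
  have h3 : (X.card : ℝ) * (Nat.card Z * A.card) ≤ X.card * Nat.card (centralizer ({u} : Set G)) := by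
    have h4 := Finset.sum_le_sum h2
    rw [← Finset.mul_sum, Finset.sum_comm, Finset.sum_const, nsmul_eq_mul] at h4
    have h5 := Finset.sum_le_sum h1
    rw [Finset.sum_const, nsmul_eq_mul] at h5
    calc _ = (Nat.card Z : ℝ) * (A.card * X.card) := by ring
      _ ≤ _ := (mul_le_mul_of_nonneg_left h5 (by positivity)).trans h4
  rw [hA]
  exact_mod_cast le_of_mul_le_mul_left h3 (Nat.cast_pos.2 (Finset.card_pos.2 ⟨u, Finset.mem_filter.2 ⟨Finset.mem_univ _, rfl⟩⟩))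

theorem k0_le_cent [Finite G] {u : G} {j : ℕ} (hu : u ^ 2 ^ j = 1) : k0 G ≤ Nat.card (centralizer ({u} : Set G)) := by
  have h := kk_le_cent (Z := ⊥) bot_le (by rw [card_bot]; exact odd_one) hu fun _ => 1
  rwa [card_bot, one_mul, kk_bot _ rfl, k0_congr topEquiv] at h

/-- the column bound for a central extension -/
theorem kk_le_cent' [Finite G] (φ : G →* S) (hφ : Function.Surjective φ) (hZ : φ.ker ≤ center G)
    (ho : Odd (Nat.card φ.ker)) {u : S} {j : ℕ} (hu : u ^ 2 ^ j = 1) (l : G → ℂ) :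
    kk ⊤ φ.ker l ≤ Nat.card (centralizer ({u} : Set S)) := by
  have := two_prime
  have : Finite S := Finite.of_surjective φ hφ
  obtain ⟨T, hT⟩ := exists_sylow_mem ⟨j, hu⟩
  obtain ⟨Q, rfl⟩ := Sylow.mapSurjective_surjective hφ 2 T
  obtain ⟨v, hv, rfl⟩ := hT
  obtain ⟨k, hk⟩ := Q.isPGroup' ⟨v, hv⟩
  refine Nat.le_of_mul_le_mul_left ((kk_le_cent hZ ho (congrArg Subtype.val hk) l).trans ?_) Nat.card_pos
  have h1 : centralizer ({v} : Set G) ≤ (centralizer ({φ v} : Set S)).comap φ := fun x hx => by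
    rw [mem_comap, mem_centralizer_singleton_iff, ← map_mul, ← map_mul, mem_centralizer_singleton_iff.1 hx]
  refine (card_le_of_le h1).trans (le_of_eq ?_)
  refine Nat.eq_of_mul_eq_mul_right (Nat.pos_of_ne_zero (FiniteIndex.index_ne_zero (H := centralizer ({φ v} : Set S)))) ?_
  rw [mul_assoc, card_mul_index]
  nth_rewrite 1 [← index_comap_of_surjective _ hφ]
  rw [card_mul_index, ← φ.ker.card_mul_index, index_ker, MonoidHom.range_eq_top.2 hφ, card_top]

end Cfsg.Agent.MK.T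
end

-- part: MO/S/Cov2/Enum
section
/-!
# MO, covers : the irreducible characters over a central character from virtual rows (helper53)

* `Lo Z l f` : `f (z * x) = l z * f x`; `Ir Z l` : the irreducible characters over `l`;
* `enum_core`, `enum_cov` : rows with the Gram matrix `gam m st` and `|Z| * ∑ b j * f j 1 = |X|` enumerate `Ir Z l`;
* `kk_cov`, `fA_cov` : the counts; `gk_of_one`, `gf_of_one` : one cover of prime degree suffices.
-/

set_option autoImplicit false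

namespace Cfsg.Agent.MO.S.Cov2

open Cfsg Finset Subgroup Cfsg.Agent.TAB.Eng Cfsg.Agent.Characters
open Cfsg.Agent.Characters.Core Cfsg.Agent.Characters.Brauer Cfsg.Agent.H447.CTab
open Cfsg.Agent.MK.S7 (inner_shift sum_sig card_fib)
open scoped ComplexConjugate

variable {X : Type} [Group X] {Z : Subgroup X} {l : X → ℂ}

/-- the function `f` lies over `l` -/
def Lo (Z : Subgroup X) (l f : X → ℂ) : Prop := ∀ z ∈ Z, ∀ x, f (z * x) = l z * f x

/-- the irreducible characters over `l` -/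
abbrev Ir (Z : Subgroup X) (l : X → ℂ) : Type := {χ : IrrCharacter X // ∀ z ∈ Z, (χ : X → ℂ) z = l z * (χ : X → ℂ) 1}

/-- the enumeration : `ix χ` is the position of `χ`, see `TAB.Eng.sig` -/
structure En [Fintype X] (Z : Subgroup X) (l : X → ℂ) (k ns : ℕ) (m st : ℕ → ℕ) (b : ℕ → ℤ) (f : ℕ → X → ℂ)
    (ix : Ir Z l → ℕ) : Prop where
  lt : ∀ χ, ix χ < k + ns
  cnt : ∀ y < k + ns, Nat.card {χ // ix χ = y} = mlt k m st y
  deg : ∀ χ, charDegree (χ.1 : X → ℂ) = (sdeg k st b (ix χ)).natAbs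
  inn : ∀ χ, ∀ j < k, classInner (f j) (χ.1 : X → ℂ) = (sig k st (fun y => (sdeg k st b y).sign) (ix χ) j : ℤ)

variable [Fintype X]

theorem inner_zero (hZ : Z ≤ center X) {f : X → ℂ} (h0 : Lo Z l f) (χ : IrrCharacter X)
    (h : ¬ ∀ z ∈ Z, (χ : X → ℂ) z = l z * (χ : X → ℂ) 1) : classInner f (χ : X → ℂ) = 0 := by
  by_contra h1
  refine h fun z hz => ?_
  obtain ⟨c, hc, hc1, -⟩ := ODD.Red.exists_central χ.2 (hZ hz)
  have h2 := inner_shift f hc
  have h3 : (fun x => f (z * x)) = l z • f := funext fun x => h0 z hz x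
  rw [h3, classInner_smul_left, ← mul_assoc] at h2
  have h4 : conj c * l z = 1 := mul_right_cancel₀ h1 (h2.symm.trans (one_mul _).symm)
  have h5 : ‖c‖ = 1 := Complex.norm_eq_one_of_pow_eq_one (hc1 _ (pow_orderOf_eq_one z)) (orderOf_pos z).ne'
  have h6 : c * conj c = 1 := by rw [Complex.mul_conj, Complex.normSq_eq_norm_sq, h5]; simp
  have h7 : l z = c := by rw [← one_mul (l z), ← h6, mul_assoc, h4, mul_one]
  rw [h7, ← hc, mul_one]

theorem sum_sq (hZ : Z ≤ center X) (μ : Z →* ℂˣ) (hl : ∀ z : Z, l z = μ z) [Fintype (Ir Z l)] :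
    (Nat.card Z : ℂ) * ∑ χ : Ir Z l, (χ.1 : X → ℂ) 1 * conj ((χ.1 : X → ℂ) 1) = Nat.card X := by
  classical
  have := finite_irr (G := X)
  have := Fintype.ofFinite (IrrCharacter X)
  have h3 := MK.T.col_over hZ μ 1 1
  rw [Finset.sum_eq_single 1 (fun z _ hz => ?_) (fun h => absurd (Finset.mem_univ _) h), map_one, inv_one, Units.val_one,
    one_mul, OneMemClass.coe_one, mul_one, if_pos (IsConj.refl 1),
    show centralizer ({1} : Set X) = ⊤ from eq_top_iff.2 fun x _ => mem_centralizer_singleton_iff.2 (by simp),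
    card_top] at h3
  · rw [← h3]
    congr 1
    exact (Finset.sum_subtype _ (fun χ => by
      rw [Finset.mem_filter, and_iff_right (Finset.mem_univ _)]
      exact ⟨fun h z hz => (hl ⟨z, hz⟩).symm ▸ h ⟨z, hz⟩, fun h z => hl z ▸ h z z.2⟩)
        fun χ : IrrCharacter X => (χ : X → ℂ) 1 * conj ((χ : X → ℂ) 1)).symm
  · rw [if_neg fun e => hz (Subtype.ext ?_), mul_zero]
    rw [one_mul] at e
    exact isConj_one_left.1 e

/-- **the enumeration**, the disjointness of the supports outside the stars is a hypothesis -/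
theorem enum_core (hZ : Z ≤ center X) (μ : Z →* ℂˣ) (hl : ∀ z : Z, l z = μ z) {k ns : ℕ} {m st : ℕ → ℕ}
    (hs : Shape k ns m st) (f : ℕ → X → ℂ) (hv : ∀ j < k, IsGeneralizedCharacter X (f j))
    (h0 : ∀ j < k, Lo Z l (f j)) (hG : ∀ i < k, ∀ j < k, classInner (f i) (f j) = (gam m st i j : ℤ))
    (e : ℕ → ℤ) (he : ∀ j < k, f j 1 = e j) (b : ℕ → ℤ) (hb : ∀ j < k, ∑ i ∈ range k, b i * gam m st i j = e j)
    (hN : Nat.card Z * ∑ j ∈ range k, b j * e j = Nat.card X)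
    (hp : ∀ [Fintype (Ir Z l)] (a : ℕ → Ir Z l → ℤ), (∀ i < k, ∀ j < k, a i ⬝ᵥ a j = gam m st i j) →
      (∀ j < k, ∀ x, f j x = ∑ χ : Ir Z l, a j χ * (χ.1 : X → ℂ) x) → ∀ χ, (∀ j < k, st j ≠ 0 → a j χ = 0) →
        ∑ j ∈ range k, (a j χ).natAbs ≤ 1) :
    ∃ ix, En Z l k ns m st b f ix := by
  classical
  have := finite_irr (G := X)
  have := Fintype.ofFinite (IrrCharacter X)
  let u : ℕ → IrrCharacter X → ℤ := fun j => if h : j < k then H447.CTab.mu (hv j h) else 0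
  have hu : ∀ j (h : j < k), u j = H447.CTab.mu (hv j h) := fun j h => dif_pos h
  have hui : ∀ j < k, ∀ χ : IrrCharacter X, classInner (f j) (χ : X → ℂ) = u j χ := fun j hj χ => by
    rw [hu j hj, inner_mu]
  have hsub : ∀ {M : Type} [AddCommMonoid M] (g : IrrCharacter X → M),
      (∀ χ : IrrCharacter X, (¬ ∀ z ∈ Z, (χ : X → ℂ) z = l z * (χ : X → ℂ) 1) → g χ = 0) →
      ∑ χ, g χ = ∑ χ : Ir Z l, g χ := fun g hg => by
    rw [← Finset.sum_subtype (Finset.univ.filter fun χ : IrrCharacter X => ∀ z ∈ Z, (χ : X → ℂ) z = l z * (χ : X → ℂ) 1)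
      (by simp only [_root_.Finset.mem_filter, _root_.Finset.mem_univ, _root_.true_and, _root_.implies_true]) g, Finset.sum_filter]
    refine Finset.sum_congr rfl fun χ _ => ?_
    split_ifs with h
    · rfl
    · exact hg χ h
  have hu0 : ∀ j < k, ∀ χ : IrrCharacter X, (¬ ∀ z ∈ Z, (χ : X → ℂ) z = l z * (χ : X → ℂ) 1) → u j χ = 0 :=
    fun j hj χ hc => by exact_mod_cast (hui j hj χ).symm.trans (inner_zero hZ (h0 j hj) χ hc)
  let a : ℕ → Ir Z l → ℤ := fun j χ => u j χ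
  have hGa : ∀ i < k, ∀ j < k, a i ⬝ᵥ a j = gam m st i j := fun i hi j hj => by
    have h1 := (hG i hi j hj).symm.trans (inner_sum_mu (hv i hi) (hv j hj))
    rw [← hu i hi, ← hu j hj, Int.cast_inj, hsub _ fun χ hc => by rw [hu0 i hi χ hc, zero_mul]] at h1
    exact h1.symm
  have hf : ∀ j < k, ∀ x, f j x = ∑ χ : Ir Z l, a j χ * (χ.1 : X → ℂ) x := fun j hj x => by
    rw [apply_mu (hv j hj) x, ← hu j hj, hsub _ fun χ hc => by rw [hu0 j hj χ hc, Int.cast_zero, zero_mul]]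
  choose d hd0 hd1 hd2 using fun χ : Ir Z l => degree_dvd χ.1
  have hda : ∀ j < k, a j ⬝ᵥ (fun χ => (d χ : ℤ)) = e j := fun j hj => by
    have h1 := (he j hj).symm.trans (hf j hj 1)
    simp only [hd1] at h1
    exact_mod_cast h1.symm
  have hdd : (fun χ => (d χ : ℤ)) ⬝ᵥ (fun χ => (d χ : ℤ)) = ∑ j ∈ range k, b j * e j := by
    have h1 := sum_sq hZ μ hl
    simp only [hd1, map_natCast] at h1
    have h2 : (Nat.card Z : ℤ) * ∑ χ, (d χ : ℤ) * d χ = Nat.card X := by exact_mod_cast h1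
    exact mul_left_cancel₀ (Nat.cast_ne_zero.2 Nat.card_pos.ne') (h2.trans hN.symm)
  have hdeg : ∀ χ, ∑ j ∈ range k, b j * a j χ = d χ := by
    have h1 : (∑ j ∈ range k, b j • a j) ⬝ᵥ (fun χ => (d χ : ℤ)) = ∑ j ∈ range k, b j * e j := by
      rw [sum_dotProduct]
      exact Finset.sum_congr rfl fun j hj => by rw [smul_dotProduct, hda j (mem_range.1 hj), smul_eq_mul]
    have h2 : (∑ j ∈ range k, b j • a j) ⬝ᵥ (∑ j ∈ range k, b j • a j) = ∑ j ∈ range k, b j * e j := by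
      rw [dotProduct_sum]
      refine Finset.sum_congr rfl fun j hj => ?_
      rw [dotProduct_smul, smul_eq_mul, ← hb j (mem_range.1 hj), sum_dotProduct]
      congr 1
      exact Finset.sum_congr rfl fun i hi => by
        rw [smul_dotProduct, hGa i (mem_range.1 hi) j (mem_range.1 hj), smul_eq_mul]
    have h3 : ((∑ j ∈ range k, b j • a j) - fun χ => (d χ : ℤ)) ⬝ᵥ ((∑ j ∈ range k, b j • a j) - fun χ => (d χ : ℤ)) = 0 := by
      rw [sub_dotProduct, dotProduct_sub, dotProduct_sub, h2, hdd, dotProduct_comm (fun χ => (d χ : ℤ)), h1]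
      ring
    intro χ
    have h4 := congrFun (dotProduct_self_eq_zero.1 h3) χ
    simp only [Pi.sub_apply, Finset.sum_apply, Pi.smul_apply, smul_eq_mul, Pi.zero_apply] at h4
    exact sub_eq_zero.1 h4
  have hcl : ∀ χ : Ir Z l, ∃ y < k + ns, sdeg k st b y ≠ 0 ∧
      ∀ j < k, a j χ = sig k st (fun y => (sdeg k st b y).sign) y j := fun χ =>
    classify hs a b hGa χ (by rw [hdeg]; exact_mod_cast hd0 χ) (hp a hGa hf χ)
  choose ix hix1 hix2 hix3 using hcl
  have hsg : ∀ χ, (sdeg k st b (ix χ)).sign = 1 ∨ (sdeg k st b (ix χ)).sign = -1 := fun χ =>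
    (lt_or_gt_of_ne (hix2 χ)).symm.imp Int.sign_eq_one_of_pos Int.sign_eq_neg_one_of_neg
  refine ⟨ix, hix1, count_sig hs a _ hGa ix (fun χ => by rcases hsg χ with h | h <;> simp only [h] <;> rfl) hix3,
    fun χ => ?_, fun χ j hj => by rw [hui j hj, ← hix3 χ j hj]⟩
  have h4 := hdeg χ
  rw [Finset.sum_congr rfl fun j hj => by rw [hix3 χ j (mem_range.1 hj)], sum_sig, Int.mul_sign_self] at h4
  rw [show charDegree (χ.1 : X → ℂ) = d χ by simp [charDegree, hd1]]
  exact_mod_cast h4.symm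

/-- **the enumeration** for norms at most two -/
theorem enum_cov (hZ : Z ≤ center X) (μ : Z →* ℂˣ) (hl : ∀ z : Z, l z = μ z) {k ns : ℕ} {m st : ℕ → ℕ}
    (hs : Shape k ns m st) (hm : ∀ j < k, m j ≤ 2) (f : ℕ → X → ℂ) (hv : ∀ j < k, IsGeneralizedCharacter X (f j))
    (h0 : ∀ j < k, Lo Z l (f j)) (hG : ∀ i < k, ∀ j < k, classInner (f i) (f j) = (gam m st i j : ℤ))
    (e : ℕ → ℤ) (he : ∀ j < k, f j 1 = e j) (b : ℕ → ℤ) (hb : ∀ j < k, ∑ i ∈ range k, b i * gam m st i j = e j)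
    (hN : Nat.card Z * ∑ j ∈ range k, b j * e j = Nat.card X)
    (hp : ∀ j < k, ∀ i < j, st j = 0 → st i = 0 → m j = 2 → m i = 2 → ∀ (χ : IrrCharacter X) (s c : ℤ),
      (s = 1 ∨ s = -1) → (c = 1 ∨ c = -1) → ¬ ∀ x, f j x + s * f i x = 2 * c * (χ : X → ℂ) x) :
    ∃ ix, En Z l k ns m st b f ix := by
  classical
  refine enum_core hZ μ hl hs f hv h0 hG e he b hb hN fun a hGa hf χ h6 => ?_
  have hdis : ∀ j < k, ∀ i < j, st j = 0 → st i = 0 → a j χ ≠ 0 → a i χ = 0 := fun j hj i hi sj si h1 => by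
    by_contra h2
    have hi' := hi.trans hj
    obtain ⟨h4, h5, s, c, h6, hc, h7⟩ := two_of_perp (hm j hj) (hm i hi') ((hGa j hj j hj).trans (if_pos rfl))
      ((hGa i hi' i hi').trans (if_pos rfl)) ((hGa j hj i hi').trans
        ((if_neg hi.ne').trans (if_neg fun h => h.2 sj))) h1 h2
    refine hp j hj i hi sj si h4 h5 χ.1 s c h6 hc fun x => ?_
    rw [hf j hj, hf i hi', Finset.mul_sum, ← Finset.sum_add_distrib,
      Finset.sum_congr rfl fun y _ => by rw [← mul_assoc, ← add_mul, ← Int.cast_mul, ← Int.cast_add, h7 y]]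
    simp only [apply_ite ((↑) : ℤ → ℂ), Int.cast_zero, ite_mul, zero_mul, Finset.sum_ite_eq', Finset.mem_univ,
      if_true, Int.cast_mul, Int.cast_ofNat]
  by_cases h5 : ∃ j < k, a j χ ≠ 0
  · obtain ⟨j, hj, h5⟩ := h5
    rw [Finset.sum_eq_single j (fun i hi hij => ?_) fun h => absurd (mem_range.2 hj) h]
    · exact abs_of_norm (hm j hj) ((hGa j hj j hj).trans (if_pos rfl)) χ
    · rw [Int.natAbs_eq_zero]
      by_contra h7
      have h8 : st j = 0 := by_contra fun h => h5 (h6 j hj h)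
      have h9 : st i = 0 := by_contra fun h => h7 (h6 i (mem_range.1 hi) h)
      rcases lt_or_gt_of_ne hij with h10 | h10
      · exact h7 (hdis j hj i h10 h8 h9 h5)
      · exact h5 (hdis i (mem_range.1 hi) j h10 h9 h8 h7)
  · push Not at h5
    rw [Finset.sum_eq_zero fun j hj => by rw [h5 j (mem_range.1 hj), Int.natAbs_zero]]
    exact Nat.zero_le _

/-- the separation by degrees -/
theorem sep_deg {f g : X → ℂ} {a b : ℤ} (ha : f 1 = a) (hb : g 1 = b) (h1 : ¬ a + b ∣ 2 * Nat.card X)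
    (h2 : ¬ a - b ∣ 2 * Nat.card X) (χ : IrrCharacter X) (s c : ℤ) (hs : s = 1 ∨ s = -1) (hc : c = 1 ∨ c = -1) :
    ¬ ∀ x, f x + s * g x = 2 * c * (χ : X → ℂ) x := fun h => by
  obtain ⟨d, -, h9, t, h10⟩ := degree_dvd χ
  have h11 := h 1
  rw [ha, hb, h9] at h11
  have h12 : a + s * b = 2 * c * d := by exact_mod_cast h11
  have h13 : a + s * b ∣ 2 * Nat.card X := ⟨c * t, by
    rw [h12, h10]
    rcases hc with rfl | rfl <;> push_cast <;> ring⟩
  rcases hs with rfl | rfl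
  · exact h1 (by rwa [one_mul] at h13)
  · exact h2 (by rwa [neg_one_mul, ← sub_eq_add_neg] at h13)

/-- the separation by parity -/
theorem sep_par {f g : X → ℂ} {a b : ℤ} {x : X} (ha : f x = a) (hb : g x = b) (h1 : (a + b) % 2 ≠ 0)
    (χ : IrrCharacter X) (s c : ℤ) (hs : s = 1 ∨ s = -1) : ¬ ∀ x, f x + s * g x = 2 * c * (χ : X → ℂ) x := fun h => by
  have h8 : c * (χ : X → ℂ) x + c * (χ : X → ℂ) x = ((a + s * b : ℤ) : ℂ) := by
    push_cast
    rw [← ha, ← hb, h x]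
    ring
  have h9 := TAB.Use.even_of_integral ((isIntegral_algebraMap (R := ℤ) (A := ℂ) (x := c)).mul
    (GaloisBasic.isIntegral_apply (isIrr_isCharacter χ.2) x)) h8
  rcases hs with rfl | rfl <;> omega

variable {k ns : ℕ} {m st : ℕ → ℕ} {b : ℕ → ℤ} {f : ℕ → X → ℂ}

/-- counting with a property which depends on the position only -/
theorem En.card {ix : Ir Z l → ℕ} (h : En Z l k ns m st b f ix) {r : (X → ℂ) → Prop} (q : ℕ → Prop) [DecidablePred q]
    (hq : ∀ χ : Ir Z l, r χ.1 ↔ q (ix χ)) :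
    Nat.card {θ : X → ℂ // IsIrrCharacter X θ ∧ (∀ z ∈ Z, θ z = l z * θ 1) ∧ r θ} =
      ∑ y ∈ range (k + ns), if q y then mlt k m st y else 0 := by
  have := finite_irr (G := X)
  have := Fintype.ofFinite (Ir Z l)
  rw [← Finset.sum_congr rfl fun y hy => by rw [← h.cnt y (mem_range.1 hy)], ← card_fib ix h.lt q]
  exact Nat.card_congr ⟨fun χ => ⟨⟨⟨χ.1, χ.2.1⟩, χ.2.2.1⟩, (hq _).1 χ.2.2.2⟩,
    fun χ => ⟨χ.1.1.1, χ.1.1.2, χ.1.2, (hq _).2 χ.2⟩, fun _ => rfl, fun _ => rfl⟩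

/-- the characters which are fixed by an automorphism -/
theorem En.fA {ix : Ir (center X) l → ℕ} (h : En (center X) l k ns m st b f ix) (p : ℕ) (α : MulAut X) (q : ℕ → Prop)
    [DecidablePred q] (hq : ∀ χ : Ir (center X) l, ¬ p ∣ (sdeg k st b (ix χ)).natAbs →
      ((∀ x, (χ.1 : X → ℂ) (α x) = (χ.1 : X → ℂ) x) ↔ q (ix χ))) :
    fA p l α = ∑ y ∈ range (k + ns), if ¬ p ∣ (sdeg k st b y).natAbs ∧ q y then mlt k m st y else 0 := by
  rw [← h.card (r := fun θ => ¬ p ∣ charDegree θ ∧ ∀ x, θ (α x) = θ x) _ fun χ => by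
    rw [h.deg]; exact and_congr_right (hq χ)]
  exact Nat.card_congr (Equiv.subtypeEquivRight fun θ =>
    ⟨fun h => ⟨h.1.1, h.2.1, h.1.2, h.2.2⟩, fun h => ⟨⟨h.1, h.2.2.1⟩, h.2.1, h.2.2.2⟩⟩)

/-- **the count** -/
theorem En.kk {ix : Ir (center X) l → ℕ} (h : En (center X) l k ns m st b f ix) (p : ℕ) :
    kk p ⊤ (center X) l = ∑ y ∈ range (k + ns), if ¬ p ∣ (sdeg k st b y).natAbs then mlt k m st y else 0 := by
  rw [← T.fA_one, h.fA p 1 (fun _ => True) fun χ _ => iff_of_true (fun _ => rfl) trivial]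
  simp only [and_true]

/-- a position outside the stars with norm one is the row up to sign -/
theorem En.eq_row {ix : Ir Z l → ℕ} (h : En Z l k ns m st b f ix) (χ : Ir Z l) (hk : ix χ < k)
    (hv : IsGeneralizedCharacter X (f (ix χ))) (h1 : classInner (f (ix χ)) (f (ix χ)) = 1) (x : X) :
    f (ix χ) x = (b (ix χ)).sign * (χ.1 : X → ℂ) x := by
  classical
  have := finite_irr (G := X)
  have := Fintype.ofFinite (IrrCharacter X)
  have h2 := (inner_mu hv χ.1).symm.trans (h.inn χ _ hk)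
  rw [sig, if_pos hk, if_pos rfl, sdeg, if_pos hk, Int.cast_inj] at h2
  have h3 : (b (ix χ)).natAbs ≠ 0 := by
    have h3 := h.deg χ
    obtain ⟨d, hd, hd1, -⟩ := degree_dvd χ.1
    rw [sdeg, if_pos hk, show charDegree (χ.1 : X → ℂ) = d by simp [charDegree, hd1]] at h3
    omega
  obtain ⟨ψ, -, h4⟩ := one_of_sum_sq (m := H447.CTab.mu hv) (by exact_mod_cast (inner_sum_mu hv hv).symm.trans h1)
  have h5 : χ.1 = ψ := by_contra fun e => h3 (by rw [Int.natAbs_eq_zero, ← Int.sign_eq_zero_iff_zero, ← h2, h4 _ e])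
  rw [apply_mu hv, Finset.sum_eq_single χ.1 (fun y _ hy => by rw [h4 y (h5 ▸ hy), Int.cast_zero, zero_mul])
    fun h => absurd (Finset.mem_univ _) h, h2]

/-! ### one cover suffices -/

section one

variable {S X₀ : Type} [Group S] [Group X₀] [Finite X₀] {φ₀ : X₀ →* S} {r n p c : ℕ}

omit [Fintype X] in
theorem iso_of_mult [Finite X] (hm : HasCyclicSchurMultiplier S n) (hr : r.Prime) (hn : ¬ r * r ∣ n) (v₀ : Cv r φ₀)
    {φ : X →* S} (v : Cv r φ) : ∃ e : X ≃* X₀, ∀ x, φ₀ (e x) = φ x := by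
  have a3 : Nat.card φ.ker = r := by rw [v.ker, v.card]
  have h3 : Nat.card φ₀.ker = r := by rw [v₀.ker, v₀.card]
  refine (H133.FibPce.dichotomy (π := φ) (ρ := φ₀) ⟨v.surj, v.ker.le, v.perf⟩ ⟨v₀.surj, v₀.ker.le, v₀.perf⟩ (h3 ▸ hr)
    (a3.trans h3.symm)).resolve_left fun h5 => ?_
  have h6 := H95.StemCover.card_ker_dvd_cyclic hm h5 _ (H133.FibPce.pj_surj v.surj v₀.surj)
    (H133.FibPce.pj_ker v.ker.le v₀.ker.le)
  rw [Nat.card_congr (H133.FibPce.kerFib φ φ₀).toEquiv, Nat.card_prod, a3, h3] at h6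
  exact hn h6

omit [Fintype X] [Finite X₀] in
theorem fl_congr (e : X ≃* X₀) {l : X → ℂ} (h : Fl X l) : Fl X₀ fun x => l (e.symm x) := by
  obtain ⟨μ, h1, h2⟩ := h
  let ι : center X₀ →* center X := (e.symm.toMonoidHom.comp (center X₀).subtype).codRestrict _ fun z =>
    (T.mem_center_congr e.symm z).2 z.2
  exact ⟨μ.comp ι, h1.comp fun a b hab => Subtype.ext (e.symm.injective (congrArg Subtype.val hab)), fun z => h2 (ι z)⟩

/-- **one cover suffices** -/
theorem gk_of_iso (hi : ∀ (Y : Type) [Group Y] [Finite Y] (φ : Y →* S), Cv r φ → Nonempty (Y ≃* X₀))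
    (h : ∀ l, Fl X₀ l → kk p ⊤ (center X₀) l = c) : GK p r S c := fun Y _ _ φ v l hl => by
  obtain ⟨e⟩ := hi Y φ v
  rw [← h _ (fl_congr e hl), ← T.fA_one, ← T.fA_one, T.fA_congr e (l := fun x => l (e.symm x)) (fun z _ => by simp) 1 1
    fun _ => rfl]

theorem gf_of_iso (hi : ∀ (Y : Type) [Group Y] [Finite Y] (φ : Y →* S), Cv r φ → Nonempty (Y ≃* X₀))
    (h : ∀ α : MulAut X₀, (∀ z ∈ center X₀, α z = z) → (¬ ∃ x, α = MulAut.conj x) → ∀ l, Fl X₀ l → fA p l α = c) :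
    GF p r S c := fun Y _ _ φ v α h1 h2 l hl => by
  obtain ⟨e⟩ := hi Y φ v
  rw [T.fA_congr e (l := fun x => l (e.symm x)) (fun z _ => by simp) α _ (T.congr_app e α)]
  refine h _ (fun z hz => ?_) (T.not_inn_congr e h2) _ (fl_congr e hl)
  obtain ⟨y, rfl⟩ := e.surjective z
  rw [T.congr_app, h1 y ((T.mem_center_congr e y).1 hz)]

theorem gk_of_one (hm : HasCyclicSchurMultiplier S n) (hr : r.Prime) (hn : ¬ r * r ∣ n) (v₀ : Cv r φ₀)
    (h : ∀ l, Fl X₀ l → kk p ⊤ (center X₀) l = c) : GK p r S c :=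
  gk_of_iso (fun _ _ _ _ v => (iso_of_mult hm hr hn v₀ v).elim fun e _ => ⟨e⟩) h

theorem gf_of_one (hm : HasCyclicSchurMultiplier S n) (hr : r.Prime) (hn : ¬ r * r ∣ n) (v₀ : Cv r φ₀)
    (h : ∀ α : MulAut X₀, (∀ z ∈ center X₀, α z = z) → (¬ ∃ x, α = MulAut.conj x) → ∀ l, Fl X₀ l → fA p l α = c) :
    GF p r S c :=
  gf_of_iso (fun _ _ _ _ v => (iso_of_mult hm hr hn v₀ v).elim fun e _ => ⟨e⟩) h

end one

end Cfsg.Agent.MO.S.Cov2
end

-- part: MO/S/M35/Loc
section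
/-!
# MO, small rows: the normaliser of an element with centraliser `p^(1+2n).2.S` (helper44)

`Lc` : the data; `Lc.k0_norm` : `k(N(P)) = p * k(Aut S)` if `Out S` has order two and the element is rational.
-/

set_option autoImplicit false

namespace Cfsg.Agent.MO.S.M35

open Cfsg Subgroup Cfsg.Agent.MO.T
open scoped commutatorElement

/-- the centraliser `C = Q.2.S` of `x` -/
structure Lc (p : ℕ) {G S : Type} [Group G] [Group S] (x : G) (C : Subgroup G) (ρ : C →* S) (Q P : Subgroup G)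
    (f : G → ZMod p) (z i : G) : Prop where
  ox : orderOf x = p
  hC : ∀ g, g ∈ C ↔ g * x = x * g
  pP : IsPGroup p P
  QP : Q ≤ P
  PC : P ≤ C
  xQ : x ∈ Q
  nQ : ∀ c ∈ C, ∀ q ∈ Q, c * q * c⁻¹ ∈ Q
  surj : Function.Surjective ρ
  ker : ∀ c, ρ c = 1 ↔ (c : G) ∈ Q ∨ c * z ∈ Q
  zC : z ∈ C
  inv : ∀ q ∈ Q, q * (z * q * z⁻¹) ∈ zpowers x
  iC : i ∈ C
  isq : ∀ q ∈ Q, q * (i * i * q * (i * i)⁻¹) ∈ zpowers x
  add : ∀ a ∈ Q, ∀ b ∈ Q, f (a * b) = f a + f b
  one : ∃ q ∈ Q, f q = 1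
  hU : ∀ q ∈ Q, f q = 0 → q ∈ ⁅Q, P⁆
  sep : ∀ q ∈ Q, (∀ c ∈ C, f (c * q * c⁻¹) = 0) → q ∈ zpowers x
  cm : ∃ a ∈ Q, ∃ b ∈ Q, a * b = x * (b * a)
  cen : ∀ y ∈ Q, (∀ q ∈ Q, q * y = y * q) → y ∈ zpowers x

/-- the simple group -/
structure Sg (p : ℕ) (S : Type) [Group S] : Prop where
  simple : IsSimpleGroup S
  big : ∃ s : S, ∀ n, s ^ (2 * p ^ n) ≠ 1
  out : (MulAut.conj : S →* MulAut S).range.index = 2

variable {p : ℕ} {G S : Type} [Group G] [Group S] {x : G} {C : Subgroup G} {ρ : C →* S} {Q P : Subgroup G}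
  {f : G → ZMod p} {z i : G}

/-- `h` acts on `Q / ⟨x⟩` as the scalar `a` -/
def Sc (C Q : Subgroup G) (f : G → ZMod p) (h : G) (a : ZMod p) : Prop :=
  ∀ c ∈ C, ∀ q ∈ Q, f (c * (h * q * h⁻¹) * c⁻¹) = a * f (c * q * c⁻¹)

theorem Sc.mul {g h : G} {a b : ZMod p} (h1 : Sc C Q f g a) (h2 : Sc C Q f h b) (hn : ∀ q ∈ Q, h * q * h⁻¹ ∈ Q) :
    Sc C Q f (g * h) (a * b) := fun c hc q hq => by
  rw [mul_assoc a, ← h2 c hc q hq, ← h1 c hc _ (hn q hq)]
  group

theorem Sc.act {g : G} {a : ZMod p} (h1 : Sc C Q f g a) {q : G} (hq : q ∈ Q) : f (g * q * g⁻¹) = a * f q := by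
  simpa only [one_mul, inv_one, mul_one] using h1 1 (one_mem _) q hq

theorem mem_of_sq {y : G} {n : ℕ} (ho : Odd p) (h1 : y ^ p ^ n = 1) (h2 : y * y ∈ Q) : y ∈ Q := by
  obtain ⟨k, hk⟩ := ho.pow (n := n)
  have h3 := pow_mem h2 (k + 1)
  rwa [← pow_two, ← pow_mul, show 2 * (k + 1) = p ^ n + 1 by omega, pow_succ, h1, one_mul] at h3

namespace Lc

variable (h : Lc p x C ρ Q P f z i)

include h

theorem QC : Q ≤ C := h.QP.trans h.PC

theorem comm {c y : G} (hc : c ∈ C) (hy : y ∈ zpowers x) : Commute c y := by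
  obtain ⟨n, rfl⟩ := hy
  exact (show Commute c x from (h.hC c).1 hc).zpow_right n

theorem f_x {y : G} (hy : y ∈ zpowers x) : f y = 0 := by
  have h0 : f x = 0 := by
    obtain ⟨a, ha, b, hb, e⟩ := h.cm
    have h1 := congrArg f e
    rw [h.add a ha b hb, h.add x h.xQ _ (mul_mem hb ha), h.add b hb a ha, add_comm (f b)] at h1
    exact right_eq_add.1 h1
  obtain ⟨n, rfl⟩ := hy
  obtain ⟨k, rfl | rfl⟩ := n.eq_nat_or_neg
  · simp only [zpow_natCast, add_pow' h.add h.xQ, h0, mul_zero]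
  · simp only [zpow_neg, zpow_natCast, add_inv' h.add (pow_mem h.xQ _), add_pow' h.add h.xQ, h0, mul_zero, neg_zero]

theorem f_mul {c q y : G} (hc : c ∈ C) (hq : q ∈ Q) (hy : y ∈ zpowers x) :
    f (c * (q * y) * c⁻¹) = f (c * q * c⁻¹) := by
  rw [show c * (q * y) * c⁻¹ = c * q * c⁻¹ * (c * y * c⁻¹) by group, (h.comm hc hy).eq, mul_inv_cancel_right,
    h.add _ (h.nQ c hc q hq) _ (zpowers_le.2 h.xQ hy), h.f_x hy, add_zero]

theorem sc_Q {y : G} (hy : y ∈ Q) : Sc C Q f y 1 := fun c hc q hq => by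
  have h1 := h.nQ c hc y hy
  have h2 := h.nQ c hc q hq
  rw [show c * (y * q * y⁻¹) * c⁻¹ = c * y * c⁻¹ * (c * q * c⁻¹) * (c * y * c⁻¹)⁻¹ by group,
    h.add _ (mul_mem h1 h2) _ (inv_mem h1), h.add _ h1 _ h2, add_inv' h.add h1]
  ring

theorem sc_neg {y : G} (hy : ∀ q ∈ Q, q * (y * q * y⁻¹) ∈ zpowers x) : Sc C Q f y (-1) := fun c hc q hq => by
  rw [← inv_mul_cancel_left q (y * q * y⁻¹), h.f_mul hc (inv_mem hq) (hy q hq), ← conj_inv,
    add_inv' h.add (h.nQ c hc q hq), neg_one_mul]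

theorem sc_eq {g : G} {a b : ZMod p} (h1 : Sc C Q f g a) (h2 : Sc C Q f g b) : a = b := by
  obtain ⟨q, hq, e⟩ := h.one
  have h3 := (h1.act hq).symm.trans (h2.act hq)
  rwa [e, mul_one, mul_one] at h3

theorem sc_zp [NeZero p] {g : G} {a : ZMod p} (h1 : Sc C Q f g a) (hn : ∀ q ∈ Q, g * q * g⁻¹ ∈ Q) {q : G} (hq : q ∈ Q) :
    (q ^ a.val)⁻¹ * (g * q * g⁻¹) ∈ zpowers x :=
  h.sep _ (mul_mem (inv_mem (pow_mem hq _)) (hn q hq)) fun c hc => by
    have h2 := h.nQ c hc q hq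
    rw [show c * ((q ^ a.val)⁻¹ * (g * q * g⁻¹)) * c⁻¹ = ((c * q * c⁻¹) ^ a.val)⁻¹ * (c * (g * q * g⁻¹) * c⁻¹) by
        rw [conj_pow]; group, h.add _ (inv_mem (pow_mem h2 _)) _ (h.nQ c hc _ (hn q hq)), h1 c hc q hq,
      add_inv' h.add (pow_mem h2 _), add_pow' h.add h2, ZMod.natCast_zmod_val, neg_add_cancel]

theorem sc_of_zp [NeZero p] {g : G} {a : ZMod p} (h1 : ∀ q ∈ Q, (q ^ a.val)⁻¹ * (g * q * g⁻¹) ∈ zpowers x) :
    Sc C Q f g a := fun c hc q hq => by
  rw [← mul_inv_cancel_left (q ^ a.val) (g * q * g⁻¹), h.f_mul hc (pow_mem hq _) (h1 q hq), ← conj_pow,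
    add_pow' h.add (h.nQ c hc q hq), ZMod.natCast_zmod_val]

/-- the action on the centre -/
theorem sc_x [NeZero p] {g : G} {a : ZMod p} (h1 : Sc C Q f g a) (hn : ∀ q ∈ Q, g * q * g⁻¹ ∈ Q) :
    g * x * g⁻¹ = x ^ (a.val * a.val) := by
  obtain ⟨A, hA, B, hB, e⟩ := h.cm
  have hx : x ∈ C := h.QC h.xQ
  have h2 : A ^ a.val * B ^ a.val = x ^ (a.val * a.val) * (B ^ a.val * A ^ a.val) := congrArg Subtype.val
    (MK.T.comm_pow (a := (⟨A, h.QC hA⟩ : C)) (b := ⟨B, h.QC hB⟩) (c := ⟨x, hx⟩)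
      (mem_center_iff.2 fun c => Subtype.ext ((h.hC c).1 c.2)) (Subtype.ext e) _ _)
  have h3 : g * A * g⁻¹ * (g * B * g⁻¹) = g * x * g⁻¹ * (g * B * g⁻¹ * (g * A * g⁻¹)) := by
    rw [conj_mul, conj_mul, conj_mul, e]
  have h4 := h.sc_zp h1 hn hA
  have h5 := h.sc_zp h1 hn hB
  rw [← mul_inv_cancel_left (A ^ a.val) (g * A * g⁻¹), ← mul_inv_cancel_left (B ^ a.val) (g * B * g⁻¹)] at h3
  generalize (A ^ a.val)⁻¹ * (g * A * g⁻¹) = u at h3 h4
  generalize (B ^ a.val)⁻¹ * (g * B * g⁻¹) = v at h3 h5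
  have h6 : ∀ {A B u v : G}, B ∈ C → u ∈ zpowers x → A * u * (B * v) = A * B * (u * v) := fun {A B u v} hB hu => by
    rw [mul_assoc A, ← mul_assoc u, ← (h.comm hB hu).eq, mul_assoc, mul_assoc]
  rw [h6 (pow_mem (h.QC hB) _) h4, h6 (pow_mem (h.QC hA) _) h5, h2,
    (h.comm (h.QC (zpowers_le.2 h.xQ h4)) h5).eq, mul_assoc] at h3
  exact (mul_right_cancel h3).symm

theorem rho_Q {q : C} (hq : (q : G) ∈ Q) : ρ q = 1 := (h.ker q).2 (Or.inl hq)

theorem rho_z : ρ ⟨z, h.zC⟩ = 1 := by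
  rw [← inv_eq_one, ← map_inv]
  exact (h.ker _).2 (Or.inr (by simp))

theorem zz : z * z ∈ Q := ((h.ker _).1 h.rho_z).elim (fun e => mul_mem e e) id

theorem two {u v : C} (hu : ρ u = 1) (hv : ρ v = 1) (h1 : (u : G) ∉ Q) (h2 : (v : G) ∉ Q) : (u : G) * v ∈ Q := by
  have h3 := mul_mem (mul_mem (((h.ker u).1 hu).resolve_left h1)
    (h.nQ _ (inv_mem h.zC) _ (((h.ker v).1 hv).resolve_left h2))) (inv_mem h.zz)
  rwa [show (u : G) * z * (z⁻¹ * (v * z) * z⁻¹⁻¹) * (z * z)⁻¹ = u * v by group] at h3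

theorem sq {u : C} (hu : ρ u = 1) : (u : G) * u ∈ Q :=
  (em _).elim (fun e => mul_mem e e) fun e => h.two hu hu e e

theorem sc_ker {u : C} (hu : ρ u = 1) : Sc C Q f u 1 ∨ Sc C Q f u (-1) :=
  ((h.ker u).1 hu).imp h.sc_Q fun e => by
    have h1 := (h.sc_Q (mul_mem e (inv_mem h.zz))).mul (h.sc_neg h.inv) (h.nQ z h.zC)
    rwa [one_mul, show (u : G) * z * (z * z)⁻¹ * z = u by group] at h1

/-- the action on `Q / ⟨x⟩` is faithful modulo `Q` -/
theorem mem_Q [hp : Fact p.Prime] (ho : Odd p) (s : Sg p S) {c : G} (hc : c ∈ C) (h1 : Sc C Q f c 1) : c ∈ Q := by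
  have := s.simple
  let T : Subgroup C :=
    { carrier := {c | Sc C Q f c 1}
      one_mem' := h.sc_Q (one_mem _)
      mul_mem' := fun {a b} ha hb => one_mul (1 : ZMod p) ▸ Sc.mul ha hb (h.nQ b b.2)
      inv_mem' := fun {a} ha d hd q hq => by
        have h2 := ha d hd _ (h.nQ _ (inv_mem a.2) q hq)
        rw [one_mul] at h2 ⊢
        rw [coe_inv, ← h2]
        group }
  have hT : T.Normal := ⟨fun a ha b d hd q hq => by
    have h2 := ha (d * b) (mul_mem hd b.2) _ (h.nQ _ (inv_mem b.2) q hq)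
    simp only [coe_mul, coe_inv]
    group at h2 ⊢
    exact h2⟩
  have hne : (-1 : ZMod p) ≠ 1 := fun e => by
    have h2 : ((2 : ℕ) : ZMod p) = 0 := by rw [Nat.cast_ofNat, ← one_add_one_eq_two]; nth_rw 1 [← e]; ring
    rw [ZMod.natCast_eq_zero_iff, Nat.prime_dvd_prime_iff_eq hp.out Nat.prime_two] at h2
    exact absurd (h2 ▸ ho) (by decide)
  rcases (hT.map ρ h.surj).eq_bot_or_eq_top with e | e
  · refine ((h.ker ⟨c, hc⟩).1 (mem_bot.1 (e ▸ mem_map_of_mem ρ h1))).resolve_right fun h2 => ?_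
    exact hne (h.sc_eq (one_mul (-1 : ZMod p) ▸ h1.mul (h.sc_neg h.inv) (h.nQ z h.zC)) (h.sc_Q h2))
  · exfalso
    obtain ⟨q₀, h0, h2⟩ := h.one
    have h3 : ∀ q ∈ Q, (q₀ ^ (f q).val)⁻¹ * q ∈ zpowers x := fun q hq => by
      have h4 := mul_mem (inv_mem (pow_mem h0 (f q).val)) hq
      have h5 : f ((q₀ ^ (f q).val)⁻¹ * q) = 0 := by
        rw [h.add _ (inv_mem (pow_mem h0 _)) _ hq, add_inv' h.add (pow_mem h0 _), add_pow' h.add h0, h2,
          ZMod.natCast_zmod_val, mul_one, neg_add_cancel]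
      refine h.sep _ h4 fun d hd => ?_
      obtain ⟨u, hu, h6⟩ := e.ge (mem_top (ρ ⟨d, hd⟩))
      have h7 : ρ (u⁻¹ * ⟨d, hd⟩) = 1 := by rw [map_mul, map_inv, h6, inv_mul_cancel]
      rcases h.sc_ker h7 with h8 | h8 <;>
      · have h9 := (Sc.mul hu h8 (h.nQ _ (u⁻¹ * ⟨d, hd⟩).2)).act h4
        rwa [h5, mul_zero, coe_mul, coe_inv, mul_inv_cancel_left] at h9
    obtain ⟨A, hA, B, hB, h4⟩ := h.cm
    have h5 : Commute A B := by
      rw [← mul_inv_cancel_left (q₀ ^ (f B).val) B]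
      refine Commute.mul_right ?_ (h.comm (h.QC hA) (h3 B hB))
      rw [← mul_inv_cancel_left (q₀ ^ (f A).val) A]
      exact ((Commute.refl q₀).pow_pow _ _).mul_left (h.comm (pow_mem (h.QC h0) _) (h3 A hA)).symm
    rw [h5.eq, right_eq_mul] at h4
    have h6 := h.ox
    rw [h4, orderOf_one] at h6
    exact hp.out.ne_one h6.symm

theorem small (s : Sg p S) {T : Subgroup C} (hT : T.Normal) (h1 : ∀ y ∈ T, ∃ n, y ^ (2 * p ^ n) = 1) {y : C}
    (hy : y ∈ T) : ρ y = 1 := by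
  have := s.simple
  rcases (hT.map ρ h.surj).eq_bot_or_eq_top with e | e
  · exact mem_bot.1 (e ▸ mem_map_of_mem ρ hy)
  · obtain ⟨a, ha⟩ := s.big
    obtain ⟨u, hu, rfl⟩ := e.ge (mem_top a)
    obtain ⟨n, hn⟩ := h1 u hu
    exact absurd (by rw [← map_pow, hn, map_one]) (ha n)

theorem pow_Q {q : G} (hq : q ∈ Q) : ∃ n, q ^ p ^ n = 1 := (h.pP ⟨q, h.QP hq⟩).imp fun _ e => congrArg Subtype.val e

section norm

variable (hK : ∀ k : G, k * x * k⁻¹ ∈ zpowers x)

include hK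

theorem normal_C : C.Normal := ⟨fun c hc k => (h.hC _).2 (by
  have h1 := (h.comm hc (hK k⁻¹)).eq
  calc k * c * k⁻¹ * x = k * (c * (k⁻¹ * x * k⁻¹⁻¹)) * k⁻¹ := by group
    _ = _ := by rw [h1]; group)⟩

omit hK in
theorem ker_conj [C.Normal] (s : Sg p S) (k : G) {c : C} (hc : ρ c = 1) : ρ (MulAut.conjNormal k c) = 1 :=
  h.small s (T := (ρ.comp (MulAut.conjNormal k⁻¹ : MulAut C).toMonoidHom).ker) inferInstance (fun y hy => by
    obtain ⟨n, hn⟩ := h.pow_Q (h.sq (u := MulAut.conjNormal k⁻¹ y) hy)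
    refine ⟨n, (MulAut.conjNormal k⁻¹ : MulAut C).injective ?_⟩
    rw [map_pow, map_one, pow_mul, pow_two]
    exact Subtype.ext hn) (by
      change ρ (MulAut.conjNormal k⁻¹ (MulAut.conjNormal k c)) = 1
      rwa [map_inv, MulAut.inv_apply_self])

theorem normal_Q (ho : Odd p) (s : Sg p S) : Q.Normal := by
  have := h.normal_C hK
  refine ⟨fun q hq k => ?_⟩
  obtain ⟨n, hn⟩ := h.pow_Q hq
  exact mem_of_sq (n := n) ho (by rw [conj_pow, hn, mul_one, mul_inv_cancel])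
    (h.sq (h.ker_conj s k (h.rho_Q (q := ⟨q, h.QC hq⟩) hq)))

omit hK in
theorem exists_pi [C.Normal] (s : Sg p S) :
    ∃ π : G →* MulAut S, ∀ k c, π k (ρ c) = ρ (MulAut.conjNormal k c) := by
  have h1 : ∀ k : G, ∃ φ : S →* S, ∀ c, φ (ρ c) = ρ (MulAut.conjNormal k c) := fun k =>
    ⟨ρ.liftOfSurjective h.surj ⟨ρ.comp (MulAut.conjNormal k : MulAut C).toMonoidHom, fun _ hc => h.ker_conj s k hc⟩,
      fun c => ρ.liftOfRightInverse_comp_apply _ _ _ c⟩
  choose φ hφ using h1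
  have h2 : ∀ k y, φ k⁻¹ (φ k y) = y := fun k y => by
    obtain ⟨c, rfl⟩ := h.surj y
    rw [hφ, hφ, map_inv, MulAut.inv_apply_self]
  refine ⟨MonoidHom.mk' (fun k => ⟨⟨φ k, φ k⁻¹, h2 k, fun y => by simpa only [inv_inv] using h2 k⁻¹ y⟩, map_mul _⟩)
    fun k l => MulEquiv.ext fun y => ?_, hφ⟩
  obtain ⟨c, rfl⟩ := h.surj y
  change φ _ _ = φ _ (φ _ _)
  rw [hφ, hφ, hφ, map_mul, MulAut.mul_apply]

omit hK in
/-- an element which centralises `C / Q⟨z⟩` centralises `C / Q` -/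
theorem cen_Q [Fact p.Prime] [C.Normal] [hQ : Q.Normal] (ho : Odd p) (s : Sg p S) {g : G}
    (hg : ∀ c, ρ (MulAut.conjNormal g c) = ρ c) {c : G} (hc : c ∈ C) : g * c * g⁻¹ * c⁻¹ ∈ Q := by
  have := s.simple
  have e1 : ∀ a b : G, g * (a * b) * g⁻¹ * (a * b)⁻¹ = g * a * g⁻¹ * a⁻¹ * (a * (g * b * g⁻¹ * b⁻¹) * a⁻¹) :=
    fun a b => by group
  let T : Subgroup C :=
    { carrier := {c | g * c * g⁻¹ * (c : G)⁻¹ ∈ Q}
      one_mem' := by simp only [_root_.Set.mem_ofPred_eq, _root_.OneMemClass.coe_one, _root_.mul_one, _root_.mul_inv_cancel, _root_.inv_one, _root_.OneMemClass.one_mem]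
      mul_mem' := fun {a b} ha hb => by
        change g * (a * b) * g⁻¹ * ((a : G) * b)⁻¹ ∈ Q
        rw [e1]
        exact mul_mem ha (hQ.conj_mem _ hb _)
      inv_mem' := fun {a} ha => by
        have h1 := hQ.conj_mem _ (inv_mem ha) (a : G)⁻¹
        change g * (a : G)⁻¹ * g⁻¹ * (a : G)⁻¹⁻¹ ∈ Q
        group at h1 ⊢
        exact h1 }
  have h1 : ∀ a : C, ρ (MulAut.conjNormal g a * a⁻¹) = 1 := fun a => by rw [map_mul, hg, map_inv, mul_inv_cancel]
  have h2 : ∀ a b : C, a ∉ T → b ∉ T → a * b ∈ T := fun a b ha hb => by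
    change g * (a * b) * g⁻¹ * ((a : G) * b)⁻¹ ∈ Q
    rw [e1]
    exact h.two (h1 a) (v := a * (MulAut.conjNormal g b * b⁻¹) * a⁻¹)
      (by rw [map_mul, map_mul, h1, mul_one, map_inv, mul_inv_cancel]) ha fun e => hb (hQ.mem_comm_iff.1 (by
        have h3 := hQ.conj_mem _ e (a : G)⁻¹
        refine hQ.mem_comm_iff.1 ?_
        simp only [coe_mul, coe_inv, MulAut.conjNormal_apply] at h3
        group at h3 ⊢
        exact h3))
  have h3 : ∀ a : C, a * a ∈ T := fun a => (em _).elim (fun e => mul_mem e e) fun e => h2 a a e e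
  have h4 : ∀ a : C, (a : G) ∈ Q → a ∈ T := fun a ha => mul_mem (hQ.conj_mem _ ha g) (inv_mem ha)
  have h5 : (⟨z, h.zC⟩ : C) ∈ T := by
    have h6 := (h.sc_neg h.isq).mul (h.sc_neg h.inv) (h.nQ z h.zC)
    rw [neg_mul_neg, one_mul] at h6
    exact (mul_mem_cancel_left (h3 ⟨i, h.iC⟩)).1
      (h4 _ (h.mem_Q ho s (mul_mem (mul_mem h.iC h.iC) h.zC) h6))
  have h6 : ∀ a : C, ρ a = 1 → a ∈ T := fun a ha =>
    ((h.ker a).1 ha).elim (h4 a) fun e => (mul_mem_cancel_right h5).1 (h4 _ e)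
  have h7 : T.Normal := ⟨fun a ha b => (em (b ∈ T)).elim (fun e => mul_mem (mul_mem e ha) (inv_mem e)) fun e =>
    h2 _ _ (fun e' => e ((mul_mem_cancel_right ha).1 e')) fun e' => e (inv_mem_iff.1 e')⟩
  rcases (h7.map ρ h.surj).eq_bot_or_eq_top with e | e
  · obtain ⟨a, ha⟩ := s.big
    obtain ⟨u, rfl⟩ := h.surj a
    refine absurd ?_ (ha 0)
    rw [pow_zero, mul_one, pow_two, ← map_mul]
    exact mem_bot.1 (e ▸ mem_map_of_mem ρ (h3 u))
  · obtain ⟨u, hu, h8⟩ := e.ge (mem_top (ρ ⟨c, hc⟩))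
    exact (mul_mem_cancel_left (inv_mem hu)).1 (h6 (u⁻¹ * ⟨c, hc⟩) (by rw [map_mul, map_inv, h8, inv_mul_cancel]))

omit hK in
/-- such an element acts as a scalar -/
theorem exists_sc [Finite G] [Fact p.Prime] [hQ : Q.Normal] {g : G} (hg : ∀ c ∈ C, g * c * g⁻¹ * c⁻¹ ∈ Q) :
    ∃ a, Sc C Q f g a := by
  obtain ⟨q₀, h0, h1⟩ := h.one
  have h2 : ⁅Q, P⁆ ≤ (⁅Q, P⁆).comap (MulAut.conj g).toMonoidHom := commutator_le.2 fun a ha b hb => by
    rw [mem_comap, map_commutatorElement]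
    refine commutator_mem_commutator (hQ.conj_mem _ ha g) ?_
    have h3 := mul_mem (h.QP (hg b (h.PC hb))) hb
    rwa [inv_mul_cancel_right] at h3
  have ha : ∀ q ∈ Q, f (g * q * g⁻¹) = f (g * q₀ * g⁻¹) * f q := fun q hq => by
    have h3 : (q₀ ^ (f q).val)⁻¹ * q ∈ Q := mul_mem (inv_mem (pow_mem h0 _)) hq
    have h4 : f (g * ((q₀ ^ (f q).val)⁻¹ * q) * g⁻¹) = 0 := form_comm h.pP h.QP h.add h.hU (h2 (h.hU _ h3 (by
      rw [h.add _ (inv_mem (pow_mem h0 _)) _ hq, add_inv' h.add (pow_mem h0 _), add_pow' h.add h0, h1,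
        ZMod.natCast_zmod_val, mul_one, neg_add_cancel])))
    rw [show g * q * g⁻¹ = (g * q₀ * g⁻¹) ^ (f q).val * (g * ((q₀ ^ (f q).val)⁻¹ * q) * g⁻¹) by rw [conj_pow]; group,
      h.add _ (pow_mem (hQ.conj_mem _ h0 g) _) _ (hQ.conj_mem _ h3 g), h4, add_pow' h.add (hQ.conj_mem _ h0 g),
      ZMod.natCast_zmod_val, add_zero, mul_comm]
  refine ⟨f (g * q₀ * g⁻¹), fun c hc q hq => ?_⟩
  rw [← ha _ (h.nQ c hc q hq), ← one_mul (f (g * (c * q * c⁻¹) * g⁻¹)),
    ← (h.sc_Q (inv_mem (hg c hc))).act (hQ.conj_mem _ (h.nQ c hc q hq) g)]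
  group

/-- **the count for the normaliser of `⟨x⟩`** -/
theorem k0_eq [Finite G] [hp : Fact p.Prime] (ho : Odd p) (s : Sg p S) {n : ℕ} (ih : IH p n) (hn : Nat.card G < n)
    (P₀ : Sylow p G) (hP : P = P₀) {g : G} {r : ℕ} (hg : g * x * g⁻¹ = x ^ r) (h1 : ∀ a : ZMod p, a * a ≠ r)
    (h2 : ∀ u : ZMod p, u ≠ 0 → ∃ j : ℕ, u = r ^ j) : k0 p G = p * k0 p (MulAut S) := by
  subst hP
  have := h.normal_C hK
  have hQ := h.normal_Q hK ho s
  obtain ⟨π, hπ⟩ := h.exists_pi s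
  have nq : ∀ g, ∀ q ∈ Q, g * q * g⁻¹ ∈ Q := fun g q hq => hQ.conj_mem q hq g
  have hC : ∀ c : C, π c = MulAut.conj (ρ c) := fun c => MulEquiv.ext fun y => by
    obtain ⟨d, rfl⟩ := h.surj y
    rw [hπ, MulAut.conj_apply, ← map_inv, ← map_mul, ← map_mul]
    rfl
  have hs : ∀ k, π k = 1 → ∃ a, Sc C Q f k a := fun k hk =>
    h.exists_sc fun c hc => h.cen_Q ho s (fun d => by rw [← hπ, hk, MulAut.one_apply]) hc
  have hx : ∀ {k a} {m : ℕ}, Sc C Q f k a → k * x * k⁻¹ = x ^ m → a * a = m := fun {k a m} e1 e2 => by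
    rw [h.sc_x e1 (nq k), pow_eq_pow_iff_modEq, h.ox, ← ZMod.natCast_eq_natCast_iff, Nat.cast_mul,
      ZMod.natCast_zmod_val] at e2
    exact e2
  have hi : ∀ {k} {m : ℕ}, π k ∈ (MulAut.conj : S →* MulAut S).range → k * x * k⁻¹ = x ^ m →
      ∃ t a, π t = 1 ∧ Sc C Q f t a ∧ a * a = m := fun {k m} ⟨y, e1⟩ e2 => by
    obtain ⟨c, rfl⟩ := h.surj y
    have e3 : π ((c : G)⁻¹ * k) = 1 := by rw [map_mul, map_inv, hC, e1, inv_mul_cancel]
    obtain ⟨a, ha⟩ := hs _ e3
    refine ⟨_, a, e3, ha, hx ha ?_⟩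
    rw [show (c : G)⁻¹ * k * x * ((c : G)⁻¹ * k)⁻¹ = (c : G)⁻¹ * (k * x * k⁻¹) * c by group, e2, mul_assoc,
      ← (h.comm c.2 (pow_mem (mem_zpowers x) m)).eq, inv_mul_cancel_left]
  have h3 : π g ∉ (MulAut.conj : S →* MulAut S).range := fun e => by
    obtain ⟨-, a, -, -, ha⟩ := hi e hg
    exact h1 a ha
  obtain ⟨t, ht, h4⟩ : ∃ t, π t = 1 ∧ Sc C Q f t r := by
    obtain ⟨t, a, e1, e2, e3⟩ := hi (k := g * g) (m := r * r) (map_mul π g g ▸ mul_self_mem_of_index_two s.out _) (by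
      rw [show g * g * x * (g * g)⁻¹ = g * (g * x * g⁻¹) * g⁻¹ by group, hg, ← conj_pow, hg, pow_mul])
    rw [Nat.cast_mul] at e3
    rcases mul_self_eq_mul_self_iff.1 e3 with rfl | rfl
    · exact ⟨t, e1, e2⟩
    · refine ⟨t * z, by rw [map_mul, e1, hC ⟨z, h.zC⟩, h.rho_z, map_one, one_mul], ?_⟩
      simpa only [neg_mul_neg, mul_one] using e2.mul (h.sc_neg h.inv) (nq z)
  have h5 : ∀ k, Sc C Q f k 1 → k ∈ Q := fun k hk => by
    have : Fact (1 < p) := ⟨hp.out.one_lt⟩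
    have e := h.sc_x hk (nq k)
    rw [ZMod.val_one, mul_one, pow_one, mul_inv_eq_iff_eq_mul] at e
    exact h.mem_Q ho s ((h.hC k).2 e) hk
  refine ih.k0_scal hn (π := π) (Q := Q) (f := f) (t := t) (c := r)
    ⟨fun γ => ?_, h.add, h.one, fun q hq => h4.act hq, fun e => h1 1 (by rw [e, mul_one]), h2, fun k => h5 _ ?_,
      fun q hq => by rw [hC ⟨q, h.QC hq⟩, h.rho_Q hq, map_one], ht, fun k e1 e2 => ?_⟩ (h.pP.to_le h.QP) P₀ h.hU
  · by_cases e : γ ∈ (MulAut.conj : S →* MulAut S).range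
    · obtain ⟨y, rfl⟩ := e
      obtain ⟨c, rfl⟩ := h.surj y
      exact ⟨c, hC c⟩
    · obtain ⟨y, e1⟩ := (mul_mem_iff_of_index_two s.out).2 (iff_of_false e fun e' => h3 (inv_mem_iff.1 e'))
      obtain ⟨c, rfl⟩ := h.surj y
      exact ⟨c * g, by rw [map_mul, hC, e1, inv_mul_cancel_right]⟩
  · have e1 : Sc C Q f (k * t * k⁻¹) r := h.sc_of_zp fun q hq => by
      obtain ⟨m, hm⟩ := h.sc_zp h4 (nq t) (nq k⁻¹ q hq)
      have e2 := zpow_mem (hK k) m
      rw [conj_zpow, show x ^ m = _ from hm, conj_pow] at e2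
      group at e2 ⊢
      exact e2
    intro c hc q hq
    have e2 := h4 c hc _ (nq t⁻¹ q hq)
    rw [one_mul, show c * q * c⁻¹ = c * (t * (t⁻¹ * q * t⁻¹⁻¹) * t⁻¹) * c⁻¹ by group, e2, ← e1 c hc _ (nq t⁻¹ q hq)]
    group
  · obtain ⟨a, ha⟩ := hs k e1
    obtain ⟨q, hq, e3⟩ := h.one
    have e4 := ha.act hq
    rw [e2 q hq, e3, mul_one] at e4
    exact h5 k (e4 ▸ ha)

end norm

/-- the data in a subgroup which contains the centraliser -/
theorem sub {K : Subgroup G} (hK : C ≤ K) : Lc p (⟨x, hK (h.QC h.xQ)⟩ : K) (C.subgroupOf K)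
    (ρ.comp (subgroupOfEquivOfLe hK).toMonoidHom) (Q.subgroupOf K) (P.subgroupOf K) (fun k => f k) ⟨z, hK h.zC⟩
    ⟨i, hK h.iC⟩ where
  ox := by rw [orderOf_mk, h.ox]
  hC g := (h.hC g).trans ⟨fun e => Subtype.ext e, fun e => congrArg Subtype.val e⟩
  pP := h.pP.of_equiv (subgroupOfEquivOfLe (h.PC.trans hK)).symm
  QP := comap_mono h.QP
  PC := comap_mono h.PC
  xQ := h.xQ
  nQ c hc q hq := h.nQ c hc q hq
  surj := h.surj.comp (subgroupOfEquivOfLe hK).surjective
  ker c := h.ker _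
  zC := h.zC
  inv q hq := (h.inv q hq).imp fun _ e => Subtype.ext e
  iC := h.iC
  isq q hq := (h.isq q hq).imp fun _ e => Subtype.ext e
  add a ha b hb := h.add a ha b hb
  one := h.one.elim fun q hq => ⟨⟨q, hK (h.QC hq.1)⟩, hq⟩
  hU q hq e := by
    have h1 : ⁅Q, P⁆ ≤ (⁅Q.subgroupOf K, P.subgroupOf K⁆).map K.subtype := commutator_le.2 fun a ha b hb =>
      ⟨⁅(⟨a, hK (h.QC ha)⟩ : K), ⟨b, hK (h.PC hb)⟩⁆, commutator_mem_commutator ha hb, rfl⟩
    obtain ⟨y, h2, h3⟩ := h1 (h.hU _ hq e)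
    rwa [← show y = q from Subtype.ext h3]
  sep q hq e := (h.sep q hq fun c hc => e ⟨c, hK hc⟩ hc).imp fun _ e => Subtype.ext e
  cm := by
    obtain ⟨a, ha, b, hb, e⟩ := h.cm
    exact ⟨⟨a, hK (h.QC ha)⟩, ha, ⟨b, hK (h.QC hb)⟩, hb, Subtype.ext e⟩
  cen y hy e := (h.cen y hy fun q hq => congrArg Subtype.val (e ⟨q, hK (h.QC hq)⟩ hq)).imp fun _ e => Subtype.ext e

end Lc

/-- **the count for the normaliser of a Sylow subgroup** -/
theorem Lc.k0_norm [Finite G] [IsSimpleGroup G] [hp : Fact p.Prime] {P : Sylow p G} (h : Lc p x C ρ Q P f z i) (ho : Odd p)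
    (s : Sg p S) (ih : IH p (Nat.card G)) {r : ℕ} (hg : IsConj x (x ^ r)) (h1 : ∀ a : ZMod p, a * a ≠ r)
    (h2 : ∀ u : ZMod p, u ≠ 0 → ∃ j : ℕ, u = r ^ j) :
    k0 p (normalizer ((P : Subgroup G) : Set G)) = p * k0 p (MulAut S) := by
  let K := normalizer (zpowers x : Set G)
  have hK : ∀ k, k * x * k⁻¹ ∈ zpowers x → k ∈ K := fun k hk => mem_normalizer_fintype (by
    rintro _ ⟨n, rfl⟩
    rw [← conj_zpow]
    exact zpow_mem hk n)
  have hCK : C ≤ K := fun c hc => hK c (by rw [(h.hC c).1 hc, mul_inv_cancel_right]; exact mem_zpowers x)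
  have hN : normalizer ((P : Subgroup G) : Set G) ≤ K := fun k hk => hK k (by
    have e1 := (mem_normalizer_iff.1 hk x).1 (h.QP h.xQ)
    have e2 : ∀ q ∈ Q, q * (k * x * k⁻¹) = k * x * k⁻¹ * q := fun q hq => by
      have e3 := (h.hC _).1 (h.PC ((mem_normalizer_iff''.1 hk q).1 (h.QP hq)))
      calc q * (k * x * k⁻¹) = k * (k⁻¹ * q * k * x) * k⁻¹ := by group
        _ = _ := by rw [e3]; group
    refine h.cen _ (h.mem_Q ho s (h.PC e1) fun c hc q hq => ?_) e2
    rw [← e2 q hq, mul_inv_cancel_right, one_mul])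
  have hlt : Nat.card K < Nat.card G := by
    refine lt_of_le_of_ne (card_le_card_group K) fun e => ?_
    obtain ⟨a, ha, b, hb, e1⟩ := h.cm
    have hx : x ≠ 1 := fun e2 => hp.out.ne_one (by rw [← h.ox, e2, orderOf_one])
    rcases (normalizer_eq_top_iff.1 (eq_top_of_card_eq K e)).eq_bot_or_eq_top with e2 | e2
    · exact hx (zpowers_eq_bot.1 e2)
    · rw [(h.comm (h.QC ha) (e2.ge (mem_top b))).eq, right_eq_mul] at e1
      exact hx e1
  obtain ⟨g, hg⟩ := isConj_iff.1 hg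
  rw [← ih.k0_sub hlt P hN]
  exact (h.sub hCK).k0_eq (fun k => ((mem_normalizer_iff.1 k.2 x).1 (mem_zpowers x)).imp fun _ e => Subtype.ext e) ho s
    ih hlt (P.subtype (le_normalizer.trans hN)) rfl (g := ⟨g, hK g (hg ▸ pow_mem (mem_zpowers x) r)⟩) (Subtype.ext hg)
    h1 h2

end Cfsg.Agent.MO.S.M35
end

private theorem dce_6b8cfbcee798 : _root_.True := by
  try have : _root_.True := by simp only [_root_.Cfsg.Agent.MO.kk.eq_1]
  try have : _root_.True := by simp only [_root_.Cfsg.Agent.MO.L.enc.eq_1]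
  try have : _root_.True := by simp only [_root_.Cfsg.Agent.MO.S.M35.Aff.cl.eq_1]
  try have : _root_.True := by simp only [_root_.Cfsg.Agent.MO.S.Mat.cm.eq_1]
  try have : _root_.True := by simp only [_root_.Cfsg.Agent.MO.L.chk.eq_1]
  try have : _root_.True := by simp only [_root_.Cfsg.Agent.MO.T.f0.eq_1]
  try have : _root_.True := by simp only [_root_.Cfsg.Agent.MO.L.tab.eq_1]
  try have : _root_.True := by simp only [_root_.Cfsg.Agent.MO.S.M7.toQ.eq_1]
  try have : _root_.True := by simp only [_root_.Cfsg.Agent.MO.T.k0.eq_1]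
  try have : _root_.True := by simp only [_root_.Cfsg.Agent.MO.L.memB.eq_1]
  try have : _root_.True := by simp only [_root_.Cfsg.Agent.MO.L.idM.eq_1]
  try have : _root_.True := by simp only [_root_.Cfsg.Agent.MO.S.Mat.cmt.eq_1]
  try have : _root_.True := by simp only [_root_.Cfsg.Agent.MO.L.lst.eq_1]
  try have : _root_.True := by simp only [_root_.Cfsg.Agent.MO.L.chkM.eq_1]
  try have : _root_.True := by simp only [_root_.Cfsg.Agent.MO.S.M7.allQ.eq_1]
  try have : _root_.True := by simp only [_root_.Cfsg.Agent.MO.S.Mat.Cl.eq_1]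
  try have : _root_.True := by simp only [_root_.Cfsg.Agent.MO.T.fx.eq_1]
  try have : _root_.True := by simp only [_root_.Cfsg.Agent.MO.L.cd.eq_1]
  try have : _root_.True := by simp only [_root_.Cfsg.Agent.MO.S.Mat.Nr.eq_1]
  try have : _root_.True := by simp only [_root_.Cfsg.Agent.MO.L.img.eq_1]
  try have : _root_.True := by simp only [_root_.Cfsg.Agent.MO.S.M7.cnt.eq_1]
  try have : _root_.True := by simp only [_root_.Cfsg.Agent.MO.S.Mat.ky.eq_1]
  try have : _root_.True := by simp only [_root_.Cfsg.Agent.MO.S.M7.eqQ.eq_1]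
  try have : _root_.True := by simp only [_root_.Cfsg.Agent.MO.L.mon.eq_1]
  try have : _root_.True := by simp only [_root_.Cfsg.Agent.MO.S.M7.fix.eq_1]
  try have : _root_.True := by simp only [_root_.Cfsg.Agent.MO.L.allB.eq_1]
  try have : _root_.True := by simp only [_root_.Cfsg.Agent.MO.S.M7.mul.eq_1]
  exact _root_.True.intro
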